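import Cfsg.Agent.Lib.SUCover.Emb
import Cfsg.Agent.Lib.StemEll.Lift
import Cfsg.Agent.Lib.UnitaryOrder
import Cfsg.Agent.S0281

/-!
`SU_n(q)` is generated by elements of `p`-power order; orders; the centre.
-/

set_option autoImplicit false
set_option linter.unusedSectionVars false

namespace CfsgLib.SUCover

open Matrix
open CfsgLib.StemEll (PGen)
open CfsgLib.UnitaryTransvection (frob frob_apply)
open CfsgLib.UnitarySimple (mat mkSU su_ext mat_mul mat_one)

universe u

variable {F : Type u} [Field F] [Fintype F] {q : ℕ} (hF : Fintype.card F = q ^ 2)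

include hF

theorem q_gt_one : 1 < q := (UnitaryBasic.frob_exists hF).1

theorem q_pow {p : ℕ} [CharP F p] : p.Prime ∧ ∃ j, 0 < j ∧ q = p ^ j := by
  obtain ⟨d, hpp, hcard⟩ := FiniteField.card F p
  obtain ⟨j, -, hj⟩ := (Nat.dvd_prime_pow hpp).mp
    (show q ∣ p ^ (d : ℕ) from ⟨q, by rw [← hcard, hF, sq]⟩)
  refine ⟨hpp, j, ?_, hj⟩
  rcases Nat.eq_zero_or_pos j with rfl | h
  · rw [hj] at hF
    have := Fintype.one_lt_card (α := F)
    simp at hF
    omega
  · exact h

theorem exists_K : ∃ (K : Type u) (_ : Field K) (_ : Fintype K), Fintype.card K = q := by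
  classical
  obtain ⟨p, hp⟩ := CharP.exists F
  obtain ⟨hpp, j, hj0, hj⟩ := q_pow hF (p := p)
  haveI := Fact.mk hpp
  let K := ULift.{u} (GaloisField p j)
  haveI : Fintype K := Fintype.ofFinite K
  refine ⟨K, inferInstance, inferInstance, ?_⟩
  rw [Fintype.card_eq_nat_card, Nat.card_congr Equiv.ulift, GaloisField.card p j (by omega), hj]

/-- `|GU| = (q+1) |SU|`. -/
theorem card_GU_SU {n : ℕ} (hn : 1 ≤ n) :
    Nat.card (Cfsg.GU n F q) = (q + 1) * Nat.card (Cfsg.SU n F q) := UnitaryOrder.card_GU_eq hF hn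

theorem su_one_subsingleton {n : ℕ} (hn : n ≤ 1) : Subsingleton (Cfsg.SU n F q) := by
  refine ⟨fun a b => su_eq_of_mat ?_⟩
  interval_cases n
  · exact Subsingleton.elim _ _
  · ext i j
    fin_cases i; fin_cases j
    have ha : (mat a).det = 1 := a.1.2
    have hb : (mat b).det = 1 := b.1.2
    rw [Matrix.det_fin_one] at ha hb
    exact ha.trans hb.symm

omit hF in
theorem one_add_nilpotent_pow {m : ℕ} {N : Matrix (Fin m) (Fin m) F} (hN : N * N = 0) (k : ℕ) :
    (1 + N) ^ k = 1 + (k : F) • N := by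
  induction k with
  | zero => simp
  | succ k ih =>
    rw [pow_succ, ih, add_mul, Matrix.one_mul, Matrix.smul_mul, Matrix.mul_add, Matrix.mul_one, hN, add_zero]
    push_cast
    rw [add_smul, one_smul]
    abel

theorem tset_order {n : ℕ} {p : ℕ} [CharP F p] {g : Cfsg.SU n F q}
    (hg : g ∈ UnitarySimple.TSet (F := F) (q := q) (n := n)) : g ^ p = 1 := by
  obtain ⟨v, c, hv, hg⟩ := hg
  apply su_eq_of_mat
  have hpow : ∀ k : ℕ, mat (g ^ k) = mat g ^ k := fun k => by
    induction k with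
    | zero => rfl
    | succ k ih => rw [pow_succ, mat_mul, ih, pow_succ]
  have hN : (c • Matrix.vecMulVec v fun j => v j ^ q) * (c • Matrix.vecMulVec v fun j => v j ^ q) = 0 := by
    rw [Matrix.smul_mul, Matrix.mul_smul, Matrix.vecMulVec_mul_vecMulVec]
    have h0 : (fun j => v j ^ q) ⬝ᵥ v = 0 := by rw [dotProduct_comm]; exact hv
    simp [h0]
  rw [hpow, hg, Cfsg.unitaryTransvection, one_add_nilpotent_pow hN, CharP.cast_eq_zero, zero_smul, add_zero]
  rfl

theorem pgen_two {p : ℕ} [CharP F p] : PGen p (⊤ : Subgroup (Cfsg.SU 2 F q)) := by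
  obtain ⟨K, _, _, hK⟩ := exists_K hF
  obtain ⟨e⟩ := Cfsg.Agent.S0281.result (F := F) hF hK
  obtain ⟨hpp, j, -, hj⟩ := q_pow hF (p := p)
  haveI := Fact.mk hpp
  haveI : CharP K p := charP_of_card_eq_prime_pow (f := j) (by rw [hK, hj])
  have key : ∀ A : Matrix.SpecialLinearGroup (Fin 2) K,
      A ∈ Subgroup.closure {g : Matrix.SpecialLinearGroup (Fin 2) K | g ^ p = 1} := fun A => by
    refine Matrix.SL2.transvection_induction (fun A => A ∈ Subgroup.closure _) (fun i j h c => ?_)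
      (fun A B => mul_mem) A
    refine Subgroup.subset_closure (Subtype.ext ?_)
    show ((SpecialLinearGroup.transvection h c : Matrix.SpecialLinearGroup (Fin 2) K) : Matrix (Fin 2) (Fin 2) K) ^ p = 1
    rw [SpecialLinearGroup.transvection_coe]
    show (1 + Matrix.single i j c) ^ p = 1
    rw [one_add_nilpotent_pow (by rw [Matrix.single_mul_single_of_ne c i j i h.symm]), CharP.cast_eq_zero, zero_smul,
      add_zero]
  refine PGen.of_gen _ (S := e.symm.toMonoidHom '' {g | g ^ p = 1}) (fun x _ => ?_) ?_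
  · rw [← MonoidHom.map_closure]
    exact ⟨e x, key _, e.symm_apply_apply x⟩
  · rintro _ ⟨g, hg, rfl⟩
    exact ⟨trivial, 1, by rw [pow_one, ← map_pow, show g ^ p = 1 from hg, map_one]⟩

/-- The permutation matrices of sign one. -/
def permSU {n : ℕ} (π : Equiv.Perm (Fin n)) (hπ : ((Equiv.Perm.sign π : ℤ) : F) = 1) : Cfsg.SU n F q :=
  toSU hF ((1 : Matrix (Fin n) (Fin n) F).submatrix π id)
    (by
      unfold UMat
      rw [Matrix.transpose_submatrix, ← Matrix.submatrix_map, Matrix.transpose_one,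
        Matrix.map_one _ (map_zero _) (map_one _), Matrix.submatrix_mul_equiv, Matrix.one_mul,
        Matrix.submatrix_id_id])
    (by rw [Matrix.det_permute, Matrix.det_one, mul_one, hπ])

theorem mat_permSU {n : ℕ} (π : Equiv.Perm (Fin n)) (hπ : ((Equiv.Perm.sign π : ℤ) : F) = 1) :
    mat (permSU hF π hπ) = (1 : Matrix (Fin n) (Fin n) F).submatrix π id := rfl

omit hF in
theorem perm_mat_mul {n : ℕ} (f g : Fin n → Fin n) :
    (1 : Matrix (Fin n) (Fin n) F).submatrix f id * (1 : Matrix (Fin n) (Fin n) F).submatrix g id =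
      (1 : Matrix (Fin n) (Fin n) F).submatrix (g ∘ f) id := by
  ext i j
  simp only [Matrix.mul_apply, Matrix.submatrix_apply, Matrix.one_apply, id_eq, Function.comp_apply, ite_mul,
    one_mul, zero_mul, Finset.sum_ite_eq, Finset.mem_univ, if_true]

omit hF in
theorem perm_mat_diag {n : ℕ} (π : Fin n → Fin n) (d : Fin n → F) :
    (1 : Matrix (Fin n) (Fin n) F).submatrix π id * Matrix.diagonal d =
      Matrix.diagonal (d ∘ π) * (1 : Matrix (Fin n) (Fin n) F).submatrix π id := by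
  ext i j
  simp only [Matrix.mul_diagonal, Matrix.diagonal_mul, Matrix.submatrix_apply, Matrix.one_apply, id_eq,
    Function.comp_apply]
  split_ifs with h
  · rw [h, one_mul, mul_one]
  · rw [zero_mul, mul_zero]

theorem permSU_mul {n : ℕ} (π ρ : Equiv.Perm (Fin n)) (hπ : ((Equiv.Perm.sign π : ℤ) : F) = 1)
    (hρ : ((Equiv.Perm.sign ρ : ℤ) : F) = 1) :
    permSU hF π hπ * permSU hF ρ hρ = permSU hF (ρ * π) (by
      rw [map_mul, Units.val_mul, Int.cast_mul, hπ, hρ, one_mul]) := by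
  refine su_eq_of_mat ?_
  rw [mat_mul, mat_permSU, mat_permSU, mat_permSU, perm_mat_mul]
  rfl

theorem pgen_three_two (hq : q = 2) : PGen 2 (⊤ : Subgroup (Cfsg.SU 3 F q)) := by
  classical
  subst hq
  obtain ⟨p, hp⟩ := CharP.exists F
  obtain ⟨hpp, j, -, hj⟩ := q_pow hF (p := p)
  obtain rfl : p = 2 := ((Nat.prime_dvd_prime_iff_eq hpp Nat.prime_two).mp ⟨p ^ (j - 1), by
    rw [hj, ← pow_succ']; congr 1; have : j ≠ 0 := (fun h => by rw [h, pow_zero] at hj; omega); omega⟩)
  haveI := Fact.mk Nat.prime_two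
  haveI : Fact (Nat.Prime 3) := ⟨Nat.prime_three⟩
  set G := Cfsg.SU 3 F 2
  let R : Subgroup G := Subgroup.closure {g | ∃ k, g ^ 2 ^ k = 1}
  haveI hRn : R.Normal := ⟨fun r hr g => by
    refine (Subgroup.closure_le (R.comap (MulAut.conj g).toMonoidHom)).mpr (fun s hs => ?_) hr
    obtain ⟨k, hk⟩ := hs
    exact Subgroup.subset_closure ⟨k, by rw [MulEquiv.coe_toMonoidHom, MulAut.conj_apply, conj_pow, hk, mul_one, mul_inv_cancel]⟩⟩
  have hcard : Nat.card G = 216 := by
    have h := card_GU_SU hF (n := 3) (by norm_num)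
    rw [UnitaryOrder.card_GU hF, Finset.prod_range_succ, Finset.prod_range_succ, Finset.prod_range_succ,
      Finset.prod_range_zero] at h
    norm_num [Nat.even_iff] at h
    rw [show Nat.card G = Fintype.card G from Nat.card_eq_fintype_card]
    change 648 = 3 * Fintype.card G at h
    omega
  have hsgn : ∀ π : Equiv.Perm (Fin 3), ((Equiv.Perm.sign π : ℤ) : F) = 1 := fun π => by
    rcases Int.units_eq_one_or (Equiv.Perm.sign π) with h | h <;> rw [h] <;> simp [CharTwo.neg_eq]
  have hswap : ∀ i j : Fin 3, permSU hF (Equiv.swap i j) (hsgn _) ∈ R := fun i j =>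
    Subgroup.subset_closure ⟨1, by
      rw [pow_one, sq, permSU_mul]
      exact su_eq_of_mat (by rw [mat_permSU, Equiv.swap_mul_self]; exact Matrix.submatrix_id_id _)⟩
  let μ : Subgroup Fˣ := muq (F := F) (q := 2)
  let D : μ × μ →* G := MonoidHom.mk' (fun x => toSU hF
      (Matrix.diagonal ![(x.1.1 : F), (x.2.1 : F), ((x.1.1 * x.2.1)⁻¹ : Fˣ)])
      (umat_diagonal hF fun i => by
        have h1 : (x.1.1 : F) ^ (2 + 1) = 1 := by rw [← Units.val_pow_eq_pow_val, show x.1.1 ^ (2 + 1) = 1 from x.1.2, Units.val_one]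
        have h2 : (x.2.1 : F) ^ (2 + 1) = 1 := by rw [← Units.val_pow_eq_pow_val, show x.2.1 ^ (2 + 1) = 1 from x.2.2, Units.val_one]
        fin_cases i <;> simp [h1, h2, mul_pow])
      (by rw [Matrix.det_diagonal, Fin.prod_univ_three]; simp; field_simp))
    fun x y => su_eq_of_mat (by
      show diagonal _ = diagonal _ * diagonal _
      rw [diagonal_mul_diagonal]
      congr 1
      funext i
      fin_cases i <;> simp <;> ring)
  have hDinj : Function.Injective D := fun x y h => by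
    have h' := Matrix.diagonal_injective (congrArg mat h)
    exact Prod.ext (Subtype.ext (Units.ext (congrFun h' 0))) (Subtype.ext (Units.ext (congrFun h' 1)))
  have hDcard : Nat.card D.range = 9 := by
    rw [← Nat.card_congr (MonoidHom.ofInjective hDinj).toEquiv, Nat.card_prod, card_muq hF]
  have hπR : permSU hF (Equiv.swap 1 2 * Equiv.swap 0 1) (hsgn _) ∈ R := by
    rw [← permSU_mul hF (Equiv.swap 0 1) (Equiv.swap 1 2) (hsgn _) (hsgn _)]
    exact mul_mem (hswap 0 1) (hswap 1 2)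
  set π : Equiv.Perm (Fin 3) := Equiv.swap 1 2 * Equiv.swap 0 1 with hπ
  let c : G := permSU hF π (hsgn _)
  have hcR : c ∈ R := hπR
  have hconj : ∀ (ρ : Equiv.Perm (Fin 3)) (x y : μ × μ),
      (∀ i, ![(x.1.1 : F), (x.2.1 : F), ((x.1.1 * x.2.1)⁻¹ : Fˣ)] (ρ i) =
        ![(y.1.1 : F), (y.2.1 : F), ((y.1.1 * y.2.1)⁻¹ : Fˣ)] i) →
      permSU hF ρ (hsgn _) * D x * (permSU hF ρ (hsgn _))⁻¹ = D y := fun ρ x y h => by
    rw [mul_inv_eq_iff_eq_mul]
    refine su_eq_of_mat ?_
    rw [mat_mul, mat_mul, mat_permSU]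
    show _ * diagonal _ = diagonal _ * _
    rw [perm_mat_diag]
    congr 2
    exact funext h
  have hD0 : ∀ u : μ, D (u, u⁻¹) ∈ R := fun u => by
    have h := hconj (Equiv.swap 0 1) (1, u) (u, 1) (fun i => by
      fin_cases i <;> simp [Equiv.swap_apply_def])
    have e : D (u, u⁻¹) = permSU hF (Equiv.swap 0 1) (hsgn _) *
        (D (1, u) * (permSU hF (Equiv.swap 0 1) (hsgn _))⁻¹ * (D (1, u))⁻¹) := by
      rw [← mul_assoc, ← mul_assoc, h, ← map_inv, ← map_mul]
      simp
    rw [e]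
    exact mul_mem (hswap 0 1) (hRn.conj_mem _ (inv_mem (hswap 0 1)) _)
  have hsurj : ∀ u : μ, ∀ v : μ, D (u, v) = D (u, u⁻¹) * D (1, u * v) := fun u v => by
    rw [← map_mul]; simp
  have hD1 : ∀ u : μ, D (1, u) ∈ R := fun u => by
    rw [← hconj π (u, u⁻¹) (1, u) (fun i => by fin_cases i <;> simp [hπ, Equiv.swap_apply_def])]
    exact mul_mem (mul_mem hcR (hD0 u)) (inv_mem hcR)
  have hDR : D.range ≤ R := by
    rintro _ ⟨⟨u, v⟩, rfl⟩
    rw [hsurj]
    exact mul_mem (hD0 u) (hD1 _)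
  have h8 : 2 ^ 3 ∣ Nat.card R := by
    obtain ⟨P⟩ := (inferInstance : Nonempty (Sylow 2 G))
    have hP : Nat.card P = 2 ^ 3 := by
      rw [P.card_eq_multiplicity, hcard]
      congr 1
      rw [show (216 : ℕ) = 2 ^ 3 * 3 ^ 3 by norm_num, Nat.factorization_mul (by norm_num) (by norm_num),
        Finsupp.add_apply, Nat.prime_two.factorization_pow, Nat.prime_three.factorization_pow]
      simp
    rw [← hP]
    exact Subgroup.card_dvd_of_le fun g hg => Subgroup.subset_closure (by
      obtain ⟨k, hk⟩ := P.isPGroup' ⟨g, hg⟩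
      exact ⟨k, congrArg Subtype.val hk⟩)
  let H : Subgroup G := Subgroup.zpowers c ⊔ D.range
  have hc3 : c ^ 3 = 1 := by
    refine su_eq_of_mat ?_
    rw [pow_succ, sq, permSU_mul, permSU_mul, mat_permSU, show π * (π * π) = 1 by rw [hπ]; decide]
    exact Matrix.submatrix_id_id _
  have hnorm : Subgroup.zpowers c ≤ Subgroup.normalizer (D.range : Set G) := by
    rw [Subgroup.zpowers_le]
    refine Subgroup.mem_normalizer_fintype ?_
    rintro _ ⟨⟨u, v⟩, rfl⟩
    exact ⟨((u * v)⁻¹, u), (hconj π (u, v) ((u * v)⁻¹, u) fun i => by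
      fin_cases i <;> simp [hπ, Equiv.swap_apply_def] <;> ring_nf <;> field_simp).symm⟩
  have hD3 : IsPGroup 3 D.range := IsPGroup.of_card (n := 2) (by rw [hDcard]; norm_num)
  have hC3 : IsPGroup 3 (Subgroup.zpowers c) := fun x => by
    obtain ⟨x, k, rfl⟩ := x
    exact ⟨1, Subtype.ext (by
      show (c ^ k) ^ (3 ^ 1) = 1
      rw [pow_one, ← zpow_natCast, ← _root_.zpow_mul, mul_comm, _root_.zpow_mul, zpow_natCast, hc3, _root_.one_zpow])⟩
  have hH3 : IsPGroup 3 H := IsPGroup.to_sup_of_normal_right' hC3 hD3 hnorm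
  have hHR : H ≤ R := sup_le (Subgroup.zpowers_le.mpr hcR) hDR
  have h27 : 3 ^ 3 ∣ Nat.card R := by
    obtain ⟨k, hk⟩ := hH3.exists_card_eq
    have h9 : 3 ^ 2 ∣ 3 ^ k := hk ▸ (show (3 : ℕ) ^ 2 = Nat.card D.range by rw [hDcard]; norm_num) ▸
      Subgroup.card_dvd_of_le le_sup_right
    have h2k : 2 ≤ k := (Nat.pow_dvd_pow_iff_le_right (by norm_num)).mp h9
    have hne : k ≠ 2 := fun h2 => by
      subst h2
      have hDH : D.range = H := Subgroup.eq_of_le_of_card_ge le_sup_right (by rw [hk, hDcard]; norm_num)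
      have hcD : c ∈ D.range := hDH ▸ Subgroup.mem_sup_left (Subgroup.mem_zpowers c)
      obtain ⟨x, hx⟩ := hcD
      have := congrFun (congrFun (congrArg mat hx) 0) 0
      simp only [D, c, hπ, MonoidHom.mk'_apply, mat_toSU, mat_permSU, Matrix.diagonal_apply_eq] at this
      simp [Matrix.one_apply, Equiv.swap_apply_def] at this
    exact (Nat.pow_dvd_pow 3 (show 3 ≤ k by omega)).trans (hk ▸ Subgroup.card_dvd_of_le hHR)
  have hR : R = ⊤ := by
    refine Subgroup.eq_top_of_le_card R ?_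
    rw [hcard]
    exact Nat.le_of_dvd Nat.card_pos (Nat.Coprime.mul_dvd_of_dvd_of_dvd (by norm_num) h8 h27)
  intro g _
  have hg : g ∈ R := hR ▸ Subgroup.mem_top g
  exact Subgroup.closure_mono (fun x hx => (⟨trivial, hx⟩ : x ∈ (⊤ : Subgroup G) ∧ ∃ k, x ^ 2 ^ k = 1)) hg

/-- `SU_n(q)` is generated by elements of `p`-power order. -/
theorem pgen_SU {p : ℕ} [CharP F p] (n : ℕ) : PGen p (⊤ : Subgroup (Cfsg.SU n F q)) := by
  rcases Nat.lt_or_ge n 2 with hn | hn
  · haveI := su_one_subsingleton hF (n := n) (by omega)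
    intro g _
    rw [Subsingleton.elim g 1]; exact one_mem _
  rcases Nat.eq_or_lt_of_le hn with rfl | hn3
  · exact pgen_two hF
  by_cases h : n = 3 ∧ q = 2
  · obtain ⟨rfl, hq⟩ := h
    obtain ⟨hpp, j, hj0, hj⟩ := q_pow hF (p := p)
    obtain rfl : p = 2 := (Nat.prime_dvd_prime_iff_eq hpp Nat.prime_two).mp ⟨p ^ (j - 1), by
      rw [← hq, hj, ← pow_succ']; congr 1; omega⟩
    exact pgen_three_two hF hq
  refine PGen.of_gen _ (S := UnitarySimple.TSet (F := F) (q := q) (n := n)) ?_ fun g hg => ⟨trivial, 1, by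
    rw [pow_one]; exact tset_order hF hg⟩
  rw [UnitarySimple.generated hF hn3 h]

/-- Central elements are scalar. -/
theorem center_scalar {n : ℕ} (hn : 3 ≤ n) {g : Cfsg.SU n F q} (hg : g ∈ Subgroup.center (Cfsg.SU n F q)) :
    ∃ c : F, mat g = Matrix.scalar (Fin n) c := by
  obtain ⟨c₀, hc0, hc₀⟩ := UnitaryTransvection.exists_skew hF
  obtain ⟨c, hc⟩ := UnitarySimple.scalar_of_fix hF hn g fun x => by
    obtain ⟨e, he0, he, rfl⟩ := UnitarySimple.pt_surj x
    have hcomm := (UnitarySimple.conj_tv hF g e he c₀ hc₀).symm.trans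
      (mul_inv_eq_of_eq_mul (Subgroup.mem_center_iff.mp hg (UnitarySimple.tv hF e he c₀ hc₀)).symm)
    obtain ⟨y, hey, hye⟩ := UnitarySimple.exists_partner hF (UnitarySimple.mat_ne_zero g he0)
    have h1 := congrArg (fun k : Cfsg.SU n F q => mat k *ᵥ y) hcomm
    simp only [UnitarySimple.tv_mulVec, hye, mul_one, add_right_inj] at h1
    refine UnitarySimple.smul_pt_eq g he0 he he0 he (c₀⁻¹ * (c₀ * Cfsg.hermForm n F q y e)) ?_
    rw [mul_smul, ← h1, inv_smul_smul₀ hc0]
  refine ⟨c, Matrix.ext fun i j => ?_⟩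
  have := congrFun (hc (Pi.single j 1)) i
  rw [Matrix.mulVec_single_one, Matrix.col_apply] at this
  rw [this]
  rcases eq_or_ne i j with rfl | h <;> simp [*]

/-- The centre is cyclic of order `gcd(n, q + 1)`. -/
theorem center_cyclic {n : ℕ} (hn : 3 ≤ n) :
    IsCyclic (Subgroup.center (Cfsg.SU n F q)) ∧
      Nat.card (Subgroup.center (Cfsg.SU n F q)) = n.gcd (q + 1) := by
  set Z := (powMonoidHom (n.gcd (q + 1)) : Fˣ →* Fˣ).ker with hZ
  let φ : Z →* Subgroup.center (Cfsg.SU n F q) := MonoidHom.mk' (fun u =>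
    ⟨toSU hF (Matrix.diagonal fun _ => (u.1 : F)) (umat_diagonal hF fun _ => by
        obtain ⟨k, hk⟩ := Nat.gcd_dvd_right n (q + 1)
        rw [hk, pow_mul, ← Units.val_pow_eq_pow_val, show u.1 ^ n.gcd (q + 1) = 1 from u.2, Units.val_one, one_pow])
      (by
        obtain ⟨k, hk⟩ := Nat.gcd_dvd_left n (q + 1)
        rw [Matrix.det_diagonal, Finset.prod_const, Finset.card_univ, Fintype.card_fin]
        conv_lhs => rw [hk, pow_mul, ← Units.val_pow_eq_pow_val, show u.1 ^ n.gcd (q + 1) = 1 from u.2,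
          Units.val_one, one_pow]),
      Subgroup.mem_center_iff.mpr fun g => su_eq_of_mat (by
        rw [mat_mul, mat_mul, mat_toSU]
        ext i j
        rw [Matrix.mul_diagonal, Matrix.diagonal_mul, mul_comm])⟩)
    fun u v => Subtype.ext (su_eq_of_mat (by
      show diagonal _ = diagonal _ * diagonal _
      rw [diagonal_mul_diagonal]; rfl))
  have hbij : Function.Bijective φ := by
    constructor
    · intro u v h
      have h' := congrFun (Matrix.diagonal_injective (congrArg mat (congrArg Subtype.val h))) ⟨0, by omega⟩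
      exact Subtype.ext (Units.ext h')
    · intro g
      obtain ⟨c, hc⟩ := center_scalar hF hn g.2
      have hd : c ^ n = 1 := by
        have := g.1.1.2
        change (mat g.1).det = 1 at this
        simpa [hc] using this
      have hq1 : c ^ (q + 1) = 1 := by
        have h := congrFun (congrFun (umat_su hF g.1) ⟨0, by omega⟩) ⟨0, by omega⟩
        rw [hc, Matrix.scalar_apply, Matrix.diagonal_transpose, Matrix.diagonal_map (map_zero _),
          Matrix.diagonal_mul_diagonal, Matrix.diagonal_apply_eq, Matrix.one_apply_eq, frob_apply, ← pow_succ'] at h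
        exact h
      have hc0 : c ≠ 0 := fun h => by rw [h, zero_pow (by omega)] at hd; exact zero_ne_one hd
      exact ⟨⟨Units.mk0 c hc0, show Units.mk0 c hc0 ^ _ = 1 from pow_gcd_eq_one.mpr ⟨Units.ext hd, Units.ext hq1⟩⟩,
        Subtype.ext (su_eq_of_mat (by rw [hc]; rfl))⟩
  let e := MulEquiv.ofBijective φ hbij
  refine ⟨e.isCyclic.mp inferInstance, ?_⟩
  rw [← Nat.card_congr e.toEquiv, hZ, IsCyclic.card_powMonoidHom_ker, HermCount.card_sub_one hF]
  exact Nat.gcd_eq_right ((Nat.gcd_dvd_right n (q + 1)).trans (dvd_mul_right _ _))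

end CfsgLib.SUCover
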