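import Cfsg.Agent.Lib.SUCover.Section

/-!
The characteristic part of the multiplier of `SU_n(q)`.
-/

set_option autoImplicit false
set_option linter.unusedSectionVars false

namespace CfsgLib.SUCover

noncomputable section

open Matrix
open scoped commutatorElement
open CfsgLib.StemEll (Van)
open CfsgLib.UnitaryTransvection
open CfsgLib.UnitarySimple (mat mat_mul mat_one mat_inv_mulVec')
open CfsgLib.SpCover (ker_comm eq_one_of_coprime pow_relIndex_mem)

universe u

variable {F : Type u} [Field F] [Fintype F] {q : ℕ} (hF : Fintype.card F = q ^ 2)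

local notation "σ" => frob hF

theorem tri_succ (r : ℕ) : (r + 2) * (r + 2 - 1) / 2 = r * (r - 1) / 2 + (2 * r + 1) := by
  rw [← Finset.sum_range_id, ← Finset.sum_range_id, Finset.sum_range_succ, Finset.sum_range_succ]
  omega

include hF

/-- The order of `SU_r` split at the characteristic. -/
theorem card_SU_split {p : ℕ} [CharP F p] (r : ℕ) :
    ∃ P : ℕ, P.Coprime p ∧ Nat.card (Cfsg.SU r F q) = q ^ (r * (r - 1) / 2) * P := by
  classical
  obtain ⟨hpp, j, hj0, hj⟩ := q_pow hF (p := p)
  rcases Nat.eq_zero_or_pos r with rfl | hr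
  · haveI := su_one_subsingleton hF (n := 0) (by omega)
    exact ⟨1, Nat.coprime_one_left p, by rw [Nat.card_of_subsingleton (1 : Cfsg.SU 0 F q)]; simp⟩
  have hfac : ∀ i : ℕ, (if Even i then q ^ (i + 1) + 1 else q ^ (i + 1) - 1).Coprime p := by
    intro i
    rw [Nat.coprime_comm, hpp.coprime_iff_not_dvd]
    have hpq : p ∣ q ^ (i + 1) := (hj ▸ dvd_pow_self p hj0.ne' : p ∣ q).trans (dvd_pow_self q (Nat.succ_ne_zero i))
    split_ifs with h
    · intro hd
      exact hpp.not_dvd_one ((Nat.dvd_add_right hpq).mp hd)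
    · intro hd
      have h1 := Nat.dvd_sub hpq hd
      rw [Nat.sub_sub_self (Nat.one_le_pow _ _ (by have := q_gt_one hF; omega))] at h1
      exact hpp.not_dvd_one h1
  set Q := ∏ i ∈ Finset.range r, (if Even i then q ^ (i + 1) + 1 else q ^ (i + 1) - 1) with hQ
  have hQc : Q.Coprime p := Nat.Coprime.prod_left fun i _ => hfac i
  have h := card_GU_SU hF (n := r) hr
  rw [UnitaryOrder.card_GU hF, ← hQ] at h
  have hcop : (q ^ (r * (r - 1) / 2)).Coprime (q + 1) := Nat.Coprime.pow_left _ (by simp)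
  obtain ⟨P, hP⟩ := hcop.dvd_of_dvd_mul_left (Dvd.intro Q h)
  refine ⟨P, ?_, hP⟩
  have h2 : Q = (q + 1) * P := by
    rw [hP] at h
    have h3 : q ^ (r * (r - 1) / 2) * Q = q ^ (r * (r - 1) / 2) * ((q + 1) * P) := by rw [h]; ring
    exact Nat.eq_of_mul_eq_mul_left (pow_pos (by have := q_gt_one hF; omega) _) h3
  exact hQc.coprime_dvd_left (Dvd.intro_left _ h2.symm)

variable {n : ℕ}

/-- The elements fixing the first coordinate vectors. -/
def Gc (n c : ℕ) : Subgroup (Cfsg.SU n F q) where
  carrier := {g | ∀ r : Fin n, r.val < c → mat g *ᵥ Pi.single r 1 = Pi.single r 1}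
  one_mem' := fun r _ => by rw [mat_one, one_mulVec]
  mul_mem' := fun {a b} ha hb r hr => by rw [mat_mul, ← mulVec_mulVec, hb r hr, ha r hr]
  inv_mem' := fun {a} ha r hr => by
    conv_lhs => arg 2; rw [← ha r hr]
    rw [mat_inv_mulVec']

theorem h_single (r s : Fin n) :
    Cfsg.hermForm n F q (Pi.single r (1 : F)) (Pi.single s 1) = if r = s then 1 else 0 := by
  rw [UnitaryOrder.herm_single_right hF, Pi.single_apply]
  simp [eq_comm]

/-- These elements form a smaller unitary group. -/
theorem card_Gc {c : ℕ} (hc : c ≤ n) :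
    Nat.card (Gc (F := F) (q := q) n c) = Nat.card (Cfsg.SU (n - c) F q) := by
  classical
  let f : Fin (n - c) ↪ Fin n := ⟨fun i => ⟨c + i.val, by omega⟩, fun i j h => Fin.ext (by simpa using h)⟩
  have hout : ∀ r : Fin n, r.val < c ↔ r ∉ Set.range f := by
    intro r
    constructor
    · rintro h ⟨i, rfl⟩; exact absurd h (Nat.not_lt.mpr (Nat.le_add_right c i.val))
    · intro h
      by_contra h'
      exact h ⟨⟨r.val - c, by omega⟩, Fin.ext (show c + (r.val - c) = r.val by omega)⟩
  have hrange : (embS (F := F) (q := q) hF f).range = Gc (F := F) (q := q) n c := by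
    refine le_antisymm ?_ fun g hg => ?_
    · rintro _ ⟨A, rfl⟩ r hr
      funext x
      rw [Matrix.mulVec_single_one, Matrix.col_apply, mat_embS, embM_apply_col f ((hout r).mp hr),
        Matrix.one_apply, Pi.single_apply]
    have hcol : ∀ (x : Fin n) (r : Fin n), r.val < c → mat g x r = (1 : Matrix (Fin n) (Fin n) F) x r := by
      intro x r hr
      have := congrFun (hg r hr) x
      rwa [Matrix.mulVec_single_one, Matrix.col_apply, Pi.single_apply, ← Matrix.one_apply] at this
    have hrow : ∀ (x : Fin n) (y : Fin n), x.val < c → mat g x y = (1 : Matrix (Fin n) (Fin n) F) x y := by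
      intro x y hx
      have h1 := UnitarySimple.su_h g (Pi.single y 1) (Pi.single x 1)
      rw [hg x hx, UnitaryOrder.herm_single_right hF, h_single hF, Matrix.mulVec_single_one, Matrix.col_apply]
        at h1
      rw [h1, Matrix.one_apply]
      simp [eq_comm]
    have hmat : embM f ((mat g).submatrix f f) = mat g := by
      ext x y
      by_cases hx : x ∈ Set.range f
      · by_cases hy : y ∈ Set.range f
        · obtain ⟨i, rfl⟩ := hx
          obtain ⟨j, rfl⟩ := hy
          rw [embM_apply]; rfl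
        · rw [embM_apply_col f hy, hcol x y ((hout y).mpr hy)]
      · rw [embM_apply_row f hx, hrow x y ((hout x).mpr hx)]
    have hU : UMat hF ((mat g).submatrix f f) := by
      unfold UMat
      ext a b
      have h1 := congrFun (congrFun (umat_su hF g) (f a)) (f b)
      rw [Matrix.mul_apply, Matrix.one_apply] at h1 ⊢
      simp only [f.injective.eq_iff] at h1
      rw [← h1]
      show ∑ j, (mat g)ᵀ (f a) (f j) * ((mat g).map (frob hF)) (f j) (f b) = _
      rw [← Finset.sum_map Finset.univ f (fun x => (mat g)ᵀ (f a) x * (mat g).map (frob hF) x (f b))]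
      refine Finset.sum_subset (Finset.subset_univ _) fun x _ hx => ?_
      have hx' : x ∉ Set.range f := fun ⟨i, hi⟩ => hx (Finset.mem_map.mpr ⟨i, Finset.mem_univ _, hi⟩)
      rw [Matrix.transpose_apply, hrow x (f a) ((hout x).mpr hx'), Matrix.one_apply_ne (fun e => hx' ⟨a, e.symm⟩),
        zero_mul]
    exact ⟨toSU hF _ hU (by rw [← det_embM f, hmat]; exact g.1.2), su_eq_of_mat hmat⟩
  rw [← hrange]
  exact (Nat.card_congr (MonoidHom.ofInjective (embS_injective hF f)).toEquiv).symm

/-- The frame at two consecutive coordinates. -/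
theorem exists_frame {c : ℕ} (hc : c + 2 ≤ n) :
    ∃ Fr : Frame (F := F) (q := q) hF n (n - 2),
      (∀ k : Fin (n - 2), Fr.w k = Pi.single (⟨if k.val < c then k.val else k.val + 2, by have := k.2; split_ifs <;> omega⟩ : Fin n) 1) ∧
      (∀ g ∈ Gc (F := F) (q := q) n (c + 2), mat g *ᵥ Fr.e = Fr.e ∧ mat g *ᵥ Fr.f = Fr.f) ∧
      ∀ r : Fin n, r.val < c → Cfsg.hermForm n F q (Pi.single r 1) Fr.e = 0 := by
  classical
  obtain ⟨l, hl⟩ := exists_norm_eq hF (c := (-1 : F)) (by rw [map_neg, map_one])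
  obtain ⟨t, ht⟩ := exists_trace hF (c := (1 : F)) (map_one _)
  set i : Fin n := ⟨c, by omega⟩
  set j : Fin n := ⟨c + 1, by omega⟩
  have hij : i ≠ j := fun e => by simpa [i, j] using congrArg Fin.val e
  set e : Fin n → F := Pi.single i 1 + l • Pi.single j 1 with he
  set f : Fin n → F := Pi.single i 1 + t • e with hf
  let g : Fin (n - 2) → Fin n := fun k => ⟨if k.val < c then k.val else k.val + 2, by have := k.2; split_ifs <;> omega⟩
  have hgij : ∀ k, g k ≠ i ∧ g k ≠ j := fun k => by
    constructor <;> intro h <;> have h' := congrArg Fin.val h <;> simp only [g, i, j] at h' <;>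
      split_ifs at h' <;> omega
  have hginj : Function.Injective g := fun a b h => by
    have h' := congrArg Fin.val h
    simp only [g] at h'
    apply Fin.ext
    split_ifs at h' <;> omega
  have hee : Cfsg.hermForm n F q e e = 0 := by
    simp only [he, h_add_left, h_add_right hF, h_smul_left, h_smul_right hF, h_single hF, hij, hij.symm,
      if_false, if_true, mul_zero, mul_one, add_zero, zero_add]
    linear_combination hl
  have hie : Cfsg.hermForm n F q (Pi.single i 1) e = 1 := by
    simp only [he, h_add_right hF, h_smul_right hF, h_single hF, hij, if_false, if_true, mul_zero, add_zero]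
  have hei : Cfsg.hermForm n F q e (Pi.single i 1) = 1 := by rw [← h_swap hF (Pi.single i 1) e, hie, map_one]
  have hge : ∀ k, Cfsg.hermForm n F q (Pi.single (g k) 1) e = 0 := fun k => by
    simp only [he, h_add_right hF, h_smul_right hF, h_single hF, (hgij k).1, (hgij k).2, if_false, mul_zero,
      add_zero]
  refine ⟨⟨e, f, fun k => Pi.single (g k) 1, hee, ?_, ?_, hge, ?_, ?_, by omega⟩, fun k => rfl, ?_, ?_⟩
  · simp only [hf, h_add_left, h_add_right hF, h_smul_left, h_smul_right hF, hee, hie, hei, h_single hF,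
      if_true, mul_zero, mul_one, add_zero]
    linear_combination ht
  · simp only [hf, h_add_right hF, h_smul_right hF, hei, hee, mul_zero, add_zero]
  · intro k
    simp only [hf, h_add_right hF, h_smul_right hF, hge k, h_single hF, (hgij k).1, if_false, mul_zero, add_zero]
  · intro k l
    rw [h_single hF]
    simp [hginj.eq_iff]
  · intro x hx
    have hi : mat x *ᵥ Pi.single i 1 = Pi.single i 1 := hx i (show c < c + 2 by omega)
    have hj : mat x *ᵥ Pi.single j 1 = Pi.single j 1 := hx j (show c + 1 < c + 2 by omega)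
    have h1 : mat x *ᵥ e = e := by
      show mat x *ᵥ (Pi.single i 1 + l • Pi.single j 1) = Pi.single i 1 + l • Pi.single j 1
      rw [mulVec_add, mulVec_smul, hi, hj]
    refine ⟨h1, ?_⟩
    show mat x *ᵥ (Pi.single i 1 + t • e) = Pi.single i 1 + t • e
    rw [mulVec_add, mulVec_smul, hi, h1]
  · intro r hr
    have h1 : r ≠ i := fun h => by have := congrArg Fin.val h; simp only [i] at this; omega
    have h2 : r ≠ j := fun h => by have := congrArg Fin.val h; simp only [j] at this; omega
    simp only [he, h_add_right hF, h_smul_right hF, h_single hF, h1, h2, if_false, mul_zero, add_zero]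

/-- The fixed field has `q` elements. -/
theorem card_skew : Nat.card {s : F // s + σ s = 0} = q := by
  classical
  obtain ⟨c₀, hc0, hc₀⟩ := exists_skew hF
  have hσc : σ c₀ = -c₀ := eq_neg_of_add_eq_zero_right hc₀
  let e : {x : F // σ x = x} ≃ {s : F // s + σ s = 0} :=
    { toFun := fun x => ⟨x.1 * c₀, by rw [map_mul, x.2, hσc]; ring⟩
      invFun := fun s => ⟨s.1 / c₀, by rw [map_div₀, hσc, eq_neg_of_add_eq_zero_right s.2, neg_div_neg_eq]⟩
      left_inv := fun x => Subtype.ext (mul_div_cancel_right₀ x.1 hc0)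
      right_inv := fun s => Subtype.ext (div_mul_cancel₀ s.1 hc0) }
  rw [← Nat.card_congr e]
  obtain ⟨K, _, _, hK⟩ := exists_K hF
  obtain ⟨φ⟩ := CfsgLib.PSL2Subfield.exists_emb (F := F) (K := K) 2 (by norm_num) (by rw [hK, hF])
  refine le_antisymm ?_ ?_
  · rw [Nat.card_eq_fintype_card, Fintype.card_subtype]
    have hle : (Finset.univ.filter fun x : F => σ x = x).card ≤
        (Polynomial.X ^ q - Polynomial.X : Polynomial F).natDegree := by
      refine Polynomial.card_le_degree_of_subset_roots fun y hy => ?_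
      rw [Polynomial.mem_roots (FiniteField.X_pow_card_sub_X_ne_zero F (q_gt_one hF))]
      have hy2 : y ∈ Finset.univ.filter fun x : F => σ x = x := hy
      simp only [Finset.mem_filter, Finset.mem_univ, true_and, frob_apply] at hy2
      simp [hy2]
    exact hle.trans (le_of_eq (FiniteField.X_pow_card_sub_X_natDegree_eq F (q_gt_one hF)))
  · refine le_trans (le_of_eq ?_) (Nat.card_le_card_of_injective
      (fun k : K => (⟨φ k, by rw [frob_apply, ← map_pow, ← hK, FiniteField.pow_card]⟩ : {x : F // σ x = x}))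
      fun a b h => φ.injective (congrArg Subtype.val h))
    rw [Nat.card_eq_fintype_card, hK]

/-- The `p`-part of the multiplier of `SU_n(q)` vanishes outside the exceptions. -/
theorem van_SU_p {p : ℕ} [CharP F p] (hn : 3 ≤ n) (h32 : ¬ (n = 3 ∧ q = 2)) (h4 : n = 4 → 4 ≤ q)
    (h6 : ¬ (n = 6 ∧ q = 2)) : Van p (Cfsg.SU n F q) := by
  classical
  intro Γ _ _ ξ hs hc hK z₀ hz₀ hz₀c
  obtain ⟨L, hL⟩ : ∃ L : Cfsg.SU n F q → Γ, ∀ g, ξ (L g) = g := hs.hasRightInverse
  let E : Ext.{u, u} F q n := { Γ := Γ, ξ := ξ, L := L, hL := hL, hc := hc }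
  obtain ⟨hpp, j, hj0, hj⟩ := q_pow hF (p := p)
  suffices key : ∀ d c, n ≤ c + d → ∀ z : Γ, ξ z = 1 →
      z ∈ ⁅(Gc (F := F) (q := q) n c).comap ξ, (Gc (F := F) (q := q) n c).comap ξ⁆ → z = 1 by
    refine key n 0 (by omega) z₀ hz₀ ?_
    have : Gc (F := F) (q := q) n 0 = ⊤ := eq_top_iff.mpr fun g _ r hr => absurd hr (Nat.not_lt_zero _)
    rw [this, Subgroup.comap_top, ← commutator_def]
    exact hz₀c
  intro d
  induction d using Nat.strong_induction_on with
  | _ d ih =>
  intro c hcd z hz hzc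
  by_cases hsmall : n ≤ c + 1
  · -- the trivial group
    have hbot : Gc (F := F) (q := q) n c = ⊥ := by
      rcases Nat.lt_or_ge n c with hnc | hnc
      · refine (Subgroup.eq_bot_iff_forall _).mpr fun g hg => su_eq_of_mat ?_
        ext x y
        have h1 := congrFun (hg y (by omega)) x
        rw [Matrix.mulVec_single_one, Matrix.col_apply, Pi.single_apply] at h1
        rw [h1, mat_one, Matrix.one_apply]
      · haveI := su_one_subsingleton hF (n := n - c) (by omega)
        exact Subgroup.eq_bot_of_card_le _ (by rw [card_Gc hF hnc, Nat.card_of_subsingleton (1 : Cfsg.SU (n - c) F q)])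
    rw [hbot] at hzc
    have : ⁅(⊥ : Subgroup (Cfsg.SU n F q)).comap ξ, (⊥ : Subgroup (Cfsg.SU n F q)).comap ξ⁆ = ⊥ := by
      rw [Subgroup.commutator_eq_bot_iff_le_centralizer]
      intro a ha b _
      exact ker_comm hc (Subgroup.mem_bot.mp ha) b
    rw [this] at hzc
    exact Subgroup.mem_bot.mp hzc
  have hc2 : c + 2 ≤ n := by omega
  obtain ⟨Fr, hw, hfix, hre⟩ := exists_frame hF hc2
  obtain ⟨N, hN⟩ := Ext.exists_section E Fr (by omega) (fun h hq => h32 ⟨by omega, hq⟩)
    (by rcases eq_or_ne n 4 with h | h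
        · exact Or.inl (h4 h)
        · exact Or.inr (by omega))
    (fun h => h6 ⟨by omega, h.1⟩)
  set G' := Gc (F := F) (q := q) n (c + 2) with hG'
  have hG'le : G' ≤ Gc (F := F) (q := q) n c := fun g hg r hr => hg r (by omega)
  -- the vectors supported on the later coordinates
  let Supp : (Fin (n - 2) → F) → Prop := fun a => ∀ k : Fin (n - 2), k.val < c → a k = 0
  have hw' : ∀ r : Fin n, ∀ (hr : r.val < c), Pi.single r (1 : F) = Fr.w ⟨r.val, by omega⟩ := fun r hr => by
    rw [hw]
    congr 1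
    exact Fin.ext (by simp [hr])
  have hXmem : ∀ a s, Frame.Ok hF a s → Supp a → Fr.X a s ∈ Gc (F := F) (q := q) n c := by
    intro a s hs ha r hr
    rw [Fr.X_mulVec hs, hre r hr, hw' r hr]
    have h1 : Cfsg.hermForm n F q (Fr.w ⟨r.val, by omega⟩) (Fr.vec a) = 0 := by
      rw [← h_swap hF (Fr.vec a), show Cfsg.hermForm n F q (Fr.vec a) (Fr.w ⟨r.val, by omega⟩) = _ from
        congrFun (Fr.coord_vec a) _, ha ⟨r.val, by omega⟩ hr, map_zero]
    rw [h1]
    simp
  have hact : ∀ g ∈ G', ∀ a, Supp a → Supp (Fr.coord (mat g *ᵥ Fr.vec a)) := by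
    intro g hg a ha k hk
    have h1 : mat g *ᵥ Fr.w k = Fr.w k := by
      rw [hw k]
      refine hg _ ?_
      simp only [hk, if_true]
      omega
    show Cfsg.hermForm n F q _ (Fr.w k) = 0
    rw [← h1, UnitarySimple.su_h, show Cfsg.hermForm n F q (Fr.vec a) (Fr.w k) = _ from
      congrFun (Fr.coord_vec a) _, ha k hk]
  let M : Subgroup (Cfsg.SU n F q) :=
    { carrier := {x | ∃ a s g, Frame.Ok hF a s ∧ Supp a ∧ g ∈ G' ∧ x = Fr.X a s * g}
      one_mem' := ⟨0, 0, 1, (Frame.ok_zero hF).mpr (by simp), fun _ _ => rfl, one_mem _, by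
        rw [Fr.X_zero, one_mul]⟩
      mul_mem' := by
        rintro _ _ ⟨a, s, g, hs, ha, hg, rfl⟩ ⟨b, t, k, ht, hb, hk, rfl⟩
        have hA := Fr.acts_of_fix (hfix g hg).1 (hfix g hg).2
        have ht' := hA.ok ht
        rw [map_one, one_smul, one_mul, one_mul] at ht'
        have he := Fr.conj_X hA ht
        rw [map_one, one_smul, one_mul, one_mul] at he
        refine ⟨_, _, g * k, Frame.ok_add hF hs ht', ?_, mul_mem hg hk, ?_⟩
        · intro i hi
          rw [Pi.add_apply, ha i hi, hact g hg b hb i hi, add_zero]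
        · rw [← Fr.X_mul hs ht', ← he]; group
      inv_mem' := by
        rintro _ ⟨a, s, g, hs, ha, hg, rfl⟩
        have hs' : Frame.Ok hF (-a) (frob hF s) := by
          unfold Frame.Ok at *
          rw [← neg_one_smul F a, h_smul_left, h_smul_right hF, map_neg, map_one, frob_frob hF]
          linear_combination hs
        have hA := Fr.acts_of_fix (hfix _ (inv_mem hg)).1 (hfix _ (inv_mem hg)).2
        have ht' := hA.ok hs'
        rw [map_one, one_smul, one_mul, one_mul] at ht'
        have he := Fr.conj_X hA hs'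
        rw [map_one, one_smul, one_mul, one_mul] at he
        refine ⟨_, _, g⁻¹, ht', hact _ (inv_mem hg) (-a) (fun i hi => by rw [Pi.neg_apply, ha i hi, neg_zero]),
          inv_mem hg, ?_⟩
        rw [← he, ← Fr.X_inv hs]; group }
  have hMle : M ≤ Gc (F := F) (q := q) n c := by
    rintro _ ⟨a, s, g, hs, ha, hg, rfl⟩
    exact mul_mem (hXmem a s hs ha) (hG'le hg)
  have huniq : ∀ (a : Fin (n - 2) → F) (s : F), Frame.Ok hF a s → Fr.X a s ∈ G' → a = 0 ∧ s = 0 := by
    intro a s hs hX
    have h1 := (hfix _ hX).2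
    rw [Fr.X_mulVec hs, Fr.hfe, Fr.f_vec, zero_smul, sub_zero, mul_one, one_smul, add_assoc, add_eq_left] at h1
    have h2 : a = 0 := by
      funext k
      have h3 := congrArg (fun y => Cfsg.hermForm n F q y (Fr.w k)) h1
      simp only [h_add_left, h_smul_left, Fr.hew, mul_zero, add_zero, h_zero_left hF] at h3
      rw [← congrFun (Fr.coord_vec a) k]
      exact h3
    refine ⟨h2, ?_⟩
    subst h2
    have h4 := congrArg (fun y => Cfsg.hermForm n F q y Fr.f) h1
    simpa [h_add_left, h_smul_left, Fr.hef, Fr.vec_f, h_zero_left hF] using h4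
  have hcardM : Nat.card M = q ^ (2 * (n - c - 2) + 1) * Nat.card (Cfsg.SU (n - c - 2) F q) := by
    let φ : ({a : Fin (n - 2) → F // Supp a} × {s : F // s + frob hF s = 0}) × G' → M := fun x =>
      ⟨Fr.X x.1.1.1 (Ext.sd hF x.1.1.1 + x.1.2.1) * x.2.1, _, _, x.2.1, by
        have := Ext.sd_ok (hF := hF) x.1.1.1
        unfold Frame.Ok at *
        rw [map_add]
        linear_combination this + x.1.2.2, x.1.1.2, x.2.2, rfl⟩
    have hφ : Function.Bijective φ := by
      constructor
      · rintro ⟨⟨a, s⟩, g⟩ ⟨⟨b, t⟩, k⟩ h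
        have hs : Frame.Ok hF a.1 (Ext.sd hF a.1 + s.1) := by
          have := Ext.sd_ok (hF := hF) a.1
          unfold Frame.Ok at *; rw [map_add]; linear_combination this + s.2
        have ht : Frame.Ok hF b.1 (Ext.sd hF b.1 + t.1) := by
          have := Ext.sd_ok (hF := hF) b.1
          unfold Frame.Ok at *; rw [map_add]; linear_combination this + t.2
        have h' : Fr.X a.1 (Ext.sd hF a.1 + s.1) * g.1 = Fr.X b.1 (Ext.sd hF b.1 + t.1) * k.1 :=
          congrArg Subtype.val h
        have hx : (Fr.X b.1 (Ext.sd hF b.1 + t.1))⁻¹ * Fr.X a.1 (Ext.sd hF a.1 + s.1) ∈ G' := by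
          rw [show (Fr.X b.1 (Ext.sd hF b.1 + t.1))⁻¹ * Fr.X a.1 (Ext.sd hF a.1 + s.1) = k.1 * g.1⁻¹ by
            rw [eq_mul_inv_iff_mul_eq, mul_assoc, h', inv_mul_cancel_left]]
          exact mul_mem k.2 (inv_mem g.2)
        have hy : (Fr.X b.1 (Ext.sd hF b.1 + t.1))⁻¹ * Fr.X a.1 (Ext.sd hF a.1 + s.1) ∈ Fr.HX :=
          mul_mem (inv_mem (Fr.X_mem ht)) (Fr.X_mem hs)
        obtain ⟨a', s', hs', e⟩ := hy
        rw [e] at hx
        obtain ⟨rfl, rfl⟩ := huniq a' s' hs' hx
        rw [Fr.X_zero, inv_mul_eq_one] at e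
        obtain ⟨e1, e2⟩ := Fr.X_inj ht hs e
        obtain rfl : b = a := Subtype.ext e1
        obtain rfl : t = s := Subtype.ext (add_left_cancel e2)
        exact Prod.ext rfl (Subtype.ext (mul_left_cancel h'))
      · rintro ⟨_, a, s, g, hs, ha, hg, rfl⟩
        have hd : (s - Ext.sd hF a) + frob hF (s - Ext.sd hF a) = 0 := by
          have := Ext.sd_ok (hF := hF) a
          unfold Frame.Ok at *; rw [map_sub]; linear_combination hs - this
        exact ⟨((⟨a, ha⟩, ⟨_, hd⟩), ⟨g, hg⟩), Subtype.ext (by simp [φ])⟩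
    let ε : {a : Fin (n - 2) → F // Supp a} ≃ (Fin (n - c - 2) → F) :=
      { toFun := fun a i => a.1 ⟨c + i.val, by omega⟩
        invFun := fun b => ⟨fun k => if hk : k.val < c then 0 else b ⟨k.val - c, by omega⟩,
          fun k hk => dif_pos hk⟩
        left_inv := fun a => Subtype.ext (funext fun k => by
          show (if hk : k.val < c then (0 : F) else a.1 ⟨c + (k.val - c), _⟩) = a.1 k
          split_ifs with hk
          · exact (a.2 k hk).symm
          · exact congrArg a.1 (Fin.ext (show c + (k.val - c) = k.val by omega)))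
        right_inv := fun b => funext fun i => by
          show (if hk : c + i.val < c then (0 : F) else b ⟨c + i.val - c, _⟩) = b i
          rw [dif_neg (by omega)]
          congr 1; exact Fin.ext (show c + i.val - c = i.val by omega) }
    rw [← Nat.card_congr (Equiv.ofBijective φ hφ), Nat.card_prod, Nat.card_prod, Nat.card_congr ε, Nat.card_pi,
      Finset.prod_const, Finset.card_univ, Fintype.card_fin, Nat.card_eq_fintype_card (α := F), hF, card_skew hF,
      card_Gc hF hc2, show n - (c + 2) = n - c - 2 by omega, ← pow_mul, ← pow_succ]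
  have hrel : ((M.comap ξ).relIndex ((Gc (F := F) (q := q) n c).comap ξ)).Coprime p := by
    rw [Subgroup.relIndex_comap, Subgroup.map_comap_eq_self_of_surjective hs]
    obtain ⟨P, hP, hcP⟩ := card_SU_split hF (p := p) (n - c)
    obtain ⟨P', hP', hcP'⟩ := card_SU_split hF (p := p) (n - c - 2)
    have e1 : Nat.card (M.subgroupOf (Gc (F := F) (q := q) n c)) * M.relIndex (Gc (F := F) (q := q) n c) = Nat.card (Gc (F := F) (q := q) n c) :=
      Subgroup.card_mul_index _
    rw [Nat.card_congr (Subgroup.subgroupOfEquivOfLe hMle).toEquiv, hcardM, card_Gc hF (by omega : c ≤ n),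
      hcP, hcP'] at e1
    obtain ⟨r, hr⟩ : ∃ r, n - c = r + 2 := ⟨n - c - 2, by omega⟩
    rw [hr, tri_succ, Nat.add_sub_cancel] at e1
    refine hP.coprime_dvd_left (Dvd.intro_left P' ?_)
    have h3 : q ^ (r * (r - 1) / 2 + (2 * r + 1)) * (P' * M.relIndex (Gc (F := F) (q := q) n c)) =
        q ^ (r * (r - 1) / 2 + (2 * r + 1)) * P := by
      rw [← e1, pow_add]
      ring
    exact Nat.eq_of_mul_eq_mul_left (pow_pos (by have := q_gt_one hF; omega) _) h3
  -- the transfer
  have hzM : ξ z ∈ M := by rw [hz]; exact one_mem M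
  have h1 := pow_relIndex_mem (Subgroup.comap_mono hMle : M.comap ξ ≤ _) (hc hz) hzM hzc
  set ΓU := G'.comap ξ with hΓU
  set D := ⁅ΓU, ΓU⁆ with hD
  have hDU : D ≤ ΓU := Subgroup.commutator_le_self ΓU
  have hnorm : ∀ l ∈ ΓU, ∀ x ∈ N, l * x * l⁻¹ ∈ N := fun l hl => hN.conj l (hfix _ hl).1 (hfix _ hl).2
  let Y : Subgroup Γ :=
    { carrier := {x | ∃ y ∈ N, ∃ l ∈ D, x = y * l}
      one_mem' := ⟨1, N.one_mem, 1, one_mem _, (mul_one 1).symm⟩
      mul_mem' := by
        rintro _ _ ⟨y, hy, l, hl, rfl⟩ ⟨y', hy', l', hl', rfl⟩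
        exact ⟨y * (l * y' * l⁻¹), N.mul_mem hy (hnorm l (hDU hl) y' hy'), l * l', mul_mem hl hl', by group⟩
      inv_mem' := by
        rintro _ ⟨y, hy, l, hl, rfl⟩
        exact ⟨l⁻¹ * y⁻¹ * l⁻¹⁻¹, hnorm l⁻¹ (hDU (inv_mem hl)) _ (N.inv_mem hy), l⁻¹, inv_mem hl, by group⟩ }
  have hdec : ∀ x ∈ M.comap ξ, ∃ y ∈ N, ∃ l ∈ ΓU, x = y * l := by
    intro x hx
    obtain ⟨a, s, g, hs', -, hg, he⟩ := hx
    obtain ⟨y, hy, hye⟩ := hN.surj a s hs'
    have hye' : ξ y = Fr.X a s := hye
    refine ⟨y, hy, y⁻¹ * x, ?_, by rw [mul_inv_cancel_left]⟩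
    show ξ (y⁻¹ * x) ∈ G'
    rw [map_mul, map_inv, hye', he, inv_mul_cancel_left]
    exact hg
  have hle : ⁅M.comap ξ, M.comap ξ⁆ ≤ Y := by
    rw [Subgroup.commutator_le]
    intro x hx x' hx'
    obtain ⟨y, hy, l, hl, rfl⟩ := hdec x hx
    obtain ⟨y', hy', l', hl', rfl⟩ := hdec x' hx'
    have hk : ⁅l, l'⁆ ∈ D := Subgroup.commutator_mem_commutator hl hl'
    have hll : l * l' * l⁻¹ ∈ ΓU := mul_mem (mul_mem hl hl') (inv_mem hl)
    refine ⟨y * (l * y' * l⁻¹) * (l * l' * l⁻¹ * y⁻¹ * (l * l' * l⁻¹)⁻¹) * (⁅l, l'⁆ * y'⁻¹ * ⁅l, l'⁆⁻¹),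
      N.mul_mem (N.mul_mem (N.mul_mem hy (hnorm l hl y' hy')) (hnorm _ hll _ (N.inv_mem hy)))
        (hnorm _ (hDU hk) _ (N.inv_mem hy')), ⁅l, l'⁆, hk, ?_⟩
    simp only [commutatorElement_def]; group
  obtain ⟨y, hy, l, hl, hyl⟩ := hle h1
  have hσ : ξ y * ξ l = 1 := by rw [← map_mul, ← hyl, map_pow, hz, one_pow]
  have hy1 : y = 1 := by
    refine hN.inj y hy ?_
    obtain ⟨a, s, hs', e⟩ := hN.le y hy
    have e' : ξ y = Fr.X a s := e
    have hX : Fr.X a s ∈ G' := by
      rw [← e', eq_inv_of_mul_eq_one_left hσ]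
      exact inv_mem (hDU hl)
    obtain ⟨rfl, rfl⟩ := huniq a s hs' hX
    show ξ y = 1
    rw [e', Fr.X_zero]
  rw [hy1, one_mul] at hyl
  rw [hy1, map_one, one_mul] at hσ
  have hl1 : l = 1 := ih (d - 1) (by omega) (c + 2) (by omega) l hσ hl
  rw [hl1] at hyl
  obtain ⟨k, hk⟩ := hK ⟨z, hz⟩
  exact eq_one_of_coprime (hrel.pow_right k) hyl (congrArg Subtype.val hk)

end

end CfsgLib.SUCover
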