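import Cfsg.Agent.Lib.SUCover.LPart
import Cfsg.Agent.Lib.SUCover.PPart
import Cfsg.Agent.Lib.StemEll.Stem
import Cfsg.Agent.Lib.SpCover.Multiplier

/-!
The multipliers of the projective special unitary groups.
-/

set_option autoImplicit false
set_option linter.unusedSectionVars false

namespace CfsgLib.SUCover

universe u

variable {F : Type u} [Field F] [Fintype F] {q : ℕ} (hF : Fintype.card F = q ^ 2)

include hF

/-- Stem extensions of `SU_n(q)` are trivial outside the exceptions. -/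
theorem stem_trivial {n : ℕ} (hn : 3 ≤ n) (h32 : ¬ (n = 3 ∧ q = 2)) (h4 : n = 4 → 4 ≤ q)
    (h6 : ¬ (n = 6 ∧ q = 2)) {Γ : Type u} [Group Γ] [Finite Γ] (σ : Γ →* Cfsg.SU n F q)
    (hσ : Cfsg.IsStemExtension σ) : σ.ker = ⊥ := by
  obtain ⟨p, hp⟩ := CharP.exists F
  obtain ⟨hpp, -⟩ := q_pow hF (p := p)
  refine StemEll.stem_trivial_of_van (fun ℓ hℓ => ?_) σ hσ
  rcases eq_or_ne p ℓ with rfl | hne
  · exact van_SU_p hF hn h32 h4 h6
  · exact van_SU hF hℓ ((Nat.coprime_primes hpp hℓ).mpr hne) n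

/-- The multiplier of `PSU_n(q)`. -/
theorem multiplier {n : ℕ} (hn : 3 ≤ n) (h32 : ¬ (n = 3 ∧ q = 2)) (h4 : n = 4 → 4 ≤ q)
    (h6 : ¬ (n = 6 ∧ q = 2)) : Cfsg.HasCyclicSchurMultiplier (Cfsg.PSU n F q) (n.gcd (q + 1)) := by
  classical
  obtain ⟨hcyc, hcard⟩ := center_cyclic hF hn
  haveI : Finite (Cfsg.SU n F q) := inferInstance
  refine SpCover.multiplier_quotient (UnitarySimple.perfect hF hn h32)
    (fun Γ _ _ σ hσ => stem_trivial hF hn h32 h4 h6 σ hσ)
    (QuotientGroup.mk' (Subgroup.center (Cfsg.SU n F q))) (QuotientGroup.mk'_surjective _)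
    (by rw [QuotientGroup.ker_mk']) ?_
  rw [QuotientGroup.ker_mk', ← hcard]
  exact ⟨(zmodCyclicMulEquiv hcyc).symm⟩

end CfsgLib.SUCover
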