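import Cfsg.Agent.Lib.SUCover.Split

/-!
The case of a primitive prime divisor of the last factor: cyclic Sylow subgroups.
-/

set_option autoImplicit false
set_option linter.unusedSectionVars false

namespace CfsgLib.SUCover

open Matrix
open CfsgLib.StemEll (Van)
open CfsgLib.UnitaryTransvection (frob frob_apply)
open CfsgLib.UnitarySimple (mat mat_mul mat_one)

universe u

variable {F : Type u} [Field F] [Fintype F] {q : ℕ} (hF : Fintype.card F = q ^ 2)

include hF

/-- The Sylow subgroups are cyclic when `-q` has order `n` modulo `ℓ`. -/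
theorem cyclic_sylow {ℓ p : ℕ} [CharP F p] (hℓ : ℓ.Prime) (hpl : p.Coprime ℓ) {n : ℕ} (hn : 2 ≤ n)
    (hd : ord q ℓ = n) [Fact ℓ.Prime] (P : Sylow ℓ (Cfsg.SU n F q)) : IsCyclic P := by
  classical
  obtain ⟨hpp, j, -, hj⟩ := q_pow hF (p := p)
  haveI := Fact.mk hpp
  rcases subsingleton_or_nontrivial P with h | h
  · exact isCyclic_of_subsingleton
  haveI : Nontrivial (Subgroup.center P) := P.isPGroup'.center_nontrivial
  obtain ⟨k, hk⟩ := (P.isPGroup'.to_subgroup (Subgroup.center P)).exists_card_eq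
  have hdvd : ℓ ∣ Nat.card (Subgroup.center P) := by
    rw [hk]
    refine dvd_pow_self ℓ fun h0 => ?_
    rw [h0, pow_zero] at hk
    exact absurd hk (Finite.one_lt_card).ne'
  obtain ⟨z, hz⟩ := exists_prime_orderOf_dvd_card' ℓ hdvd
  set z' : Cfsg.SU n F q := ((z : P) : Cfsg.SU n F q) with hz'
  have hz1 : z' ≠ 1 := fun h => hℓ.ne_one (by
    rw [← hz, orderOf_eq_one_iff]; exact Subtype.ext (Subtype.ext h))
  have hzl : z' ^ ℓ = 1 := by
    have : z ^ ℓ = 1 := orderOf_dvd_iff_pow_eq_one.mp (dvd_of_eq hz)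
    exact congrArg (fun x : Subgroup.center P => ((x : P) : Cfsg.SU n F q)) this
  -- matrices over the algebraic closure
  let K := AlgebraicClosure F
  haveI : CharP K p := charP_of_injective_algebraMap (algebraMap F K).injective p
  let φ : K →+* K := iterateFrobenius K p j
  have hφ : ∀ x, φ x = x ^ q := fun x => by rw [hj]; exact iterateFrobenius_def p j x
  let Gm : Cfsg.SU n F q →* Matrix (Fin n) (Fin n) K :=
    { toFun := fun g => (mat g).map (algebraMap F K)
      map_one' := by rw [mat_one, Matrix.map_one _ (map_zero _) (map_one _)]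
      map_mul' := fun g g' => by rw [mat_mul, Matrix.map_mul] }
  have hGinj : Function.Injective Gm := fun g g' h =>
    su_eq_of_mat (Matrix.map_injective (algebraMap F K).injective h)
  have hrel : ∀ g, (Gm g)ᵀ * (Gm g).map φ = 1 := by
    intro g
    have h := congrArg (fun M : Matrix (Fin n) (Fin n) F => M.map (algebraMap F K)) (umat_su hF g)
    simp only [Matrix.map_mul, Matrix.map_one _ (map_zero (algebraMap F K)) (map_one _), Matrix.transpose_map,
      Matrix.map_map] at h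
    rw [← h]
    congr 1
    show ((mat g).map (algebraMap F K)).map φ = _
    rw [Matrix.map_map]
    ext a b
    simp [hφ, frob_apply]
  have hleft : ∀ (g : Cfsg.SU n F q) (v : Fin n → K) (c : K), Gm g *ᵥ v = c • v →
      φ c • ((Gm g)ᵀ *ᵥ (φ ∘ v)) = φ ∘ v := by
    intro g v c h
    have h1 : (Gm g).map φ *ᵥ (φ ∘ v) = φ c • (φ ∘ v) := by
      funext i
      rw [← RingHom.map_mulVec, h]
      simp
    rw [← Matrix.mulVec_smul, ← h1, Matrix.mulVec_mulVec, hrel, Matrix.one_mulVec]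
  set A := Gm z' with hA
  have hAl : A ^ ℓ = 1 := by rw [hA, ← map_pow, hzl, map_one]
  have hA1 : A ≠ 1 := fun h => hz1 (hGinj (h.trans (map_one Gm).symm))
  -- an eigenvalue different from one
  obtain ⟨ζ, hζr, hζ1⟩ : ∃ ζ : K, A.charpoly.IsRoot ζ ∧ ζ ≠ 1 := by
    by_contra hall
    push Not at hall
    have hs : A.charpoly.Splits := IsAlgClosed.splits _
    have hroots : A.charpoly.roots = Multiset.replicate (Multiset.card A.charpoly.roots) 1 :=
      Multiset.eq_replicate.mpr ⟨rfl, fun x hx => hall x (Polynomial.isRoot_of_mem_roots hx)⟩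
    have heq := hs.eq_prod_roots_of_monic (Matrix.charpoly_monic A)
    rw [hroots, Multiset.map_replicate, Multiset.prod_replicate] at heq
    have h0 := Matrix.aeval_self_charpoly A
    rw [heq, map_pow, map_sub, Polynomial.aeval_X, Polynomial.aeval_C, map_one] at h0
    set m := Multiset.card A.charpoly.roots
    have h1 : (A - 1) ^ (p ^ m) = 0 := pow_eq_zero_of_le (Nat.lt_pow_self hpp.one_lt).le h0
    haveI : Nonempty (Fin n) := ⟨⟨0, by omega⟩⟩
    rw [sub_pow_char_pow_of_commute p m (Commute.one_right A), _root_.one_pow, sub_eq_zero] at h1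
    exact hA1 (by
      have := pow_gcd_eq_one.mpr ⟨h1, hAl⟩
      rwa [Nat.Coprime.gcd_eq_one (hpl.pow_left m), pow_one] at this)
  have hev : ∀ c : K, A.charpoly.IsRoot c ↔ ∃ v : Fin n → K, v ≠ 0 ∧ A *ᵥ v = c • v := by
    intro c
    rw [Polynomial.IsRoot, Matrix.eval_charpoly, ← Matrix.exists_mulVec_eq_zero_iff]
    simp only [Matrix.scalar_apply, Matrix.sub_mulVec, sub_eq_zero]
    constructor
    · rintro ⟨v, hv, e⟩
      refine ⟨v, hv, ?_⟩
      rw [← e]; funext i; simp [Matrix.mulVec_diagonal]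
    · rintro ⟨v, hv, e⟩
      refine ⟨v, hv, ?_⟩
      rw [e]; funext i; simp [Matrix.mulVec_diagonal]
  have hroot_pow : ∀ c : K, A.charpoly.IsRoot c → c ^ ℓ = 1 := by
    intro c hc
    obtain ⟨v, hv, e⟩ := (hev c).mp hc
    have h1 : ∀ i : ℕ, A ^ i *ᵥ v = c ^ i • v := fun i => by
      induction i with
      | zero => simp
      | succ i ih => rw [pow_succ, ← Matrix.mulVec_mulVec, e, Matrix.mulVec_smul, ih, smul_smul, ← pow_succ']
    have h2 := h1 ℓ
    rw [hAl, Matrix.one_mulVec] at h2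
    exact (smul_left_injective K hv (by rwa [one_smul] : (1 : K) • v = c ^ ℓ • v)).symm
  set r := (ℓ - 1) * q with hr
  have hinvq : ∀ c : K, c ^ ℓ = 1 → φ c * c ^ r = 1 := by
    intro c hc
    rw [hφ, ← pow_add, show q + r = ℓ * q by
      rw [hr, ← one_add_mul, Nat.add_sub_cancel' hℓ.one_le], pow_mul, hc, _root_.one_pow]
  have htr : ∀ (v : Fin n → K) (c : K), A.charpoly.IsRoot c → A *ᵥ v = c • v →
      Aᵀ *ᵥ (φ ∘ v) = c ^ r • (φ ∘ v) := by
    intro v c hc hv
    have h := hleft z' v c hv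
    have h1 := hinvq c (hroot_pow c hc)
    rw [← hA] at h
    calc Aᵀ *ᵥ (φ ∘ v) = (φ c * c ^ r) • (Aᵀ *ᵥ (φ ∘ v)) := by rw [h1, one_smul]
      _ = c ^ r • (φ ∘ v) := by rw [mul_comm, mul_smul, h]
  have hφ0 : ∀ v : Fin n → K, v ≠ 0 → φ ∘ v ≠ 0 := fun v hv h => hv (funext fun i =>
    φ.injective (by rw [show φ (v i) = (φ ∘ v) i from rfl, h]; simp))
  have hclosed : ∀ c : K, A.charpoly.IsRoot c → A.charpoly.IsRoot (c ^ r) := by
    intro c hc
    obtain ⟨v, hv, e⟩ := (hev c).mp hc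
    have h1 : (Matrix.scalar (Fin n) (c ^ r) - Aᵀ).det = 0 := by
      refine Matrix.exists_mulVec_eq_zero_iff.mp ⟨φ ∘ v, hφ0 v hv, ?_⟩
      rw [Matrix.sub_mulVec, htr v c hc e, sub_eq_zero]
      funext i; simp [Matrix.mulVec_diagonal]
    rw [Polynomial.IsRoot, Matrix.eval_charpoly, ← Matrix.det_transpose, Matrix.transpose_sub,
      Matrix.scalar_apply, Matrix.diagonal_transpose]
    simpa using h1
  let lam : Fin n → K := fun i => ζ ^ (r ^ (i : ℕ))
  have hlamr : ∀ i, A.charpoly.IsRoot (lam i) := by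
    have : ∀ i : ℕ, A.charpoly.IsRoot (ζ ^ (r ^ i)) := fun i => by
      induction i with
      | zero => simpa using hζr
      | succ i ih => rw [pow_succ, pow_mul]; exact hclosed _ ih
    exact fun i => this i
  have hlam : Function.Injective lam := by
    intro a b hab
    have ho : orderOf ζ = ℓ := orderOf_eq_prime (hroot_pow ζ hζr) hζ1
    have h1 : ((r ^ (a : ℕ) : ℕ) : ZMod ℓ) = ((r ^ (b : ℕ) : ℕ) : ZMod ℓ) := by
      rw [ZMod.natCast_eq_natCast_iff', ← ho]
      exact (ho ▸ hℓ.ne_zero : orderOf ζ ≠ 0) |> fun h0 =>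
        (IsOfFinOrder.pow_eq_pow_iff_modEq (orderOf_pos_iff.mp (Nat.pos_of_ne_zero h0))).mp hab
    have hr' : ((r : ℕ) : ZMod ℓ) = ((-(q : ℤ) : ℤ) : ZMod ℓ) := by
      rw [hr, Nat.cast_mul, Nat.cast_sub hℓ.one_le]; simp
    rw [Nat.cast_pow, Nat.cast_pow, hr'] at h1
    have ha : (a : ℕ) < orderOf ((-(q : ℤ) : ℤ) : ZMod ℓ) := by
      rw [show orderOf ((-(q : ℤ) : ℤ) : ZMod ℓ) = n from hd]; exact a.2
    have hb : (b : ℕ) < orderOf ((-(q : ℤ) : ℤ) : ZMod ℓ) := by
      rw [show orderOf ((-(q : ℤ) : ℤ) : ZMod ℓ) = n from hd]; exact b.2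
    exact Fin.ext (pow_injOn_Iio_orderOf ha hb h1)
  choose v hv0 hve using fun i => (hev (lam i)).mp (hlamr i)
  have hind : LinearIndependent K v := by
    refine Module.End.eigenvectors_linearIndependent' (Matrix.toLin' A) lam hlam v fun i => ?_
    exact Module.End.hasEigenvector_iff.mpr ⟨Module.End.mem_eigenspace_iff.mpr (by rw [Matrix.toLin'_apply, hve]), hv0 i⟩
  haveI : Nonempty (Fin n) := ⟨⟨0, by omega⟩⟩
  let B : Module.Basis (Fin n) K (Fin n → K) :=
    basisOfLinearIndependentOfCardEqFinrank hind (by rw [Module.finrank_fin_fun, Fintype.card_fin])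
  have hB : ∀ i, B i = v i := fun i => by simp [B]
  have heig : ∀ g : P, ∀ i, ∃ c : K, Gm g *ᵥ v i = c • v i := by
    intro g i
    have hcomm : A * Gm g = Gm g * A := by
      rw [hA, ← map_mul, ← map_mul]
      exact congrArg Gm (congrArg Subtype.val (Subgroup.mem_center_iff.mp z.2 g)).symm
    set x := Gm g *ᵥ v i
    have hx : A *ᵥ x = lam i • x := by
      rw [Matrix.mulVec_mulVec, hcomm, ← Matrix.mulVec_mulVec, hve, Matrix.mulVec_smul]
    refine ⟨B.repr x i, ?_⟩
    conv_lhs => rw [← B.sum_repr x]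
    rw [Finset.sum_eq_single i (fun k _ hk => ?_) (fun h => absurd (Finset.mem_univ _) h), hB]
    have h1 : A *ᵥ x = ∑ k, (B.repr x k * lam k) • B k := by
      conv_lhs => rw [← B.sum_repr x]
      rw [Matrix.mulVec_sum]
      refine Finset.sum_congr rfl fun k _ => ?_
      rw [Matrix.mulVec_smul, hB, hve, smul_smul]
    have h2 : lam i • x = ∑ k, (lam i * B.repr x k) • B k := by
      conv_lhs => rw [← B.sum_repr x]
      rw [Finset.smul_sum]
      exact Finset.sum_congr rfl fun k _ => smul_smul _ _ _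
    have h3 := congrArg (fun y => B.repr y k) (h1.symm.trans (hx.trans h2))
    simp only [Module.Basis.repr_sum_self] at h3
    have h4 : B.repr x k = 0 := by
      by_contra hne
      exact hk (hlam (mul_left_cancel₀ hne (h3.trans (mul_comm _ _))))
    rw [h4, zero_smul]
  choose χ hχ using heig
  let i₀ : Fin n := ⟨0, by omega⟩
  let f : P →* K :=
    { toFun := fun g => χ g i₀
      map_one' := smul_left_injective K (hv0 i₀) (by
        show χ 1 i₀ • v i₀ = (1 : K) • v i₀
        rw [← hχ, OneMemClass.coe_one, map_one, Matrix.one_mulVec, one_smul])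
      map_mul' := fun g g' => smul_left_injective K (hv0 i₀) (by
        show χ (g * g') i₀ • v i₀ = (χ g i₀ * χ g' i₀) • v i₀
        rw [← hχ, MulMemClass.coe_mul, map_mul, ← Matrix.mulVec_mulVec, hχ, Matrix.mulVec_smul, hχ, smul_smul,
          mul_comm]) }
  refine isCyclic_of_subgroup_isDomain f ?_
  refine (injective_iff_map_eq_one f).mpr fun g hg => ?_
  have hfix : ∀ (i : ℕ) (hi : i < n), Gm g *ᵥ v ⟨i, hi⟩ = v ⟨i, hi⟩ := by
    intro i
    induction i with
    | zero =>
      intro hi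
      rw [hχ, show χ g ⟨0, hi⟩ = 1 from hg, one_smul]
    | succ i ih =>
      intro hi
      set i' : Fin n := ⟨i, by omega⟩
      set w := φ ∘ v i'
      have hw : (Gm g)ᵀ *ᵥ w = w := by
        have h := hleft g (v i') 1 (by rw [one_smul]; exact ih _)
        rwa [map_one, one_smul] at h
      have hwA : Aᵀ *ᵥ w = lam ⟨i + 1, hi⟩ • w := by
        rw [htr (v i') (lam i') (hlamr i') (hve i')]
        show (ζ ^ r ^ i) ^ r • w = ζ ^ r ^ (i + 1) • w
        rw [← pow_mul, ← pow_succ]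
      have horth : ∀ k, k ≠ (⟨i + 1, hi⟩ : Fin n) → w ⬝ᵥ v k = 0 := by
        intro k hk
        have h1 : w ⬝ᵥ (A *ᵥ v k) = (Aᵀ *ᵥ w) ⬝ᵥ v k := by
          rw [Matrix.dotProduct_mulVec, Matrix.mulVec_transpose]
        rw [hve, hwA, dotProduct_smul, smul_dotProduct, smul_eq_mul, smul_eq_mul] at h1
        by_contra hne
        exact hk (hlam (mul_right_cancel₀ hne h1))
      have hne : w ⬝ᵥ v ⟨i + 1, hi⟩ ≠ 0 := by
        intro h0
        refine hφ0 _ (hv0 i') (dotProduct_eq_zero _ fun y => ?_)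
        rw [← B.sum_repr y, dotProduct_sum]
        refine Finset.sum_eq_zero fun k _ => ?_
        rw [dotProduct_smul, hB]
        rcases eq_or_ne k ⟨i + 1, hi⟩ with rfl | hk
        · rw [h0, smul_zero]
        · rw [horth k hk, smul_zero]
      have h1 : w ⬝ᵥ (Gm g *ᵥ v ⟨i + 1, hi⟩) = w ⬝ᵥ v ⟨i + 1, hi⟩ := by
        rw [Matrix.dotProduct_mulVec, ← Matrix.mulVec_transpose, hw]
      rw [hχ, dotProduct_smul, smul_eq_mul] at h1
      rw [hχ, (mul_eq_right₀ hne).mp h1, one_smul]
  have h1 : Gm g = 1 := by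
    refine Matrix.toLin'.injective (B.ext fun i => ?_)
    rw [Matrix.toLin'_apply, Matrix.toLin'_apply, hB, Matrix.one_mulVec]
    exact hfix i i.2
  exact Subtype.ext (hGinj (h1.trans (map_one Gm).symm))

/-- The vanishing in the primitive case. -/
theorem van_primitive {ℓ p : ℕ} [CharP F p] (hℓ : ℓ.Prime) (hpl : p.Coprime ℓ) {n : ℕ} (hn : 2 ≤ n)
    (hd : ord q ℓ = n) : Van ℓ (Cfsg.SU n F q) := by
  haveI := Fact.mk hℓ
  obtain ⟨P⟩ := (inferInstance : Nonempty (Sylow ℓ (Cfsg.SU n F q)))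
  haveI : IsCyclic ↥(P : Subgroup (Cfsg.SU n F q)) := cyclic_sylow hF hℓ hpl hn hd P
  exact StemEll.van_of_cyclic (M := (P : Subgroup (Cfsg.SU n F q))) (by
    rw [Nat.coprime_comm, hℓ.coprime_iff_not_dvd]; exact P.not_dvd_index' (Subgroup.index_ne_zero_of_finite))

end CfsgLib.SUCover
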