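import Cfsg.Agent.Lib.SUCover.Many
import Cfsg.Agent.Lib.SUCover.Cyclic
import Cfsg.Agent.S2117
import Cfsg.Agent.S2118
import Cfsg.Agent.S3952

/-!
The part of the multiplier of `SU_n(q)` prime to the characteristic.
-/

set_option autoImplicit false
set_option linter.unusedSectionVars false

namespace CfsgLib.SUCover

open CfsgLib.StemEll (Van)

universe u

variable {F : Type u} [Field F] [Fintype F] {q : ℕ} (hF : Fintype.card F = q ^ 2)

include hF

theorem not_dvd_q {ℓ p : ℕ} [CharP F p] (hℓ : ℓ.Prime) (hpl : p.Coprime ℓ) : ¬ ℓ ∣ q := by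
  obtain ⟨hpp, j, -, rfl⟩ := q_pow hF (p := p)
  exact fun h => ((Nat.coprime_primes hpp hℓ).mp hpl)
    ((Nat.prime_dvd_prime_iff_eq hℓ hpp).mp (hℓ.dvd_of_dvd_pow h)).symm

theorem van_SU_two {ℓ : ℕ} (hℓ : ℓ.Prime) (hq : ¬ ℓ ∣ q) : Van ℓ (Cfsg.SU 2 F q) := by
  classical
  obtain ⟨K, _, _, hK⟩ := exists_K hF
  obtain ⟨e⟩ := Cfsg.Agent.S0281.result (F := F) hF hK
  haveI : Finite (Matrix.SpecialLinearGroup (Fin 2) K) := Subtype.finite
  by_cases h9 : q = 9
  · refine (StemEll.van_of_mult (n := 3) ?_ (Cfsg.Agent.S2118.result (F := K) (by rw [hK, h9])) ?_).of_equiv e.symm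
    · rw [Nat.coprime_primes Nat.prime_three hℓ]
      intro h
      exact hq (by rw [← h, h9]; norm_num)
    · intro a
      have h := pow_card_eq_one' (x := a)
      rwa [show Nat.card (Multiplicative (ZMod 3)) = 3 by simp] at h
  by_cases h4 : q = 4
  · haveI : Finite (Cfsg.SU 2 F q) := inferInstance
    have hA := Schur.hasSchurMultiplier (Schur.basePres_surjective (Cfsg.SU 2 F q))
    haveI := Schur.finite_of_hasSchur hA
    have h := Cfsg.Agent.S3952.result hA
    have hcard : Nat.card (Cfsg.SU 2 F q) = 60 := by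
      have h1 := card_GU_SU hF (n := 2) (by norm_num)
      rw [UnitaryOrder.card_GU hF, Finset.prod_range_succ, Finset.prod_range_succ, Finset.prod_range_zero,
        if_pos (by decide), if_neg (by decide)] at h1
      subst h4
      norm_num at h1
      rw [Nat.card_eq_fintype_card]
      omega
    rw [hcard] at h
    set m := Monoid.exponent (Schur.mult (Schur.basePres (Cfsg.SU 2 F q))) with hm
    have hm2 : m ∣ 2 := by
      have hle : m ≤ 7 := by
        have := Nat.le_of_dvd (by norm_num) h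
        nlinarith
      interval_cases m <;> revert h <;> decide
    refine StemEll.van_of_mult (n := 2) ?_ hA fun a => Monoid.exponent_dvd_iff_forall_pow_eq_one.mp hm2 a
    rw [Nat.coprime_primes Nat.prime_two hℓ]
    intro h2
    exact hq (by rw [← h2, h4]; norm_num)
  exact (StemEll.van_of_trivial (Cfsg.Agent.S2117.result (F := K) (by rwa [hK]) (by rwa [hK]))).of_equiv e.symm

/-- The `ℓ`-part of the multiplier of `SU_n(q)` vanishes for `ℓ` different from the characteristic. -/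
theorem van_SU {ℓ p : ℕ} [CharP F p] (hℓ : ℓ.Prime) (hpl : p.Coprime ℓ) (n : ℕ) : Van ℓ (Cfsg.SU n F q) := by
  have hq := not_dvd_q hF hℓ hpl
  have hq2 : 2 ≤ q := q_gt_one hF
  have hd0 := ord_pos hℓ hq
  induction n using Nat.strong_induction_on with
  | _ n ih =>
  rcases Nat.lt_or_ge n 2 with hn | hn
  · haveI := su_one_subsingleton hF (n := n) (by omega)
    haveI : IsCyclic (Cfsg.SU n F q) := isCyclic_of_subsingleton
    exact Van.of_comm
  rcases Nat.eq_or_lt_of_le hn with rfl | hn3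
  · exact van_SU_two hF hℓ hq
  -- two blocks
  have two : ∀ a, 1 ≤ a → a < n → ((a = 1 ∧ ¬ ord q ℓ ∣ n ∧ ord q ℓ ≠ 1) ∨
      ∃ e r, a = ord q ℓ * ℓ ^ e ∧ n = a * r ∧ ¬ ℓ ∣ r) → Van ℓ (Cfsg.SU n F q) := by
    intro a ha han h
    obtain ⟨a', rfl⟩ : ∃ a', a = a' + 1 := ⟨a - 1, by omega⟩
    obtain ⟨b', hb'⟩ : ∃ b', n = (a' + 1) + (b' + 1) := ⟨n - a' - 2, by omega⟩
    subst hb'
    exact van_two hF hℓ hpl finSumFinEquiv
      (vGU_two hℓ hq (Nat.succ_pos a') (Nat.succ_pos b') h) (ih _ (by omega)) (ih _ (by omega))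
  by_cases hdn : ord q ℓ ∣ n
  swap
  · exact two 1 le_rfl (by omega) (Or.inl ⟨rfl, hdn, fun h => hdn (by rw [h]; exact one_dvd n)⟩)
  obtain ⟨t, ht⟩ := hdn
  have ht0 : t ≠ 0 := fun h => by rw [h, mul_zero] at ht; omega
  obtain ⟨e, r, hr, rfl⟩ := Nat.exists_eq_pow_mul_and_not_dvd ht0 ℓ hℓ.ne_one
  have hr0 : r ≠ 0 := fun h => hr (h ▸ dvd_zero ℓ)
  by_cases hr1 : r = 1
  swap
  · have hpos : 0 < ord q ℓ * ℓ ^ e := Nat.mul_pos hd0 (pow_pos hℓ.pos e)
    refine two (ord q ℓ * ℓ ^ e) hpos ?_ (Or.inr ⟨e, r, rfl, by rw [ht, mul_assoc], hr⟩)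
    rw [ht, ← mul_assoc]
    exact lt_mul_of_one_lt_right hpos (by omega)
  subst hr1
  rw [mul_one] at ht
  rcases Nat.eq_zero_or_pos e with rfl | he
  · rw [pow_zero, mul_one] at ht
    exact van_primitive hF hℓ hpl hn ht.symm
  obtain ⟨e', rfl⟩ : ∃ e', e = e' + 1 := ⟨e - 1, by omega⟩
  obtain ⟨b', hb'⟩ : ∃ b', ord q ℓ * ℓ ^ e' = b' + 1 :=
    ⟨ord q ℓ * ℓ ^ e' - 1, by have := Nat.mul_pos hd0 (pow_pos hℓ.pos e'); omega⟩
  obtain rfl : n = (b' + 1) * ℓ := by rw [ht, ← hb', pow_succ, mul_assoc]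
  have hcond : Odd ℓ ∨ (ℓ = 2 ∧ 1 ≤ e') := by
    rcases hℓ.eq_two_or_odd' with h | h
    · refine Or.inr ⟨h, ?_⟩
      by_contra he'
      have hd2 := ord_lt hℓ hq
      subst h
      obtain rfl : e' = 0 := by omega
      rw [pow_zero, mul_one] at hb'
      omega
    · exact Or.inl h
  refine van_many hF hℓ hpl ?_ ?_ (ih _ ?_) (ih _ hn3) fun hb => ih _ ?_
  · intro h
    rcases hcond with ho | ⟨-, he'⟩
    · exact absurd (h ▸ ho) (by decide)
    · rw [← hb', h]
      exact (even_two.pow_of_ne_zero (by omega)).mul_left _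
  · rw [mul_comm (b' + 1) ℓ]
    exact vGU_prime hℓ hq hq2 hb'.symm hcond
  · exact lt_mul_of_one_lt_right (Nat.succ_pos b') hℓ.one_lt
  · exact lt_mul_of_one_lt_left hℓ.pos (by omega)

end CfsgLib.SUCover
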