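import Cfsg.Agent.Lib.UnitaryOrder

/-!
The `ℓ`-part of the orders of the unitary groups, for a prime `ℓ` not dividing `q`.
-/

set_option autoImplicit false

namespace CfsgLib.SUCover

variable {q ℓ : ℕ}

/-- The `m`-th factor of the order of a unitary group. -/
def fac (q m : ℕ) : ℕ := ((-(q : ℤ)) ^ m - 1).natAbs

/-- The `ℓ`-adic valuation. -/
noncomputable def val (ℓ n : ℕ) : ℕ := n.factorization ℓ

/-- The order of `-q` modulo `ℓ`. -/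
noncomputable def ord (q ℓ : ℕ) : ℕ := orderOf ((-(q : ℤ) : ℤ) : ZMod ℓ)

theorem fac_ne_zero (hq : 2 ≤ q) {m : ℕ} (hm : 1 ≤ m) : fac q m ≠ 0 := by
  intro h
  rw [fac, Int.natAbs_eq_zero, sub_eq_zero] at h
  have h1 := congrArg Int.natAbs h
  rw [Int.natAbs_pow, Int.natAbs_neg, Int.natAbs_natCast, Int.natAbs_one] at h1
  exact absurd h1 (Nat.one_lt_pow (by omega) hq).ne'

variable (hℓ : ℓ.Prime)
include hℓ

theorem val_zero_of_not_dvd {n : ℕ} (h : ¬ ℓ ∣ n) : val ℓ n = 0 := Nat.factorization_eq_zero_of_not_dvd h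

theorem val_mul {a b : ℕ} (ha : a ≠ 0) (hb : b ≠ 0) : val ℓ (a * b) = val ℓ a + val ℓ b := by
  rw [val, val, val, Nat.factorization_mul ha hb, Finsupp.add_apply]

theorem val_self : val ℓ ℓ = 1 := hℓ.factorization_self

theorem dvd_fac_iff (m : ℕ) : ℓ ∣ fac q m ↔ ord q ℓ ∣ m := by
  rw [fac, ← Int.natCast_dvd, ← ZMod.intCast_zmod_eq_zero_iff_dvd, Int.cast_sub, Int.cast_pow, Int.cast_one,
    sub_eq_zero, ord, orderOf_dvd_iff_pow_eq_one]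

variable (hq : ¬ ℓ ∣ q)
include hq

theorem ord_pos : 0 < ord q ℓ := by
  haveI := Fact.mk hℓ
  have h : ((-(q : ℤ) : ℤ) : ZMod ℓ) ≠ 0 := by
    rw [Int.cast_neg, neg_ne_zero, Int.cast_natCast, Ne, ZMod.natCast_eq_zero_iff]
    exact hq
  rw [ord, orderOf_pos_iff]
  exact isOfFinOrder_iff_pow_eq_one.mpr ⟨ℓ - 1, Nat.sub_pos_of_lt hℓ.one_lt, ZMod.pow_card_sub_one_eq_one h⟩

theorem ord_lt : ord q ℓ < ℓ := by
  haveI := Fact.mk hℓ
  have h : ((-(q : ℤ) : ℤ) : ZMod ℓ) ≠ 0 := by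
    rw [Int.cast_neg, neg_ne_zero, Int.cast_natCast, Ne, ZMod.natCast_eq_zero_iff]
    exact hq
  have := orderOf_le_of_pow_eq_one (Nat.sub_pos_of_lt hℓ.one_lt) (ZMod.pow_card_sub_one_eq_one h)
  rw [ord]
  have := hℓ.one_lt
  omega

omit hq in
/-- Powers prime to `ℓ` keep the valuation. -/
theorem val_pow_sub_one {x : ℤ} (hx : (ℓ : ℤ) ∣ x - 1) {r : ℕ} (hr : ¬ ℓ ∣ r) :
    val ℓ (x ^ r - 1).natAbs = val ℓ (x - 1).natAbs := by
  rcases eq_or_ne x 1 with rfl | hx1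
  · simp
  have hS : ¬ (ℓ : ℤ) ∣ ∑ i ∈ Finset.range r, x ^ i := by
    have h1 : (x : ZMod ℓ) = 1 := by
      have := (ZMod.intCast_zmod_eq_zero_iff_dvd (x - 1) ℓ).mpr hx
      rwa [Int.cast_sub, Int.cast_one, sub_eq_zero] at this
    rw [← ZMod.intCast_zmod_eq_zero_iff_dvd, Int.cast_sum]
    simp only [Int.cast_pow, h1, one_pow, Finset.sum_const, Finset.card_range, nsmul_eq_mul, mul_one]
    rwa [ZMod.natCast_eq_zero_iff]
  rw [← geom_sum_mul x r, Int.natAbs_mul, val_mul hℓ (fun h => hS (by rw [Int.natAbs_eq_zero.mp h]; exact dvd_zero _))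
    (Int.natAbs_ne_zero.mpr (sub_ne_zero.mpr hx1)), val_zero_of_not_dvd hℓ (fun h => hS (Int.natCast_dvd.mpr h)),
    zero_add]

omit hq in
/-- The `ℓ`-th power raises the valuation by one. -/
theorem val_pow_prime {x : ℤ} (hx : (ℓ : ℤ) ∣ x - 1) (hx1 : x ≠ 1) (h : Odd ℓ ∨ (ℓ = 2 ∧ 4 ∣ x - 1)) :
    val ℓ (x ^ ℓ - 1).natAbs = val ℓ (x - 1).natAbs + 1 := by
  obtain ⟨y, hy⟩ := hx
  have hpow : ∀ i : ℕ, ((ℓ : ℤ) ^ 2) ∣ x ^ i - 1 - i * (x - 1) := by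
    intro i
    induction i with
    | zero => simp
    | succ i ih =>
      have e : x ^ (i + 1) - 1 - ((i + 1 : ℕ) : ℤ) * (x - 1) =
          (x ^ i - 1 - i * (x - 1)) * x + i * (x - 1) ^ 2 := by push_cast; ring
      rw [e]
      refine dvd_add (ih.mul_right _) ?_
      rw [hy]
      exact Dvd.intro ((i : ℤ) * y ^ 2) (by ring)
  have hsum : ∀ r : ℕ, ((ℓ : ℤ) ^ 2) ∣
      (∑ i ∈ Finset.range r, x ^ i) - r - (∑ i ∈ Finset.range r, (i : ℤ)) * (x - 1) := by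
    intro r
    induction r with
    | zero => simp
    | succ r ih =>
      rw [Finset.sum_range_succ, Finset.sum_range_succ, Nat.cast_succ]
      rw [show (∑ i ∈ Finset.range r, x ^ i) + x ^ r - ((r : ℤ) + 1) -
          ((∑ i ∈ Finset.range r, (i : ℤ)) + (r : ℤ)) * (x - 1) =
          ((∑ i ∈ Finset.range r, x ^ i) - (r : ℤ) - (∑ i ∈ Finset.range r, (i : ℤ)) * (x - 1)) +
            (x ^ r - 1 - (r : ℤ) * (x - 1)) by ring]
      exact dvd_add ih (hpow r)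
  have hT : ((ℓ : ℤ) ^ 2) ∣ (∑ i ∈ Finset.range ℓ, (i : ℤ)) * (x - 1) := by
    rcases h with hodd | ⟨rfl, h4⟩
    · obtain ⟨s, hs⟩ := hodd
      have e : (∑ i ∈ Finset.range ℓ, (i : ℤ)) = (ℓ : ℤ) * s := by
        have := Finset.sum_range_id_mul_two ℓ
        have h2 : ((∑ i ∈ Finset.range ℓ, i : ℕ) : ℤ) * 2 = (ℓ : ℤ) * (2 * s) := by
          have h3 : (∑ i ∈ Finset.range ℓ, i) * 2 = ℓ * (2 * s) := by rw [this, hs]; simp
          exact_mod_cast h3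
        push_cast at h2
        linarith
      rw [e, hy]
      exact Dvd.intro ((s : ℤ) * y) (by ring)
    · exact (show ((2 : ℕ) : ℤ) ^ 2 = 4 by norm_num) ▸ h4.mul_left _
  have hS := dvd_add (hsum ℓ) hT
  rw [sub_add_cancel] at hS
  obtain ⟨k, hk⟩ := hS
  have hSv : (∑ i ∈ Finset.range ℓ, x ^ i) = (ℓ : ℤ) * (1 + ℓ * k) := by linear_combination hk
  have hnd : ¬ (ℓ : ℤ) ∣ 1 + ℓ * k := fun hd => by
    have h1 : (ℓ : ℤ) ∣ 1 := (dvd_add_left (dvd_mul_right _ _)).mp hd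
    exact hℓ.ne_one (by exact_mod_cast Nat.dvd_one.mp (Int.natCast_dvd_natCast.mp h1))
  have hne : (1 + (ℓ : ℤ) * k).natAbs ≠ 0 := fun h => hnd (by rw [Int.natAbs_eq_zero.mp h]; exact dvd_zero _)
  rw [← geom_sum_mul x ℓ, hSv, Int.natAbs_mul, Int.natAbs_mul, Int.natAbs_natCast,
    val_mul hℓ (mul_ne_zero hℓ.ne_zero hne) (Int.natAbs_ne_zero.mpr (sub_ne_zero.mpr hx1)),
    val_mul hℓ hℓ.ne_zero hne, val_self hℓ, val_zero_of_not_dvd hℓ (fun h => hnd (Int.natCast_dvd.mpr h))]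
  ring

theorem val_fac_zero {m : ℕ} (h : ¬ ord q ℓ ∣ m) : val ℓ (fac q m) = 0 :=
  val_zero_of_not_dvd hℓ (by rwa [dvd_fac_iff hℓ])

theorem val_fac_eq (e : ℕ) {r : ℕ} (hr : ¬ ℓ ∣ r) :
    val ℓ (fac q (ord q ℓ * (ℓ ^ e * r))) = val ℓ (fac q (ord q ℓ * ℓ ^ e)) := by
  have h := (dvd_fac_iff hℓ (q := q) (ord q ℓ * ℓ ^ e)).mpr (Dvd.intro _ rfl)
  rw [fac, ← Int.natCast_dvd] at h
  rw [fac, fac, ← mul_assoc, pow_mul]
  exact val_pow_sub_one hℓ h hr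

theorem val_fac_succ (hq2 : 2 ≤ q) {e : ℕ} (h : Odd ℓ ∨ (ℓ = 2 ∧ 1 ≤ e)) :
    val ℓ (fac q (ord q ℓ * ℓ ^ (e + 1))) = val ℓ (fac q (ord q ℓ * ℓ ^ e)) + 1 := by
  have hd := ord_pos hℓ hq
  have hdvd := (dvd_fac_iff hℓ (q := q) (ord q ℓ * ℓ ^ e)).mpr (Dvd.intro _ rfl)
  rw [fac, ← Int.natCast_dvd] at hdvd
  rw [fac, fac, pow_succ, ← mul_assoc, pow_mul]
  refine val_pow_prime hℓ hdvd ?_ ?_
  · intro h1
    exact fac_ne_zero hq2 (m := ord q ℓ * ℓ ^ e) (Nat.mul_pos hd (pow_pos hℓ.pos e)) (by rw [fac, h1]; rfl)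
  · rcases h with h | ⟨rfl, he⟩
    · exact Or.inl h
    refine Or.inr ⟨rfl, ?_⟩
    obtain ⟨e', rfl⟩ := Nat.exists_eq_add_of_le he
    rw [show ord q 2 * 2 ^ (1 + e') = 2 * (ord q 2 * 2 ^ e') by ring, pow_mul, neg_sq, ← pow_mul,
      show 2 * (ord q 2 * 2 ^ e') = (ord q 2 * 2 ^ e') * 2 by ring, pow_mul]
    have hodd : ((q : ℤ) ^ (ord q 2 * 2 ^ e')) % 2 = 1 := by
      have : (q : ℤ) % 2 = 1 := by omega
      rw [← Int.odd_iff] at this ⊢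
      exact this.pow
    obtain ⟨t, ht⟩ : ∃ t, (q : ℤ) ^ (ord q 2 * 2 ^ e') = 2 * t + 1 := ⟨_, (Int.mul_ediv_add_emod _ 2).symm.trans (by rw [hodd])⟩
    rw [ht]
    exact Dvd.intro (t * t + t) (by ring)

/-- Valuations of the factors agree along residues. -/
theorem val_fac_shift {e t m : ℕ} (ht0 : 0 < t) (ht : t < ord q ℓ * ℓ ^ e) (hm : ord q ℓ * ℓ ^ e ∣ m) :
    val ℓ (fac q (m + t)) = val ℓ (fac q t) := by
  have hdm : ord q ℓ ∣ m := (Dvd.intro _ rfl : ord q ℓ ∣ ord q ℓ * ℓ ^ e).trans hm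
  by_cases hdt : ord q ℓ ∣ t
  · obtain ⟨t', rfl⟩ := hdt
    have ht'0 : t' ≠ 0 := fun h => by rw [h, mul_zero] at ht0; exact lt_irrefl 0 ht0
    obtain ⟨f, r, hr, rfl⟩ := Nat.exists_eq_pow_mul_and_not_dvd ht'0 ℓ hℓ.ne_one
    have hfe : f < e := by
      have h1 : ℓ ^ f * r < ℓ ^ e := Nat.lt_of_mul_lt_mul_left ht
      have hr0 : 0 < r := Nat.pos_of_ne_zero fun h => hr (h ▸ dvd_zero ℓ)
      exact (Nat.pow_lt_pow_iff_right hℓ.one_lt).mp (lt_of_le_of_lt (Nat.le_mul_of_pos_right _ hr0) h1)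
    obtain ⟨c, rfl⟩ := hm
    obtain ⟨g, rfl⟩ := Nat.exists_eq_add_of_lt hfe
    rw [val_fac_eq hℓ hq f hr,
      show ord q ℓ * ℓ ^ (f + g + 1) * c + ord q ℓ * (ℓ ^ f * r) = ord q ℓ * (ℓ ^ f * (ℓ * (ℓ ^ g * c) + r)) by ring,
      val_fac_eq hℓ hq f (fun h => hr ((Nat.dvd_add_right (dvd_mul_right ℓ _)).mp h))]
  · rw [val_fac_zero hℓ hq hdt, val_fac_zero hℓ hq (fun h => hdt ((Nat.dvd_add_right hdm).mp h))]

/-- The valuation of the order of `GU_k`. -/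
noncomputable def vGU (q ℓ k : ℕ) : ℕ := ∑ i ∈ Finset.range k, val ℓ (fac q (i + 1))

omit hℓ hq in
theorem vGU_add (k j : ℕ) : vGU q ℓ (k + j) = vGU q ℓ k + ∑ i ∈ Finset.range j, val ℓ (fac q (k + i + 1)) := by
  rw [vGU, vGU, Finset.sum_range_add]

/-- Splitting off a block. -/
theorem vGU_two {a b : ℕ} (ha : 1 ≤ a) (hb : 1 ≤ b)
    (h : (a = 1 ∧ ¬ ord q ℓ ∣ a + b ∧ ord q ℓ ≠ 1) ∨
      ∃ e r, a = ord q ℓ * ℓ ^ e ∧ a + b = a * r ∧ ¬ ℓ ∣ r) :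
    vGU q ℓ (a + b) = vGU q ℓ a + vGU q ℓ b := by
  rw [add_comm a b, vGU_add, add_comm (vGU q ℓ a), add_right_inj, vGU]
  refine Finset.sum_congr rfl fun i hi => ?_
  rw [Finset.mem_range] at hi
  rcases h with ⟨rfl, h1, h2⟩ | ⟨e, r, hae, hab, hr⟩
  · obtain rfl : i = 0 := by omega
    rw [val_fac_zero hℓ hq (show ¬ ord q ℓ ∣ b + 0 + 1 by rwa [add_zero, add_comm]),
      val_fac_zero hℓ hq (fun h => h2 (Nat.dvd_one.mp h))]
  · have hbm : a ∣ b := (Nat.dvd_add_right (dvd_refl a)).mp (Dvd.intro r hab.symm)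
    rcases eq_or_ne (i + 1) a with hia | hia
    · rw [add_assoc, hia, add_comm b a, hab, hae, mul_assoc, val_fac_eq hℓ hq e hr]
    · rw [add_assoc, val_fac_shift hℓ hq (Nat.succ_pos i) (show i + 1 < ord q ℓ * ℓ ^ e by omega) (hae ▸ hbm)]

/-- `ℓ` equal blocks. -/
theorem vGU_prime (hq2 : 2 ≤ q) {b e : ℕ} (hb : b = ord q ℓ * ℓ ^ e) (h : Odd ℓ ∨ (ℓ = 2 ∧ 1 ≤ e)) :
    vGU q ℓ (ℓ * b) = ℓ * vGU q ℓ b + 1 := by
  have hd := ord_pos hℓ hq
  have hb0 : 0 < b := hb ▸ Nat.mul_pos hd (pow_pos hℓ.pos e)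
  have key : ∀ c, c < ℓ → vGU q ℓ (c * b + b) =
      vGU q ℓ (c * b) + vGU q ℓ b + if c + 1 = ℓ then 1 else 0 := by
    intro c hc
    rw [vGU_add, add_assoc, add_right_inj]
    obtain ⟨b', hb'⟩ := Nat.exists_eq_add_of_lt hb0
    have hmid : ∀ i ∈ Finset.range b', val ℓ (fac q (c * b + i + 1)) = val ℓ (fac q (i + 1)) := fun i hi => by
      rw [Finset.mem_range] at hi
      rw [add_assoc, val_fac_shift hℓ hq (Nat.succ_pos i) (show i + 1 < ord q ℓ * ℓ ^ e by omega)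
        (hb ▸ Dvd.intro_left c rfl)]
    have hlast : val ℓ (fac q (c * b + b' + 1)) = val ℓ (fac q (b' + 1)) + if c + 1 = ℓ then 1 else 0 := by
      have e1 : c * b + b' + 1 = (c + 1) * b := by rw [hb']; ring
      rw [e1, show b' + 1 = b by omega, hb]
      split_ifs with hc'
      · rw [hc', show ℓ * (ord q ℓ * ℓ ^ e) = ord q ℓ * ℓ ^ (e + 1) by ring, val_fac_succ hℓ hq hq2 h]
      · rw [show (c + 1) * (ord q ℓ * ℓ ^ e) = ord q ℓ * (ℓ ^ e * (c + 1)) by ring,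
          val_fac_eq hℓ hq e (Nat.not_dvd_of_pos_of_lt (Nat.succ_pos c) (by omega)), add_zero]
    conv_lhs => rw [show b = b' + 1 by omega, Finset.sum_range_succ, ← show b = b' + 1 by omega]
    rw [Finset.sum_congr rfl hmid, hlast, vGU]
    conv_rhs => rw [show b = b' + 1 by omega, Finset.sum_range_succ]
    ring
  have main : ∀ c, c ≤ ℓ → vGU q ℓ (c * b) = c * vGU q ℓ b + if c = ℓ then 1 else 0 := by
    intro c
    induction c with
    | zero => intro _; rw [zero_mul, zero_mul, if_neg hℓ.ne_zero.symm]; rfl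
    | succ c ih =>
      intro hc
      rw [Nat.succ_mul, key c (by omega), ih (by omega), if_neg (by omega : c ≠ ℓ), Nat.succ_mul, add_zero]
  rw [main ℓ le_rfl, if_pos rfl]

omit hq in
theorem val_card_GU {F : Type*} [Field F] [Fintype F] (hF : Fintype.card F = q ^ 2) (hq' : ¬ ℓ ∣ q) (k : ℕ) :
    val ℓ (Nat.card (Cfsg.GU k F q)) = vGU q ℓ k := by
  have hq2 : 2 ≤ q := (UnitaryBasic.frob_exists hF).1
  have hfac : ∀ i : ℕ, fac q (i + 1) = if Even i then q ^ (i + 1) + 1 else q ^ (i + 1) - 1 := by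
    intro i
    split_ifs with hi
    · rw [fac, Odd.neg_pow hi.add_one, ← neg_add', Int.natAbs_neg, ← Nat.cast_pow, ← Nat.cast_one (R := ℤ),
        ← Nat.cast_add, Int.natAbs_natCast]
    · rw [fac, Even.neg_pow (Nat.even_add_one.mpr hi), ← Nat.cast_pow, ← Nat.cast_one (R := ℤ),
        ← Nat.cast_sub (Nat.one_le_pow _ _ (by omega)), Int.natAbs_natCast]
  rw [UnitaryOrder.card_GU hF]
  simp only [← hfac]
  rw [val, Nat.factorization_mul (pow_ne_zero _ (by omega))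
    (Finset.prod_ne_zero_iff.mpr fun i _ => fac_ne_zero hq2 (Nat.succ_pos i)), Finsupp.add_apply,
    Nat.factorization_pow, Finsupp.smul_apply, Nat.factorization_eq_zero_of_not_dvd hq', smul_zero, zero_add,
    Nat.factorization_prod fun i _ => fac_ne_zero hq2 (Nat.succ_pos i), Finset.sum_apply']
  rfl

end CfsgLib.SUCover
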