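import Cfsg.Agent.Lib.UnitarySimple

/-!
Block embeddings of unitary groups in the standard orthonormal coordinates.
-/

set_option autoImplicit false
set_option linter.unusedSectionVars false

namespace CfsgLib.SUCover

open Matrix
open CfsgLib.UnitaryTransvection (frob frob_apply)
open CfsgLib.UnitarySimple (mat mkSU su_ext mat_mul mat_one)

universe u

variable {F : Type u} [Field F] [Fintype F] {q : ℕ} (hF : Fintype.card F = q ^ 2)

section Matrices

variable {ι κ : Type*} [Fintype ι] [DecidableEq ι] [Fintype κ] [DecidableEq κ]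

/-- The matrix is unitary in orthonormal coordinates. -/
def UMat (M : Matrix ι ι F) : Prop := Mᵀ * M.map (frob hF) = 1

theorem umat_one : UMat hF (1 : Matrix ι ι F) := by
  unfold UMat
  rw [Matrix.transpose_one, Matrix.map_one _ (map_zero _) (map_one _), one_mul]

theorem umat_mul {M N : Matrix ι ι F} (hM : UMat hF M) (hN : UMat hF N) : UMat hF (M * N) := by
  unfold UMat at *
  rw [Matrix.transpose_mul, Matrix.map_mul, Matrix.mul_assoc, ← Matrix.mul_assoc Mᵀ, hM, Matrix.one_mul, hN]

theorem umat_submatrix {M : Matrix ι ι F} (hM : UMat hF M) (e : κ ≃ ι) : UMat hF (M.submatrix e e) := by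
  unfold UMat at *
  rw [Matrix.transpose_submatrix, ← Matrix.submatrix_map, Matrix.submatrix_mul_equiv, hM,
    Matrix.submatrix_one_equiv]

theorem umat_fromBlocks {A : Matrix ι ι F} {D : Matrix κ κ F} (hA : UMat hF A) (hD : UMat hF D) :
    UMat hF (Matrix.fromBlocks A 0 0 D) := by
  unfold UMat at *
  rw [Matrix.fromBlocks_transpose, Matrix.fromBlocks_map, Matrix.fromBlocks_multiply]
  simp [hA, hD, Matrix.fromBlocks_one]

theorem umat_blockDiagonal {A : κ → Matrix ι ι F} (hA : ∀ k, UMat hF (A k)) :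
    UMat hF (Matrix.blockDiagonal A) := by
  unfold UMat at *
  rw [Matrix.blockDiagonal_transpose, Matrix.blockDiagonal_map _ _ (map_zero _), ← Matrix.blockDiagonal_mul,
    show (fun k => (A k)ᵀ * (A k).map (frob hF)) = 1 from funext hA, Matrix.blockDiagonal_one]

theorem umat_diagonal {d : ι → F} (hd : ∀ i, d i ^ (q + 1) = 1) : UMat hF (Matrix.diagonal d) := by
  unfold UMat
  rw [Matrix.diagonal_transpose, Matrix.diagonal_map (map_zero _), Matrix.diagonal_mul_diagonal,
    ← Matrix.diagonal_one]
  congr 1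
  funext i
  rw [frob_apply, ← pow_succ', hd]

end Matrices

theorem isometry_of_umat {n : ℕ} {M : Matrix (Fin n) (Fin n) F} (hM : UMat hF M) (u v : Fin n → F) :
    Cfsg.hermForm n F q (M *ᵥ u) (M *ᵥ v) = Cfsg.hermForm n F q u v := by
  have e : ∀ x y : Fin n → F, Cfsg.hermForm n F q x y = x ⬝ᵥ fun j => frob hF (y j) := fun x y => by
    simp [Cfsg.hermForm, dotProduct, frob_apply]
  have h1 : (fun j => frob hF ((M *ᵥ v) j)) = M.map (frob hF) *ᵥ fun j => frob hF (v j) := by
    funext j
    simp [Matrix.mulVec, dotProduct, map_sum]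
  rw [e, e, h1, dotProduct_mulVec, ← Matrix.mulVec_transpose, Matrix.mulVec_mulVec]
  have h2 : (M.map (frob hF))ᵀ * M = 1 := by
    have := congrArg Matrix.transpose hM
    rwa [Matrix.transpose_mul, Matrix.transpose_transpose, Matrix.transpose_one] at this
  rw [h2, Matrix.one_mulVec]

theorem umat_of_isometry {n : ℕ} {M : Matrix (Fin n) (Fin n) F}
    (hM : ∀ u v, Cfsg.hermForm n F q (M *ᵥ u) (M *ᵥ v) = Cfsg.hermForm n F q u v) : UMat hF M := by
  have hq : q ≠ 0 := by have := (UnitaryBasic.frob_exists hF).1; omega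
  ext a b
  have h := hM (Pi.single a 1) (Pi.single b 1)
  simp only [Cfsg.hermForm, Matrix.mulVec_single_one, Matrix.col_apply] at h
  rw [Matrix.mul_apply]
  simp only [Matrix.transpose_apply, Matrix.map_apply, frob_apply]
  rw [h]
  simp [Pi.single_apply, Matrix.one_apply, ite_pow, zero_pow hq, eq_comm]

theorem umat_su {n : ℕ} (g : Cfsg.SU n F q) : UMat hF (mat g) := umat_of_isometry hF g.2

theorem umat_gu {n : ℕ} (g : Cfsg.GU n F q) : UMat hF g.1.1 := umat_of_isometry hF g.2

/-- An element of `SU` from a unitary matrix of determinant one. -/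
def toSU {n : ℕ} (M : Matrix (Fin n) (Fin n) F) (hM : UMat hF M) (hd : M.det = 1) : Cfsg.SU n F q :=
  mkSU M (isometry_of_umat hF hM) hd

theorem mat_toSU {n : ℕ} (M : Matrix (Fin n) (Fin n) F) (hM : UMat hF M) (hd : M.det = 1) :
    mat (toSU hF M hM hd) = M := rfl

theorem su_eq_of_mat {n : ℕ} {g k : Cfsg.SU n F q} (h : mat g = mat k) : g = k :=
  su_ext fun x => by rw [h]

/-! ### The norm one scalars -/

/-- The scalars of norm one. -/
def muq : Subgroup Fˣ := (powMonoidHom (q + 1) : Fˣ →* Fˣ).ker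

theorem mem_muq {u : Fˣ} : u ∈ muq (F := F) (q := q) ↔ u ^ (q + 1) = 1 := Iff.rfl

include hF in
theorem card_muq : Nat.card (muq (F := F) (q := q)) = q + 1 := by
  rw [muq, IsCyclic.card_powMonoidHom_ker, HermCount.card_sub_one hF, Nat.gcd_eq_right (dvd_mul_right _ _)]

/-- The determinant on the unitary group. -/
def detU (k : ℕ) : Cfsg.GU k F q →* muq (F := F) (q := q) :=
  ((GeneralLinearGroup.det).comp (Cfsg.GU k F q).subtype).codRestrict _ fun g =>
    UnitaryBasic.det_pow hF g.2

/-- The diagonal element with one given entry. -/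
def dg (k : ℕ) : muq (F := F) (q := q) →* Cfsg.GU (k + 1) F q :=
  MonoidHom.mk' (fun u => ⟨UnitaryBasic.dgl (Function.update 1 0 u.1), UnitaryBasic.dgl_mem _ fun i => by
    rcases eq_or_ne i 0 with rfl | hi
    · rw [Function.update_self]; exact u.2
    · rw [Function.update_of_ne hi, Pi.one_apply, one_pow]⟩) fun u v => by
    apply Subtype.ext
    apply Units.ext
    show diagonal _ = diagonal _ * diagonal _
    rw [diagonal_mul_diagonal]
    congr 1
    funext i
    rcases eq_or_ne i 0 with rfl | hi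
    · simp
    · simp [Function.update_of_ne hi]

theorem dg_val (k : ℕ) (u : muq (F := F) (q := q)) :
    (dg (F := F) k u).1.1 = Matrix.diagonal (fun i => if i = 0 then (u.1 : F) else 1) := by
  show diagonal _ = _
  congr 1
  funext i
  rcases eq_or_ne i 0 with rfl | hi
  · simp
  · simp [Function.update_of_ne hi, hi]

theorem detU_dg (k : ℕ) (u : muq (F := F) (q := q)) : detU hF (k + 1) (dg k u) = u := by
  apply Subtype.ext
  apply Units.ext
  show (dg (F := F) k u).1.1.det = (u.1 : F)
  rw [dg_val, det_diagonal, Finset.prod_ite_eq' Finset.univ (0 : Fin (k + 1)) fun _ => (u.1 : F)]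
  simp

theorem detU_surjective (k : ℕ) : Function.Surjective (detU hF (k + 1)) := fun u => ⟨dg k u, detU_dg hF k u⟩

theorem detU_eq_one {k : ℕ} {g : Cfsg.GU k F q} (h : detU hF k g = 1) : g.1.1.det = 1 :=
  congrArg Units.val (congrArg Subtype.val h)

/-- An element of determinant one as an element of `SU`. -/
def guToSU {k : ℕ} (g : Cfsg.GU k F q) (h : detU hF k g = 1) : Cfsg.SU k F q :=
  toSU hF g.1.1 (umat_gu hF g) (detU_eq_one hF h)

/-! ### Two blocks -/

section Two

variable {a b n : ℕ} (e : Fin a ⊕ Fin b ≃ Fin n)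

/-- The matrix with two given blocks. -/
def two (A : Matrix (Fin a) (Fin a) F) (D : Matrix (Fin b) (Fin b) F) : Matrix (Fin n) (Fin n) F :=
  (Matrix.fromBlocks A 0 0 D).submatrix e.symm e.symm

theorem two_mul (A A' : Matrix (Fin a) (Fin a) F) (D D' : Matrix (Fin b) (Fin b) F) :
    two e (A * A') (D * D') = two e A D * two e A' D' := by
  rw [two, two, two, Matrix.submatrix_mul_equiv, Matrix.fromBlocks_multiply]
  simp

theorem two_inj {A A' : Matrix (Fin a) (Fin a) F} {D D' : Matrix (Fin b) (Fin b) F}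
    (h : two e A D = two e A' D') : A = A' ∧ D = D' := by
  constructor <;> ext i j
  · simpa [two] using congrFun (congrFun h (e (Sum.inl i))) (e (Sum.inl j))
  · simpa [two] using congrFun (congrFun h (e (Sum.inr i))) (e (Sum.inr j))

theorem det_two (A : Matrix (Fin a) (Fin a) F) (D : Matrix (Fin b) (Fin b) F) :
    (two e A D).det = A.det * D.det := by
  rw [two, Matrix.det_submatrix_equiv_self, Matrix.det_fromBlocks_zero₂₁]

theorem umat_two {A : Matrix (Fin a) (Fin a) F} {D : Matrix (Fin b) (Fin b) F} (hA : UMat hF A)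
    (hD : UMat hF D) : UMat hF (two e A D) :=
  umat_submatrix hF (umat_fromBlocks hF hA hD) _

/-- The pairs with inverse determinants. -/
def P2 (a b : ℕ) : Subgroup (Cfsg.GU a F q × Cfsg.GU b F q) :=
  ((detU hF a).comp (MonoidHom.fst _ _) * (detU hF b).comp (MonoidHom.snd _ _)).ker

theorem P2_det {x : Cfsg.GU a F q × Cfsg.GU b F q} (hx : x ∈ P2 hF a b) :
    x.1.1.1.det * x.2.1.1.det = 1 := by
  exact congrArg Units.val (congrArg Subtype.val (MonoidHom.mem_ker.mp hx))

/-- The block embedding. -/
def T2 : P2 hF a b →* Cfsg.SU n F q :=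
  MonoidHom.mk' (fun x => toSU hF (two e x.1.1.1.1 x.1.2.1.1) (umat_two hF e (umat_gu hF _) (umat_gu hF _))
    (by rw [det_two]; exact P2_det hF x.2)) fun x y => su_eq_of_mat (by
      rw [mat_mul, mat_toSU, mat_toSU, mat_toSU, ← two_mul]; rfl)

theorem T2_injective : Function.Injective (T2 hF e) := fun x y h => by
  obtain ⟨h1, h2⟩ := two_inj e (congrArg mat h)
  exact Subtype.ext (Prod.ext (Subtype.ext (Units.ext h1)) (Subtype.ext (Units.ext h2)))

/-- The product of the two special unitary groups. -/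
def S2 : Cfsg.SU a F q × Cfsg.SU b F q →* Cfsg.SU n F q :=
  MonoidHom.mk' (fun x => toSU hF (two e (mat x.1) (mat x.2)) (umat_two hF e (umat_su hF _) (umat_su hF _))
    (by rw [det_two, show (mat x.1).det = 1 from x.1.1.2, show (mat x.2).det = 1 from x.2.1.2, one_mul]))
    fun x y => su_eq_of_mat (by
      rw [mat_mul, mat_toSU, mat_toSU, mat_toSU, ← two_mul]; rfl)

theorem S2_injective : Function.Injective (S2 hF e) := fun x y h => by
  obtain ⟨h1, h2⟩ := two_inj e (congrArg mat h)
  exact Prod.ext (su_eq_of_mat h1) (su_eq_of_mat h2)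

end Two

/-! ### Equal blocks -/

section Many

variable {b l : ℕ}

/-- The standard numbering. -/
def pe : Fin b × Fin l ≃ Fin (b * l) := finProdFinEquiv

/-- The block diagonal matrix. -/
def many (A : Fin l → Matrix (Fin b) (Fin b) F) : Matrix (Fin (b * l)) (Fin (b * l)) F :=
  (Matrix.blockDiagonal A).submatrix pe.symm pe.symm

theorem many_mul (A A' : Fin l → Matrix (Fin b) (Fin b) F) : many (A * A') = many A * many A' := by
  rw [many, many, many, Matrix.submatrix_mul_equiv, ← Matrix.blockDiagonal_mul]; rfl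

theorem many_apply (A : Fin l → Matrix (Fin b) (Fin b) F) (x y : Fin b × Fin l) :
    many A (pe x) (pe y) = if x.2 = y.2 then A x.2 x.1 y.1 else 0 := by
  rw [many, Matrix.submatrix_apply, Equiv.symm_apply_apply, Equiv.symm_apply_apply, Matrix.blockDiagonal_apply]

theorem many_inj {A A' : Fin l → Matrix (Fin b) (Fin b) F} (h : many A = many A') : A = A' := by
  funext c
  ext i j
  simpa [many_apply] using congrFun (congrFun h (pe (i, c))) (pe (j, c))

theorem det_many (A : Fin l → Matrix (Fin b) (Fin b) F) : (many A).det = ∏ c, (A c).det := by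
  rw [many, Matrix.det_submatrix_equiv_self, Matrix.det_blockDiagonal]

theorem umat_many {A : Fin l → Matrix (Fin b) (Fin b) F} (hA : ∀ c, UMat hF (A c)) : UMat hF (many A) :=
  umat_submatrix hF (umat_blockDiagonal hF hA) _

/-- The tuples with determinants of product one. -/
def PN (b l : ℕ) : Subgroup (Fin l → Cfsg.GU b F q) :=
  (MonoidHom.mk' (fun x : Fin l → Cfsg.GU b F q => ∏ c, detU hF b (x c)) fun x y => by
    simp only [Pi.mul_apply, map_mul, Finset.prod_mul_distrib]).ker

theorem PN_det {x : Fin l → Cfsg.GU b F q} (hx : x ∈ PN hF b l) : ∏ c, (x c).1.1.det = 1 := by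
  have h := congrArg Subtype.val (MonoidHom.mem_ker.mp hx)
  simp only [MonoidHom.mk'_apply, Subgroup.val_finsetProd, OneMemClass.coe_one] at h
  have := congrArg Units.val h
  rw [Units.coe_prod, Units.val_one] at this
  exact this

/-- The block diagonal embedding. -/
def TN : PN hF b l →* Cfsg.SU (b * l) F q :=
  MonoidHom.mk' (fun x => toSU hF (many fun c => (x.1 c).1.1) (umat_many hF fun c => umat_gu hF _)
    (by rw [det_many]; exact PN_det hF x.2)) fun x y => su_eq_of_mat (by
      rw [mat_mul, mat_toSU, mat_toSU, mat_toSU, ← many_mul]; rfl)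

theorem TN_injective : Function.Injective (TN hF (b := b) (l := l)) := fun x y h => by
  have := many_inj (congrArg mat h)
  exact Subtype.ext (funext fun c => Subtype.ext (Units.ext (congrFun this c)))

/-- The power of the special unitary group. -/
def SN : (Fin l → Cfsg.SU b F q) →* Cfsg.SU (b * l) F q :=
  MonoidHom.mk' (fun x => toSU hF (many fun c => mat (x c)) (umat_many hF fun c => umat_su hF _)
    (by rw [det_many]; exact Finset.prod_eq_one fun c _ => (x c).1.2)) fun x y => su_eq_of_mat (by
      rw [mat_mul, mat_toSU, mat_toSU, mat_toSU, ← many_mul]; rfl)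

theorem SN_injective : Function.Injective (SN hF (b := b) (l := l)) := fun x y h => by
  have := many_inj (congrArg mat h)
  exact funext fun c => su_eq_of_mat (congrFun this c)

end Many

/-! ### A set of coordinates -/

section Coord

variable {k n : ℕ} (f : Fin k ↪ Fin n)

/-- The matrix acting on chosen coordinates and fixing the others. -/
noncomputable def embM (A : Matrix (Fin k) (Fin k) F) : Matrix (Fin n) (Fin n) F :=
  (Matrix.fromBlocks A 0 0 (1 : Matrix {x : Fin n // x ∉ Set.range f} {x : Fin n // x ∉ Set.range f} F)).submatrix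
    (((Equiv.ofInjective f f.injective).sumCongr (Equiv.refl _)).trans (Equiv.sumCompl (· ∈ Set.range f))).symm
    (((Equiv.ofInjective f f.injective).sumCongr (Equiv.refl _)).trans (Equiv.sumCompl (· ∈ Set.range f))).symm

theorem embM_index (x : Fin n) :
    (∃ i, x = f i ∧ (((Equiv.ofInjective f f.injective).sumCongr (Equiv.refl _)).trans
      (Equiv.sumCompl (· ∈ Set.range f))).symm x = Sum.inl i) ∨
    ∃ hx : x ∉ Set.range f, (((Equiv.ofInjective f f.injective).sumCongr (Equiv.refl _)).trans
      (Equiv.sumCompl (· ∈ Set.range f))).symm x = Sum.inr ⟨x, hx⟩ := by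
  by_cases hx : x ∈ Set.range f
  · obtain ⟨i, rfl⟩ := hx
    refine Or.inl ⟨i, rfl, ?_⟩
    rw [Equiv.symm_apply_eq]
    simp [Equiv.sumCongr, Equiv.ofInjective]
  · refine Or.inr ⟨hx, ?_⟩
    rw [Equiv.symm_apply_eq]
    simp [Equiv.sumCongr]

theorem embM_apply (A : Matrix (Fin k) (Fin k) F) (i j : Fin k) : embM f A (f i) (f j) = A i j := by
  rcases embM_index f (f i) with ⟨i', hi, hi'⟩ | ⟨hx, -⟩
  · rcases embM_index f (f j) with ⟨j', hj, hj'⟩ | ⟨hx, -⟩
    · obtain rfl := f.injective hi
      obtain rfl := f.injective hj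
      rw [embM, Matrix.submatrix_apply, hi', hj', Matrix.fromBlocks_apply₁₁]
    · exact absurd ⟨j, rfl⟩ hx
  · exact absurd ⟨i, rfl⟩ hx

theorem embM_apply_row {x : Fin n} (hx : x ∉ Set.range f) (A : Matrix (Fin k) (Fin k) F) (y : Fin n) :
    embM f A x y = (1 : Matrix (Fin n) (Fin n) F) x y := by
  rcases embM_index f x with ⟨i, rfl, -⟩ | ⟨hx', hx2⟩
  · exact absurd ⟨i, rfl⟩ hx
  · rcases embM_index f y with ⟨j, rfl, hj⟩ | ⟨hy, hy2⟩
    · rw [embM, Matrix.submatrix_apply, hx2, hj, Matrix.fromBlocks_apply₂₁, Matrix.one_apply_ne (by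
        rintro rfl; exact hx ⟨j, rfl⟩), Matrix.zero_apply]
    · rw [embM, Matrix.submatrix_apply, hx2, hy2, Matrix.fromBlocks_apply₂₂]
      simp [Matrix.one_apply]

theorem embM_apply_col {y : Fin n} (hy : y ∉ Set.range f) (A : Matrix (Fin k) (Fin k) F) (x : Fin n) :
    embM f A x y = (1 : Matrix (Fin n) (Fin n) F) x y := by
  rcases embM_index f x with ⟨i, rfl, hi⟩ | ⟨hx, -⟩
  · rcases embM_index f y with ⟨j, rfl, -⟩ | ⟨hy', hy2⟩
    · exact absurd ⟨j, rfl⟩ hy
    · rw [embM, Matrix.submatrix_apply, hi, hy2, Matrix.fromBlocks_apply₁₂, Matrix.one_apply_ne (by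
        intro e; exact hy ⟨i, e⟩), Matrix.zero_apply]
  · exact embM_apply_row f hx A y

theorem embM_mul (A B : Matrix (Fin k) (Fin k) F) : embM f (A * B) = embM f A * embM f B := by
  rw [embM, embM, embM, Matrix.submatrix_mul_equiv, Matrix.fromBlocks_multiply]
  simp

theorem det_embM (A : Matrix (Fin k) (Fin k) F) : (embM f A).det = A.det := by
  rw [embM, Matrix.det_submatrix_equiv_self, Matrix.det_fromBlocks_zero₂₁, Matrix.det_one, mul_one]

/-- The embedding on chosen coordinates. -/
noncomputable def embS : Cfsg.SU k F q →* Cfsg.SU n F q :=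
  MonoidHom.mk' (fun A => toSU hF (embM f (mat A))
    (umat_submatrix hF (umat_fromBlocks hF (umat_su hF A) (umat_one hF)) _)
    (by rw [det_embM]; exact A.1.2)) fun A B => su_eq_of_mat (by
      show embM f (mat A * mat B) = embM f (mat A) * embM f (mat B)
      rw [embM_mul])

theorem mat_embS (A : Cfsg.SU k F q) : mat (embS hF f A) = embM f (mat A) := rfl

theorem embS_injective : Function.Injective (embS hF f) := fun A B h => by
  have := congrArg mat h
  rw [mat_embS, mat_embS] at this
  exact su_eq_of_mat (Matrix.ext fun i j => by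
    rw [← embM_apply f (mat A) i j, this, embM_apply])

/-- Diagonal elements normalise the embedded subgroup. -/
theorem embS_diag_conj {g : Cfsg.SU n F q} {d : Fin n → F} (hg : mat g = Matrix.diagonal d)
    {h : Cfsg.SU n F q} (hh : h ∈ (embS (k := k) hF f).range) :
    g * h * g⁻¹ ∈ (embS (k := k) hF f).range := by
  obtain ⟨A, rfl⟩ := hh
  have hd : ∀ i, d i ^ (q + 1) = 1 := by
    intro i
    have h := congrFun (congrFun (umat_su hF g) i) i
    rw [hg, Matrix.diagonal_transpose, Matrix.diagonal_map (map_zero _), Matrix.diagonal_mul_diagonal,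
      Matrix.diagonal_apply_eq, frob_apply, Matrix.one_apply_eq, ← pow_succ'] at h
    exact h
  have hd0 : ∀ i, d i ≠ 0 := fun i h0 => by
    have := hd i; rw [h0, zero_pow (by omega)] at this; exact zero_ne_one this
  have hinv : ∀ i, (d i)⁻¹ ^ (q + 1) = 1 := fun i => by rw [inv_pow, hd, inv_one]
  let M := Matrix.diagonal (fun i => d (f i)) * mat A * Matrix.diagonal (fun i => (d (f i))⁻¹)
  have hM : UMat hF M := umat_mul hF (umat_mul hF (umat_diagonal hF fun i => hd _) (umat_su hF A))
    (umat_diagonal hF fun i => hinv _)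
  have hdet : M.det = 1 := by
    rw [Matrix.det_mul, Matrix.det_mul, Matrix.det_diagonal, Matrix.det_diagonal,
      show (mat A).det = 1 from A.1.2, mul_one, ← Finset.prod_mul_distrib]
    exact Finset.prod_eq_one fun i _ => mul_inv_cancel₀ (hd0 _)
  refine ⟨toSU hF M hM hdet, eq_mul_inv_of_mul_eq (su_eq_of_mat ?_)⟩
  rw [mat_mul, mat_mul, mat_embS, mat_embS, mat_toSU, hg]
  ext x y
  rw [Matrix.diagonal_mul, Matrix.mul_diagonal]
  by_cases hx : x ∈ Set.range f
  · by_cases hy : y ∈ Set.range f
    · obtain ⟨i, rfl⟩ := hx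
      obtain ⟨j, rfl⟩ := hy
      rw [embM_apply, embM_apply]
      show (Matrix.diagonal (fun i => d (f i)) * mat A * Matrix.diagonal (fun i => (d (f i))⁻¹)) i j * d (f j) = _
      rw [Matrix.mul_diagonal, Matrix.diagonal_mul]
      field_simp [hd0 (f j)]
    · rw [embM_apply_col f hy, embM_apply_col f hy]
      rcases eq_or_ne x y with rfl | hne
      · rw [Matrix.one_apply_eq]; ring
      · rw [Matrix.one_apply_ne hne]; ring
  · rw [embM_apply_row f hx, embM_apply_row f hx]
    rcases eq_or_ne x y with rfl | hne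
    · rw [Matrix.one_apply_eq]; ring
    · rw [Matrix.one_apply_ne hne]; ring

/-- Conjugation by a permutation of the coordinates that preserves the chosen ones. -/
theorem embS_perm_conj {g : Cfsg.SU n F q} {π : Equiv.Perm (Fin n)}
    (hg : mat g = (1 : Matrix (Fin n) (Fin n) F).submatrix π id) {π₀ : Equiv.Perm (Fin k)}
    (hπ : ∀ i, π (f i) = f (π₀ i)) {h : Cfsg.SU n F q} (hh : h ∈ (embS (k := k) hF f).range) :
    g * h * g⁻¹ ∈ (embS (k := k) hF f).range := by
  obtain ⟨A, rfl⟩ := hh
  refine ⟨toSU hF ((mat A).submatrix π₀ π₀) (umat_submatrix hF (umat_su hF A) π₀)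
    (by rw [Matrix.det_submatrix_equiv_self]; exact A.1.2), eq_mul_inv_of_mul_eq (su_eq_of_mat ?_)⟩
  rw [mat_mul, mat_mul, mat_embS, mat_embS, mat_toSU, hg]
  ext x y
  rw [Matrix.mul_apply, Matrix.mul_apply]
  simp only [Matrix.submatrix_apply, id_eq, Matrix.one_apply, mul_ite, mul_one, mul_zero, ite_mul, one_mul, zero_mul]
  rw [Finset.sum_eq_single (π.symm y) (fun b _ hb => if_neg fun h => hb (by rw [← h, Equiv.symm_apply_apply]))
    (fun h => absurd (Finset.mem_univ _) h), if_pos (Equiv.apply_symm_apply _ _),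
    Finset.sum_ite_eq Finset.univ (π x), if_pos (Finset.mem_univ _)]
  obtain ⟨z, rfl⟩ := π.surjective y
  rw [Equiv.symm_apply_apply]
  have hout : ∀ w, w ∉ Set.range f → π w ∉ Set.range f := by
    rintro w hw ⟨j, hj⟩
    exact hw ⟨π₀.symm j, π.injective (by rw [hπ, Equiv.apply_symm_apply, hj])⟩
  by_cases hx : x ∈ Set.range f
  · by_cases hz : z ∈ Set.range f
    · obtain ⟨i, rfl⟩ := hx
      obtain ⟨j, rfl⟩ := hz
      rw [embM_apply, hπ, hπ, embM_apply]; rfl
    · rw [embM_apply_col f hz, embM_apply_col f (hout z hz)]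
      simp [Matrix.one_apply, π.injective.eq_iff]
  · rw [embM_apply_row f hx, embM_apply_row f (hout x hx)]
    simp [Matrix.one_apply, π.injective.eq_iff]

end Coord

end CfsgLib.SUCover
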