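import Cfsg.Agent.Lib.SUCover.Basic

/-!
Root elements at the isotropic vector of a hyperbolic pair completed by orthonormal vectors.
-/

set_option autoImplicit false
set_option linter.unusedSectionVars false

namespace CfsgLib.SUCover

noncomputable section

open Matrix
open scoped commutatorElement
open CfsgLib.UnitaryTransvection
open CfsgLib.UnitarySimple (mat mkSU su_ext mat_mul mat_one su_h ru umat umat_mulVec tv tv_mulVec
  mat_inv_mulVec)

universe u

variable {F : Type u} [Field F] [Fintype F] {q n : ℕ} (hF : Fintype.card F = q ^ 2)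

local notation "σ" => frob hF
local notation "h" => Cfsg.hermForm n F q

include hF

theorem q_ne_zero : q ≠ 0 := by have := (UnitaryBasic.frob_exists hF).1; omega

theorem h_zero_left (x : Fin n → F) : h (0 : Fin n → F) x = 0 := by
  rw [← zero_smul F (0 : Fin n → F), h_smul_left, zero_mul]

theorem h_zero_right (x : Fin n → F) : h x (0 : Fin n → F) = 0 := by
  rw [← h_swap hF (0 : Fin n → F) x, h_zero_left hF, map_zero]

theorem h_sum_left {ι : Type*} (s : Finset ι) (v : ι → Fin n → F) (x : Fin n → F) :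
    h (∑ i ∈ s, v i) x = ∑ i ∈ s, h (v i) x :=
  map_sum ({ toFun := fun y => h y x, map_zero' := h_zero_left hF x,
             map_add' := fun y z => h_add_left y z x } : (Fin n → F) →+ F) v s

theorem h_sum_right {ι : Type*} (s : Finset ι) (v : ι → Fin n → F) (x : Fin n → F) :
    h x (∑ i ∈ s, v i) = ∑ i ∈ s, h x (v i) :=
  map_sum ({ toFun := fun y => h x y, map_zero' := h_zero_right hF x,
             map_add' := fun y z => h_add_right hF x y z } : (Fin n → F) →+ F) v s

theorem exists_trace {c : F} (hc : σ c = c) : ∃ t : F, c + t + σ t = 0 := by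
  obtain ⟨t, ht⟩ := WittExtension.exists_trace (frob_ne_id hF) (frob_frob hF) (c := -c) (by rw [map_neg, hc])
  exact ⟨t, by linear_combination ht⟩

theorem ru_congr {v a a' : Fin n → F} {s s' : F} (hv : h v v = 0) (hav : h a v = 0) (hav' : h a' v = 0)
    (hs : h a a + s + σ s = 0) (hs' : h a' a' + s' + σ s' = 0) (ea : a = a') (es : s = s') :
    ru hF hv hav hs = ru hF hv hav' hs' := by subst ea; subst es; rfl

theorem ru_mulVec {v a : Fin n → F} {s : F} (hv : h v v = 0) (hav : h a v = 0)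
    (hs : h a a + s + σ s = 0) (x : Fin n → F) :
    mat (ru hF hv hav hs) *ᵥ x = x + h x v • a - h x a • v + (s * h x v) • v := umat_mulVec v a s x

theorem ru_mul {v a b : Fin n → F} {s t : F} (hv : h v v = 0) (hav : h a v = 0) (hbv : h b v = 0)
    (hs : h a a + s + σ s = 0) (ht : h b b + t + σ t = 0) (habv : h (a + b) v = 0)
    (hst : h (a + b) (a + b) + (s + t - h b a) + σ (s + t - h b a) = 0) :
    ru hF hv hav hs * ru hF hv hbv ht = ru hF hv habv hst :=
  su_eq_of_mat (UnitarySimple.umat_mul hF hv hav hbv)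

/-- A transvection is the commutator of two root elements along a unit vector. -/
theorem tv_eq_comm {v w : Fin n → F} (hv : h v v = 0) (hwv : h w v = 0) (hww : h w w = 1) {c : F}
    (hc : c + σ c = 0) :
    ∃ (a : Fin n → F) (s t : F) (x : F) (hav : h a v = 0) (hs : h w w + s + σ s = 0)
      (ht : h a a + t + σ t = 0), a = x • w ∧
      ⁅ru hF hv hwv hs, ru hF hv hav ht⁆ = tv hF v hv c hc := by
  obtain ⟨d, hd⟩ := exists_trace_one hF
  set b := (-(d * c)) • w with hb
  have hbv : h b v = 0 := by rw [hb, h_smul_left, hwv, mul_zero]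
  obtain ⟨s, hs⟩ := exists_trace hF (c := h w w) (h_swap hF w w)
  obtain ⟨t, ht⟩ := exists_trace hF (c := h b b) (h_swap hF b b)
  refine ⟨b, s, t, _, hbv, hs, ht, hb, ?_⟩
  set U₁ := ru hF hv hwv hs
  set U₂ := ru hF hv hbv ht
  have key : U₁ * U₂ = tv hF v hv c hc * (U₂ * U₁) := su_ext fun x => by
    have e1 : mat (U₁ * U₂) = umat (q := q) v (w + b) (s + t - h b w) := UnitarySimple.umat_mul hF hv hwv hbv
    have e2 : mat (U₂ * U₁) = umat (q := q) v (b + w) (t + s - h w b) := UnitarySimple.umat_mul hF hv hbv hwv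
    have hwb : h w b - h b w = c := by
      rw [hb, h_smul_right hF, h_smul_left, hww]
      simp only [map_neg, map_mul]
      linear_combination c * hd - σ d * hc
    rw [mat_mul (tv hF v hv c hc), ← mulVec_mulVec, e1, e2, tv_mulVec, umat_mulVec, umat_mulVec]
    have e3 : h (x + h x v • (b + w) - h x (b + w) • v + ((t + s - h w b) * h x v) • v) v = h x v := by
      simp [h_add_left, h_sub_left, h_smul_left, hbv, hwv, hv]
    rw [e3, add_comm b w, ← hwb]
    module
  rw [commutatorElement_def, key]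
  group

theorem ru_zero {v : Fin n → F} {c : F} (hv : h v v = 0) (h0 : h (0 : Fin n → F) v = 0)
    (hc : h (0 : Fin n → F) 0 + c + σ c = 0) (hc' : c + σ c = 0) :
    ru hF hv h0 hc = tv hF v hv c hc' := by
  refine su_ext fun x => ?_
  rw [ru_mulVec, tv_mulVec, h_zero_right hF]
  simp

theorem ru_smul {v a : Fin n → F} {s : F} (lam : F) (hv : h v v = 0) (hlv : h (lam • v) (lam • v) = 0)
    (hav : h a v = 0) (hav' : h a (lam • v) = 0) (hs : h a a + s + σ s = 0) (hav'' : h (σ lam • a) v = 0)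
    (hs' : h (σ lam • a) (σ lam • a) + lam * σ lam * s + σ (lam * σ lam * s) = 0) :
    ru hF hlv hav' hs = ru hF hv hav'' hs' := by
  refine su_ext fun x => ?_
  rw [ru_mulVec, ru_mulVec]
  simp only [h_smul_right hF, frob_frob hF]
  module

theorem ru_conj (g : Cfsg.SU n F q) {v a : Fin n → F} {s : F} (hv : h v v = 0) (hav : h a v = 0)
    (hs : h a a + s + σ s = 0) (hv' : h (mat g *ᵥ v) (mat g *ᵥ v) = 0)
    (hav' : h (mat g *ᵥ a) (mat g *ᵥ v) = 0) (hs' : h (mat g *ᵥ a) (mat g *ᵥ a) + s + σ s = 0) :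
    g * ru hF hv hav hs * g⁻¹ = ru hF hv' hav' hs' := by
  refine su_ext fun x => ?_
  rw [mat_mul, mat_mul, ← mulVec_mulVec, ← mulVec_mulVec, ru_mulVec, ru_mulVec]
  simp only [mulVec_add, mulVec_sub, mulVec_smul, mat_inv_mulVec]
  have e : ∀ y, h x (mat g *ᵥ y) = h (mat g⁻¹ *ᵥ x) y := fun y => by
    conv_lhs => rw [← mat_inv_mulVec g x, su_h]
  rw [e, e]

/-! ### Scalings of a self-paired family -/

section Scaling

variable {ι : Type*} [Fintype ι] [DecidableEq ι]

/-- The matrix scaling the members of a family. -/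
def psM (v : ι → Fin n → F) (π : Equiv.Perm ι) (c : ι → F) : Matrix (Fin n) (Fin n) F :=
  1 + (Matrix.of fun k i => v i k) *
    (Matrix.diagonal (fun i => c i - 1) * Matrix.of fun i k => σ (v (π i) k))

theorem psM_mulVec (v : ι → Fin n → F) (π : Equiv.Perm ι) (c : ι → F) (x : Fin n → F) :
    psM hF v π c *ᵥ x = x + ∑ i, ((c i - 1) * h x (v (π i))) • v i := by
  rw [psM, Matrix.add_mulVec, Matrix.one_mulVec, ← Matrix.mulVec_mulVec, ← Matrix.mulVec_mulVec]
  congr 1
  funext k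
  rw [Finset.sum_apply]
  show ∑ i, v i k * (Matrix.diagonal (fun i => c i - 1) *ᵥ ((Matrix.of fun i k => σ (v (π i) k)) *ᵥ x)) i = _
  refine Finset.sum_congr rfl fun i _ => ?_
  rw [Matrix.mulVec_diagonal, Pi.smul_apply, smul_eq_mul, mul_comm]
  congr 2
  show ∑ k, σ (v (π i) k) * x k = _
  simp [Cfsg.hermForm, frob_apply, mul_comm]

/-- The scaling as an element of `SU`. -/
def ps (v : ι → Fin n → F) (π : Equiv.Perm ι) (hπ : ∀ i, π (π i) = i)
    (hG : ∀ i j, h (v i) (v j) = if j = π i then 1 else 0) (c : ι → F)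
    (hc : ∀ i, c i * σ (c (π i)) = 1) (hd : ∏ i, c i = 1) : Cfsg.SU n F q :=
  mkSU (psM hF v π c) (fun x y => by
    rw [psM_mulVec, psM_mulVec]
    simp only [h_add_left, h_add_right hF, h_sum_left hF, h_sum_right hF, h_smul_left, h_smul_right hF]
    have hswap : ∀ i, σ (h y (v (π i))) = h (v (π i)) y := fun i => h_swap hF y _
    have e2 : ∀ j, (∑ i, (c i - 1) * h x (v (π i)) * h (v i) (v j)) = (c (π j) - 1) * h x (v j) := by
      intro j
      rw [Finset.sum_eq_single (π j) (fun i _ hi => by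
          rw [hG, if_neg (fun e => hi (by rw [e, hπ])), mul_zero])
        (fun hh => absurd (Finset.mem_univ _) hh), hG, hπ, if_pos rfl, mul_one]
    simp only [e2]
    rw [add_assoc, add_eq_left,
      ← Equiv.sum_comp π (fun j => σ ((c j - 1) * h y (v (π j))) * (h x (v j) + (c (π j) - 1) * h x (v j))),
      ← Finset.sum_add_distrib]
    refine Finset.sum_eq_zero fun i _ => ?_
    rw [map_mul, hπ, h_swap hF y (v i)]
    simp only [map_sub, map_one]
    linear_combination (h x (v (π i)) * h (v i) y) * hc i)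
  (by
    rw [psM, Matrix.det_one_add_mul_comm, Matrix.mul_assoc,
      show (Matrix.of fun i k => σ (v (π i) k)) * (Matrix.of fun k i => v i k) = (1 : Matrix ι ι F) by
        ext i j
        rw [Matrix.mul_apply]
        show ∑ k, σ (v (π i) k) * v j k = _
        have h1 : h (v j) (v (π i)) = if i = j then 1 else 0 := by
          rw [hG]
          simp [π.injective.eq_iff]
        rw [Matrix.one_apply, ← h1]
        simp [Cfsg.hermForm, frob_apply, mul_comm],
      Matrix.mul_one, ← Matrix.diagonal_one, Matrix.diagonal_add, Matrix.det_diagonal, ← hd]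
    exact Finset.prod_congr rfl fun i _ => by ring)

variable (v : ι → Fin n → F) (π : Equiv.Perm ι) (hπ : ∀ i, π (π i) = i)
  (hG : ∀ i j, Cfsg.hermForm n F q (v i) (v j) = if j = π i then 1 else 0) (c : ι → F)
  (hc : ∀ i, c i * frob hF (c (π i)) = 1) (hd : ∏ i, c i = 1)

theorem ps_mulVec (x : Fin n → F) :
    mat (ps hF v π hπ hG c hc hd) *ᵥ x = x + ∑ i, ((c i - 1) * h x (v (π i))) • v i := psM_mulVec hF v π c x

theorem ps_apply (j : ι) : mat (ps hF v π hπ hG c hc hd) *ᵥ v j = c j • v j := by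
  rw [ps_mulVec hF v π hπ hG c hc hd, Finset.sum_eq_single j (fun i _ hi => by
      rw [hG, if_neg (fun e => hi (π.injective e)), mul_zero, zero_smul])
    (fun hh => absurd (Finset.mem_univ _) hh), hG, if_pos rfl, mul_one, sub_smul, one_smul, add_sub_cancel]

end Scaling

/-! ### Frames -/

/-- A hyperbolic pair completed by orthonormal vectors. -/
structure Frame (hF : Fintype.card F = q ^ 2) (n m : ℕ) where
  e : Fin n → F
  f : Fin n → F
  w : Fin m → Fin n → F
  he : Cfsg.hermForm n F q e e = 0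
  hf : Cfsg.hermForm n F q f f = 0
  hef : Cfsg.hermForm n F q e f = 1
  hwe : ∀ k, Cfsg.hermForm n F q (w k) e = 0
  hwf : ∀ k, Cfsg.hermForm n F q (w k) f = 0
  hww : ∀ k l, Cfsg.hermForm n F q (w k) (w l) = if k = l then 1 else 0
  hn : n = m + 2

namespace Frame

variable {hF}
variable {m : ℕ} (Fr : Frame (F := F) (q := q) hF n m)

local notation "hm" => Cfsg.hermForm m F q

theorem hfe : h Fr.f Fr.e = 1 := by rw [← h_swap hF Fr.e Fr.f, Fr.hef, map_one]

theorem hew (k : Fin m) : h Fr.e (Fr.w k) = 0 := by rw [← h_swap hF (Fr.w k) Fr.e, Fr.hwe, map_zero]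

theorem hfw (k : Fin m) : h Fr.f (Fr.w k) = 0 := by rw [← h_swap hF (Fr.w k) Fr.f, Fr.hwf, map_zero]

/-- All the vectors of the frame. -/
def v : Fin 2 ⊕ Fin m → Fin n → F := Sum.elim ![Fr.e, Fr.f] Fr.w

/-- The pairing of the frame. -/
def pr (m : ℕ) : Equiv.Perm (Fin 2 ⊕ Fin m) := Equiv.sumCongr (Equiv.swap 0 1) (Equiv.refl _)

omit hF in
theorem pr_inl (m : ℕ) (i : Fin 2) : pr m (Sum.inl i) = Sum.inl (Equiv.swap (0 : Fin 2) 1 i) := rfl

omit hF in
theorem pr_inr {m : ℕ} (i : Fin m) : pr m (Sum.inr i) = Sum.inr i := rfl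

omit hF in
theorem pr_pr (m : ℕ) (i : Fin 2 ⊕ Fin m) : pr m (pr m i) = i := by
  rcases i with i | i <;> simp [pr_inl, pr_inr]

theorem gram (i j : Fin 2 ⊕ Fin m) : h (Fr.v i) (Fr.v j) = if j = pr m i then 1 else 0 := by
  rcases i with i | i <;> rcases j with j | j
  · fin_cases i <;> fin_cases j <;> simp [v, pr_inl, pr_inr, Fr.he, Fr.hf, Fr.hef, Fr.hfe]
  · fin_cases i <;> simp [v, pr_inl, pr_inr, Fr.hew, Fr.hfw]
  · fin_cases j <;> simp [v, pr_inl, pr_inr, Fr.hwe, Fr.hwf]
  · simp [v, pr_inl, pr_inr, Fr.hww, eq_comm]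

/-- The vector with given coordinates. -/
def vec (a : Fin m → F) : Fin n → F := ∑ k, a k • Fr.w k

/-- The coordinates of a vector. -/
def coord (x : Fin n → F) : Fin m → F := fun k => h x (Fr.w k)

theorem coord_vec (a : Fin m → F) : Fr.coord (Fr.vec a) = a := by
  funext l
  rw [coord, vec, h_sum_left hF, Finset.sum_eq_single l (fun k _ hk => by rw [h_smul_left, Fr.hww, if_neg hk, mul_zero])
    (fun hh => absurd (Finset.mem_univ _) hh), h_smul_left, Fr.hww, if_pos rfl, mul_one]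

theorem vec_injective {a b : Fin m → F} (e : Fr.vec a = Fr.vec b) : a = b := by
  rw [← Fr.coord_vec a, e, Fr.coord_vec]

theorem vec_e (a : Fin m → F) : h (Fr.vec a) Fr.e = 0 := by
  rw [vec, h_sum_left hF]; exact Finset.sum_eq_zero fun k _ => by rw [h_smul_left, Fr.hwe, mul_zero]

theorem vec_f (a : Fin m → F) : h (Fr.vec a) Fr.f = 0 := by
  rw [vec, h_sum_left hF]; exact Finset.sum_eq_zero fun k _ => by rw [h_smul_left, Fr.hwf, mul_zero]

theorem e_vec (a : Fin m → F) : h Fr.e (Fr.vec a) = 0 := by rw [← h_swap hF (Fr.vec a) Fr.e, Fr.vec_e, map_zero]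

theorem f_vec (a : Fin m → F) : h Fr.f (Fr.vec a) = 0 := by rw [← h_swap hF (Fr.vec a) Fr.f, Fr.vec_f, map_zero]

theorem vec_add (a b : Fin m → F) : Fr.vec (a + b) = Fr.vec a + Fr.vec b := by
  simp only [vec, Pi.add_apply, add_smul, Finset.sum_add_distrib]

theorem vec_smul (c : F) (a : Fin m → F) : Fr.vec (c • a) = c • Fr.vec a := by
  simp only [vec, Pi.smul_apply, smul_eq_mul, mul_smul, Finset.smul_sum]

theorem vec_zero : Fr.vec 0 = 0 := by simp [vec]

theorem vec_single (k : Fin m) (c : F) : Fr.vec (Pi.single k c) = c • Fr.w k := by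
  rw [vec, Finset.sum_eq_single k (fun l _ hl => by rw [Pi.single_eq_of_ne hl, zero_smul])
    (fun hh => absurd (Finset.mem_univ _) hh), Pi.single_eq_same]

theorem vec_h (a b : Fin m → F) : h (Fr.vec a) (Fr.vec b) = hm a b := by
  have h1 : ∀ k, h (Fr.vec a) (Fr.w k) = a k := fun k => congrFun (Fr.coord_vec a) k
  show h (Fr.vec a) (∑ k, b k • Fr.w k) = _
  rw [h_sum_right hF]
  refine Finset.sum_congr rfl fun k _ => ?_
  rw [h_smul_right hF, h1, frob_apply, mul_comm]

/-- The frame spans. -/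
theorem complete (x : Fin n → F) : x = ∑ i, h x (Fr.v (pr m i)) • Fr.v i := by
  let P : Matrix (Fin n) (Fin 2 ⊕ Fin m) F := Matrix.of fun k i => Fr.v i k
  let Q : Matrix (Fin 2 ⊕ Fin m) (Fin n) F := Matrix.of fun i k => σ (Fr.v (pr m i) k)
  have hQP : Q * P = 1 := by
    ext i j
    have h1 : h (Fr.v j) (Fr.v (pr m i)) = if i = j then 1 else 0 := by
      rw [Fr.gram]
      simp [(pr m).injective.eq_iff]
    rw [Matrix.mul_apply, Matrix.one_apply, ← h1]
    show ∑ k, σ (Fr.v (pr m i) k) * Fr.v j k = _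
    simp [Cfsg.hermForm, frob_apply, mul_comm]
  have hPQ : P * Q = 1 := (Matrix.mul_eq_one_comm_of_equiv
    (finSumFinEquiv.trans (finCongr (by rw [Fr.hn, add_comm])))).mp hQP
  conv_lhs => rw [← Matrix.one_mulVec x, ← hPQ, ← Matrix.mulVec_mulVec]
  funext k
  rw [Finset.sum_apply]
  show ∑ i, Fr.v i k * (Q *ᵥ x) i = _
  refine Finset.sum_congr rfl fun i _ => ?_
  rw [Pi.smul_apply, smul_eq_mul, mul_comm]
  congr 1
  show ∑ k, σ (Fr.v (pr m i) k) * x k = _
  simp [Cfsg.hermForm, frob_apply, mul_comm]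

theorem decomp (x : Fin n → F) : x = h x Fr.f • Fr.e + h x Fr.e • Fr.f + Fr.vec (Fr.coord x) := by
  conv_lhs => rw [Fr.complete x, Fintype.sum_sum_type, Fin.sum_univ_two]
  rfl

theorem perp {x : Fin n → F} (h1 : h x Fr.e = 0) (h2 : h x Fr.f = 0) : x = Fr.vec (Fr.coord x) := by
  conv_lhs => rw [Fr.decomp x, h1, h2, zero_smul, zero_smul, zero_add, zero_add]

/-- Two elements agreeing on the frame are equal. -/
theorem ext {g k : Cfsg.SU n F q} (he : mat g *ᵥ Fr.e = mat k *ᵥ Fr.e) (hf : mat g *ᵥ Fr.f = mat k *ᵥ Fr.f)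
    (hw : ∀ a, mat g *ᵥ Fr.vec a = mat k *ᵥ Fr.vec a) : g = k :=
  su_ext fun x => by rw [Fr.decomp x]; simp only [mulVec_add, mulVec_smul, he, hf, hw]

/-! ### The radical -/

variable (hF) in
/-- The valid parameters. -/
def Ok (a : Fin m → F) (s : F) : Prop := hm a a + s + σ s = 0

open scoped Classical in
/-- The root element. -/
def X (a : Fin m → F) (s : F) : Cfsg.SU n F q :=
  if hs : Ok hF a s then ru hF Fr.he (Fr.vec_e a) (show h (Fr.vec a) (Fr.vec a) + s + σ s = 0 by rw [Fr.vec_h]; exact hs)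
  else 1

theorem X_eq {a : Fin m → F} {s : F} (hs : Ok hF a s) (hs' : h (Fr.vec a) (Fr.vec a) + s + σ s = 0) :
    Fr.X a s = ru hF Fr.he (Fr.vec_e a) hs' := by rw [X, dif_pos hs]

theorem X_mulVec {a : Fin m → F} {s : F} (hs : Ok hF a s) (x : Fin n → F) :
    mat (Fr.X a s) *ᵥ x = x + h x Fr.e • Fr.vec a - h x (Fr.vec a) • Fr.e + (s * h x Fr.e) • Fr.e := by
  rw [Fr.X_eq hs (by rw [Fr.vec_h]; exact hs), ru_mulVec]

theorem X_fix {a : Fin m → F} {s : F} (hs : Ok hF a s) : mat (Fr.X a s) *ᵥ Fr.e = Fr.e := by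
  rw [Fr.X_mulVec hs, Fr.he, Fr.e_vec]; simp

variable (hF) in
theorem ok_zero {c : F} : Ok (m := m) hF 0 c ↔ c + σ c = 0 := by
  rw [Ok, h_zero_left hF, zero_add]

variable (hF) in
theorem ok_add {a b : Fin m → F} {s t : F} (ha : Ok hF a s) (hb : Ok hF b t) :
    Ok hF (a + b) (s + t - hm b a) := by
  unfold Ok at *
  rw [h_add_left, h_add_right hF, h_add_right hF, map_sub, map_add, h_swap hF b a]
  linear_combination ha + hb

variable (hF) in
theorem ok_smul {a : Fin m → F} {s : F} (c : F) (ha : Ok hF a s) : Ok hF (σ c • a) (c * σ c * s) := by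
  unfold Ok at *
  rw [h_smul_left, h_smul_right hF, frob_frob hF, map_mul, map_mul, frob_frob hF]
  linear_combination (c * σ c) * ha

variable (hF) in
theorem exists_ok (a : Fin m → F) : ∃ s, Ok hF a s := exists_trace hF (h_swap hF a a)

theorem X_mul {a b : Fin m → F} {s t : F} (ha : Ok hF a s) (hb : Ok hF b t) :
    Fr.X a s * Fr.X b t = Fr.X (a + b) (s + t - hm b a) := by
  have hab := ok_add hF ha hb
  refine su_ext fun x => ?_
  rw [mat_mul, ← mulVec_mulVec, Fr.X_mulVec hb, Fr.X_mulVec ha, Fr.X_mulVec hab, Fr.vec_add]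
  simp only [h_add_left, h_sub_left, h_smul_left, h_add_right hF, Fr.vec_h, Fr.e_vec, Fr.vec_e, Fr.he]
  module

theorem X_zero : Fr.X 0 0 = 1 := by
  refine su_ext fun x => ?_
  rw [Fr.X_mulVec ((ok_zero hF).mpr (by simp)), Fr.vec_zero, h_zero_right hF, mat_one, one_mulVec]
  simp

theorem X_inv {a : Fin m → F} {s : F} (ha : Ok hF a s) : (Fr.X a s)⁻¹ = Fr.X (-a) (σ s) := by
  have hb : Ok hF (-a) (σ s) := by
    unfold Ok at *
    rw [← neg_one_smul F a, h_smul_left, h_smul_right hF, map_neg, map_one, frob_frob hF]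
    linear_combination ha
  refine inv_eq_of_mul_eq_one_right ?_
  rw [Fr.X_mul ha hb, add_neg_cancel, ← neg_one_smul F a, h_smul_left, ← Fr.X_zero]
  congr 1
  unfold Ok at ha
  linear_combination ha

theorem X_inj {a b : Fin m → F} {s t : F} (ha : Ok hF a s) (hb : Ok hF b t) (e : Fr.X a s = Fr.X b t) :
    a = b ∧ s = t := by
  have h1 := congrArg (fun g => mat g *ᵥ Fr.f) e
  simp only [Fr.X_mulVec ha, Fr.X_mulVec hb, Fr.hfe, Fr.f_vec] at h1
  have h2 := congrArg Fr.coord h1
  have hcw : ∀ (a : Fin m → F) (r : F),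
      Fr.coord (Fr.f + (1 : F) • Fr.vec a - (0 : F) • Fr.e + (r * 1) • Fr.e) = a := by
    intro a r
    funext k
    have h3 : h (Fr.vec a) (Fr.w k) = a k := congrFun (Fr.coord_vec a) k
    simp [coord, h_add_left, h_smul_left, Fr.hfw, Fr.hew, h3]
  rw [hcw, hcw] at h2
  subst h2
  refine ⟨rfl, ?_⟩
  have h3 := congrArg (fun y => h y Fr.f) h1
  simpa [h_add_left, h_smul_left, Fr.hf, Fr.hef, Fr.vec_f] using h3

theorem X_eq_one {a : Fin m → F} {s : F} (ha : Ok hF a s) (e : Fr.X a s = 1) : a = 0 ∧ s = 0 :=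
  Fr.X_inj ha ((ok_zero hF).mpr (by simp)) (e.trans Fr.X_zero.symm)

/-- An element scaling `e` and preserving the complement. -/
def Acts (g : Cfsg.SU n F q) (lam : F) (A : (Fin m → F) → Fin m → F) : Prop :=
  mat g *ᵥ Fr.e = lam • Fr.e ∧ ∀ a, mat g *ᵥ Fr.vec a = Fr.vec (A a)

variable {Fr} in
theorem Acts.herm {g : Cfsg.SU n F q} {lam : F} {A : (Fin m → F) → Fin m → F} (hg : Fr.Acts g lam A)
    (a b : Fin m → F) : hm (A a) (A b) = hm a b := by
  rw [← Fr.vec_h, ← hg.2, ← hg.2, su_h, Fr.vec_h]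

variable {Fr} in
theorem Acts.map_add {g : Cfsg.SU n F q} {lam : F} {A : (Fin m → F) → Fin m → F} (hg : Fr.Acts g lam A)
    (a b : Fin m → F) : A (a + b) = A a + A b :=
  Fr.vec_injective (by rw [Fr.vec_add, ← hg.2, ← hg.2, ← hg.2, Fr.vec_add, mulVec_add])

variable {Fr} in
theorem Acts.ok {g : Cfsg.SU n F q} {lam : F} {A : (Fin m → F) → Fin m → F} (hg : Fr.Acts g lam A)
    {a : Fin m → F} {s : F} (ha : Ok hF a s) : Ok hF (σ lam • A a) (lam * σ lam * s) :=
  ok_smul hF lam (show Ok hF (A a) s by unfold Ok at *; rw [hg.herm]; exact ha)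

theorem conj_X {g : Cfsg.SU n F q} {lam : F} {A : (Fin m → F) → Fin m → F} (hg : Fr.Acts g lam A)
    {a : Fin m → F} {s : F} (ha : Ok hF a s) :
    g * Fr.X a s * g⁻¹ = Fr.X (σ lam • A a) (lam * σ lam * s) := by
  have hlam : ∀ y, h y (lam • Fr.e) = σ lam * h y Fr.e := fun y => h_smul_right hF lam y Fr.e
  refine su_ext fun x => ?_
  rw [mat_mul, mat_mul, ← mulVec_mulVec, ← mulVec_mulVec, Fr.X_mulVec ha, Fr.X_mulVec (hg.ok ha)]
  simp only [mulVec_add, mulVec_sub, mulVec_smul, mat_inv_mulVec, hg.1, hg.2, Fr.vec_smul, h_smul_right hF,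
    frob_frob hF]
  have e : ∀ y, h (mat g⁻¹ *ᵥ x) y = h x (mat g *ᵥ y) := fun y => by
    conv_rhs => rw [← mat_inv_mulVec g x, su_h]
  rw [e, e, hg.1, hg.2, hlam]
  module

theorem acts_of_fix {g : Cfsg.SU n F q} (he : mat g *ᵥ Fr.e = Fr.e) (hf : mat g *ᵥ Fr.f = Fr.f) :
    Fr.Acts g 1 (fun a => Fr.coord (mat g *ᵥ Fr.vec a)) := by
  refine ⟨by rw [he, one_smul], fun a => Fr.perp ?_ ?_⟩
  · conv_lhs => rw [← he, su_h]
    exact Fr.vec_e a
  · conv_lhs => rw [← hf, su_h]
    exact Fr.vec_f a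

theorem exists_diag (l₁ l₂ : F) (ν : Fin m → F) (h12 : l₁ * σ l₂ = 1) (hν : ∀ k, ν k * σ (ν k) = 1)
    (hd : l₁ * l₂ * ∏ k, ν k = 1) :
    ∃ g : Cfsg.SU n F q, Fr.Acts g l₁ (fun a k => ν k * a k) ∧ mat g *ᵥ Fr.f = l₂ • Fr.f := by
  have h21 : l₂ * σ l₁ = 1 := by
    have := congrArg σ h12
    rwa [map_mul, frob_frob hF, map_one, mul_comm] at this
  let c : Fin 2 ⊕ Fin m → F := Sum.elim ![l₁, l₂] ν
  let g := ps hF Fr.v (pr m) (pr_pr m) Fr.gram c
    (fun i => by
      rcases i with i | i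
      · fin_cases i <;> simp [c, pr_inl, h12, h21]
      · simp [c, pr_inr, hν])
    (by rw [Fintype.prod_sum_type, Fin.prod_univ_two]; simpa [c] using hd)
  refine ⟨g, ⟨ps_apply hF _ _ _ _ c _ _ (Sum.inl 0), fun a => ?_⟩, ps_apply hF _ _ _ _ c _ _ (Sum.inl 1)⟩
  rw [vec, Matrix.mulVec_sum, vec]
  refine Finset.sum_congr rfl fun k _ => ?_
  rw [mulVec_smul, show Fr.w k = Fr.v (Sum.inr k) from rfl, ps_apply, smul_smul, mul_comm]
  rfl

end Frame

end

end CfsgLib.SUCover
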