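import Cfsg.Agent.Lib.SUCover.Split

/-!
`ℓ` equal blocks permuted cyclically.
-/

set_option autoImplicit false
set_option linter.unusedSectionVars false

namespace CfsgLib.SUCover

open Matrix
open scoped commutatorElement Pointwise
open CfsgLib.StemEll (Van PGen Lift Lift_conj Lift_surj Lift_inter commute_of_norm central_of_PGen)
open CfsgLib.SpCover (commute_congr ker_comm)
open CfsgLib.UnitarySimple (mat mat_mul mat_one)

universe u

variable {F : Type u} [Field F] [Fintype F] {q : ℕ} (hF : Fintype.card F = q ^ 2)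

include hF

theorem permSU_conj {n : ℕ} (π : Equiv.Perm (Fin n)) (hπ : ((Equiv.Perm.sign π : ℤ) : F) = 1)
    (g : Cfsg.SU n F q) : mat (permSU hF π hπ * g * (permSU hF π hπ)⁻¹) = (mat g).submatrix π π := by
  let g' : Cfsg.SU n F q := toSU hF ((mat g).submatrix π π) (umat_submatrix hF (umat_su hF g) π)
    (by rw [Matrix.det_submatrix_equiv_self]; exact g.1.2)
  have h : permSU hF π hπ * g = g' * permSU hF π hπ := su_eq_of_mat (by
    rw [mat_mul, mat_mul, mat_permSU, mat_toSU]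
    ext i j
    simp only [Matrix.mul_apply, Matrix.submatrix_apply, Matrix.one_apply, id_eq, ite_mul, one_mul, zero_mul,
      mul_ite, mul_one, mul_zero, Finset.sum_ite_eq, Finset.mem_univ, if_true]
    rw [Finset.sum_eq_single (π.symm j) (fun b _ hb => if_neg fun hh => hb (by rw [← hh, Equiv.symm_apply_apply]))
      (fun hh => absurd (Finset.mem_univ _) hh), if_pos (Equiv.apply_symm_apply _ _), Equiv.apply_symm_apply])
  rw [h, mul_inv_cancel_right, mat_toSU]

omit hF in
theorem many_submatrix {b l : ℕ} (A : Fin l → Matrix (Fin b) (Fin b) F) (ρ : Equiv.Perm (Fin l)) :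
    (many A).submatrix (pe.permCongr (Equiv.prodCongrRight fun _ : Fin b => ρ))
      (pe.permCongr (Equiv.prodCongrRight fun _ : Fin b => ρ)) = many (A ∘ ρ) := by
  ext i j
  obtain ⟨x, rfl⟩ := pe.surjective i
  obtain ⟨y, rfl⟩ := pe.surjective j
  rw [Matrix.submatrix_apply, Equiv.permCongr_apply, Equiv.permCongr_apply, Equiv.symm_apply_apply,
    Equiv.symm_apply_apply, many_apply, many_apply]
  simp [ρ.injective.eq_iff]

omit hF in
theorem sign_blockPerm {b ℓ : ℕ} (hℓ : ℓ.Prime) (h2 : ℓ = 2 → Even b) :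
    ((Equiv.Perm.sign ((pe (b := b) (l := ℓ)).permCongr (Equiv.prodCongrRight fun _ : Fin b => finRotate ℓ)) : ℤ) : F)
      = 1 := by
  rw [Equiv.Perm.sign_permCongr, Equiv.Perm.sign_prodCongrRight, Finset.prod_const, sign_finRotate, ← pow_mul,
    Finset.card_univ, Fintype.card_fin]
  have he : Even ((ℓ - 1) * b) := by
    rcases hℓ.eq_two_or_odd' with h | h
    · exact (h2 h).mul_left _
    · exact (Nat.Odd.sub_odd h odd_one).mul_right _
  rw [he.neg_one_pow]; simp

theorem card_PN (b l : ℕ) [NeZero l] :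
    Nat.card (PN hF (b + 1) l) * (q + 1) = Nat.card (Cfsg.GU (b + 1) F q) ^ l := by
  let φ : (Fin l → Cfsg.GU (b + 1) F q) →* muq (F := F) (q := q) :=
    MonoidHom.mk' (fun x => ∏ c, detU hF (b + 1) (x c)) fun x y => by
      simp only [Pi.mul_apply, map_mul, Finset.prod_mul_distrib]
  have hs : Function.Surjective φ := fun u => ⟨Pi.mulSingle 0 (dg b u), by
    show ∏ c, detU hF (b + 1) ((Pi.mulSingle 0 (dg b u) : Fin l → Cfsg.GU (b + 1) F q) c) = u
    rw [Finset.prod_eq_single 0 (fun c _ hc => by rw [Pi.mulSingle_eq_of_ne hc, map_one])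
      (fun h => absurd (Finset.mem_univ _) h), Pi.mulSingle_eq_same, detU_dg]⟩
  have h := Subgroup.card_eq_card_quotient_mul_card_subgroup φ.ker
  rw [Nat.card_congr (QuotientGroup.quotientKerEquivOfSurjective φ hs).toEquiv, card_muq hF, Nat.card_pi,
    Finset.prod_const, Finset.card_univ, Fintype.card_fin] at h
  rw [h, mul_comm]
  rfl

/-- The kernel of the product on tuples of norm one scalars is generated by pairs. -/
theorem pairs_generate {l : ℕ} [NeZero l] {x : Fin l → muq (F := F) (q := q)} (hx : ∏ c, x c = 1) :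
    x ∈ Subgroup.closure {y | ∃ c, c ≠ 0 ∧ ∃ u : muq (F := F) (q := q),
      y = Pi.mulSingle c u * Pi.mulSingle 0 u⁻¹} := by
  classical
  have e : x = ∏ c, (Pi.mulSingle c (x c) * Pi.mulSingle (0 : Fin l) (x c)⁻¹) := by
    rw [Finset.prod_mul_distrib, Finset.univ_prod_mulSingle]
    have : ∏ c, (Pi.mulSingle (0 : Fin l) (x c)⁻¹ : Fin l → muq (F := F) (q := q)) = 1 := by
      show ∏ c, MonoidHom.mulSingle (fun _ : Fin l => muq (F := F) (q := q)) 0 (x c)⁻¹ = 1
      rw [← map_prod, Finset.prod_inv_distrib, hx, inv_one, map_one]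
    rw [this, mul_one]
  rw [e]
  refine Subgroup.prod_mem _ fun c _ => ?_
  rcases eq_or_ne c 0 with rfl | hc
  · rw [← Pi.mulSingle_mul, mul_inv_cancel, Pi.mulSingle_one]; exact one_mem _
  · exact Subgroup.subset_closure ⟨c, hc, x c, rfl⟩

/-- The vanishing for `ℓ` equal blocks. -/
theorem van_many {ℓ p : ℕ} [CharP F p] (hℓ : ℓ.Prime) (hpl : p.Coprime ℓ) {b : ℕ}
    (h2 : ℓ = 2 → Even (b + 1))
    (hv : vGU q ℓ ((b + 1) * ℓ) = ℓ * vGU q ℓ (b + 1) + 1)
    (hvb : Van ℓ (Cfsg.SU (b + 1) F q)) (hv2 : Van ℓ (Cfsg.SU 2 F q))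
    (hvl : b ≠ 0 → Van ℓ (Cfsg.SU ℓ F q)) : Van ℓ (Cfsg.SU ((b + 1) * ℓ) F q) := by
  classical
  haveI : NeZero ℓ := ⟨hℓ.ne_zero⟩
  haveI := Fact.mk hℓ
  have hn : 1 ≤ (b + 1) * ℓ := Nat.mul_pos (Nat.succ_pos b) hℓ.pos
  have hq' : ¬ ℓ ∣ q := by
    obtain ⟨hpp, j, -, rfl⟩ := q_pow hF (p := p)
    exact fun h => ((Nat.coprime_primes hpp hℓ).mp hpl) ((Nat.prime_dvd_prime_iff_eq hℓ hpp).mp (hℓ.dvd_of_dvd_pow h)).symm
  set π : Equiv.Perm (Fin ((b + 1) * ℓ)) := pe.permCongr (Equiv.prodCongrRight fun _ : Fin (b + 1) => finRotate ℓ) with hπ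
  have hsg : ((Equiv.Perm.sign π : ℤ) : F) = 1 := sign_blockPerm hℓ h2
  set c : (Cfsg.SU ((b + 1) * ℓ) F q) := permSU hF π hsg with hcdef
  have hπpe : ∀ (i : Fin (b + 1)) (k : Fin ℓ), π (pe (i, k)) = pe (i, finRotate ℓ k) := fun i k => by
    rw [hπ, Equiv.permCongr_apply, Equiv.symm_apply_apply]; rfl
  set R := (TN hF (b := b + 1) (l := ℓ)).range with hR
  have hrot : ∀ x : PN hF (b + 1) ℓ, ∃ y : PN hF (b + 1) ℓ,
      (∀ k, y.1 k = x.1 (finRotate ℓ k)) ∧ c * TN hF x * c⁻¹ = TN hF y := by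
    intro x
    refine ⟨⟨x.1 ∘ finRotate ℓ, ?_⟩, fun k => rfl, ?_⟩
    · show ∏ k, detU hF (b + 1) (x.1 (finRotate ℓ k)) = 1
      rw [Equiv.prod_comp (finRotate ℓ) (fun k => detU hF (b + 1) (x.1 k))]
      exact x.2
    · refine su_eq_of_mat ((permSU_conj hF π hsg _).trans ?_)
      exact many_submatrix _ _
  have hcn : ∀ x ∈ R, c * x * c⁻¹ ∈ R := by
    rintro _ ⟨x, rfl⟩
    obtain ⟨y, -, h⟩ := hrot x
    exact ⟨y, h.symm⟩
  have hcl : c ^ ℓ = 1 := by
    have hpow : ∀ i : ℕ, mat (c ^ i) = (1 : Matrix (Fin ((b + 1) * ℓ)) (Fin ((b + 1) * ℓ)) F).submatrix (π ^ i : Equiv.Perm (Fin ((b + 1) * ℓ))) id := by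
      intro i
      induction i with
      | zero => rw [pow_zero, pow_zero, Equiv.Perm.coe_one, Matrix.submatrix_id_id]; rfl
      | succ i ih => rw [pow_succ, mat_mul, ih, hcdef, mat_permSU, perm_mat_mul, pow_succ']; rfl
    refine su_eq_of_mat ?_
    rw [hpow]
    have hπl : π ^ ℓ = 1 := by
      have hr : (finRotate ℓ) ^ ℓ = 1 := by
        rw [← orderOf_dvd_iff_pow_eq_one]
        have h := isCycle_finRotate_of_le hℓ.two_le
        rw [h.orderOf, support_finRotate_of_le hℓ.two_le, Finset.card_univ, Fintype.card_fin]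
      have hp : ∀ i : ℕ, ∀ x : Fin (b + 1) × Fin ℓ, (π ^ i) (pe x) = pe (x.1, ((finRotate ℓ) ^ i) x.2) := by
        intro i
        induction i with
        | zero => intro x; simp
        | succ i ih => intro x; rw [pow_succ', Equiv.Perm.mul_apply, ih, hπpe, pow_succ', Equiv.Perm.mul_apply]
      refine Equiv.ext fun y => ?_
      obtain ⟨x, rfl⟩ := pe.surjective y
      rw [hp, hr]; simp
    rw [hπl, Equiv.Perm.coe_one, Matrix.submatrix_id_id]; rfl
  have hcR : c ∉ R := by
    rintro ⟨x, hx⟩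
    have h := congrFun (congrFun (congrArg mat hx) (pe (0, 0))) (pe (0, finRotate ℓ 0))
    have hne : (0 : Fin ℓ) ≠ finRotate ℓ 0 := fun e => by
      have := (isCycle_finRotate_of_le hℓ.two_le)
      have hs : (0 : Fin ℓ) ∈ (finRotate ℓ).support := by rw [support_finRotate_of_le hℓ.two_le]; simp
      exact Equiv.Perm.mem_support.mp hs e.symm
    rw [show mat (TN hF x) = many (fun k => (x.1 k).1.1) from rfl, many_apply, if_neg (by exact hne), hcdef,
      mat_permSU, Matrix.submatrix_apply, hπpe, id_eq, Matrix.one_apply_eq] at h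
    exact zero_ne_one h
  set M := R ⊔ Subgroup.zpowers c with hM
  have hnor : Subgroup.zpowers c ≤ Subgroup.normalizer (R : Set (Cfsg.SU ((b + 1) * ℓ) F q)) := by
    rw [Subgroup.zpowers_le]
    exact Subgroup.mem_normalizer_fintype hcn
  have hMmem : ∀ x ∈ M, ∃ r ∈ R, ∃ i : ℤ, x = r * c ^ i := by
    intro x hx
    have hx' : x ∈ (↑R * ↑(Subgroup.zpowers c) : Set (Cfsg.SU ((b + 1) * ℓ) F q)) := by
      rw [← Subgroup.coe_mul_of_right_le_normalizer_left R (Subgroup.zpowers c) hnor]; exact hx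
    obtain ⟨r, hr, d, ⟨i, rfl⟩, rfl⟩ := hx'
    exact ⟨r, hr, i, rfl⟩
  have hidx : M.index.Coprime ℓ := by
    have hne : M.index ≠ 0 := Subgroup.index_ne_zero_of_finite
    refine coprime_of_val_zero hℓ hne ?_
    haveI : (R.subgroupOf M).Normal :=
      Subgroup.normal_subgroupOf_of_le_normalizer (sup_le Subgroup.le_normalizer hnor)
    let cM : M := ⟨c, Subgroup.mem_sup_right (Subgroup.mem_zpowers c)⟩
    have hdvd : ℓ ∣ R.relIndex M := by
      rw [Subgroup.relIndex, Subgroup.index_eq_card]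
      have h1 : (QuotientGroup.mk cM : M ⧸ R.subgroupOf M) ^ ℓ = 1 := by
        rw [← QuotientGroup.mk_pow, show cM ^ ℓ = 1 from Subtype.ext hcl, QuotientGroup.mk_one]
      have h2 : (QuotientGroup.mk cM : M ⧸ R.subgroupOf M) ≠ 1 := fun h => hcR (Subgroup.mem_subgroupOf.mp
        ((QuotientGroup.eq_one_iff cM).mp h))
      have h3 := orderOf_dvd_natCard (QuotientGroup.mk cM : M ⧸ R.subgroupOf M)
      rwa [orderOf_eq_prime h1 h2] at h3
    obtain ⟨k, hk⟩ := hdvd
    have hcard : Nat.card M = ℓ * k * Nat.card (PN hF (b + 1) ℓ) := by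
      have e1 : Nat.card (R.subgroupOf M) * R.relIndex M = Nat.card M := Subgroup.card_mul_index _
      rw [Nat.card_congr (Subgroup.subgroupOfEquivOfLe (le_sup_left : R ≤ M)).toEquiv, hk] at e1
      rw [← e1, mul_comm (ℓ * k)]
      congr 1
      exact (Nat.card_congr (MonoidHom.ofInjective (TN_injective hF)).toEquiv).symm
    have h2 : M.index * (ℓ * k) * Nat.card (Cfsg.GU (b + 1) F q) ^ ℓ = Nat.card (Cfsg.GU ((b + 1) * ℓ) F q) := by
      rw [← card_PN hF b ℓ, card_GU_SU hF hn, ← Subgroup.index_mul_card M, hcard]; ring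
    have hk0 : k ≠ 0 := fun h => by
      have := Nat.card_pos (α := M)
      rw [hcard, h, mul_zero, zero_mul] at this
      exact lt_irrefl 0 this
    have h3 := congrArg (val ℓ) h2
    rw [val_mul hℓ (mul_ne_zero hne (mul_ne_zero hℓ.ne_zero hk0)) (pow_ne_zero _ (card_GU_ne_zero hF _)),
      val_mul hℓ hne (mul_ne_zero hℓ.ne_zero hk0), val_mul hℓ hℓ.ne_zero hk0, val_self hℓ,
      show val ℓ (Nat.card (Cfsg.GU (b + 1) F q) ^ ℓ) = ℓ * val ℓ (Nat.card (Cfsg.GU (b + 1) F q)) by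
        rw [val, Nat.factorization_pow]; rfl,
      val_card_GU hℓ hF hq', val_card_GU hℓ hF hq', hv] at h3
    omega
  refine StemEll.van_of_subgroup hidx fun Γ _ _ σ hs hc hK z hz hzM => ?_
  -- the subgroups of the blocks
  set N := (SN hF (b := b + 1) (l := ℓ)).range with hN
  have hpi := StemEll.van_pi hpl (pgen_SU hF (p := p) (b + 1)) hvb ℓ
  have hNp : PGen p N := by rw [hN, MonoidHom.range_eq_map]; exact hpi.2.map _
  have hNv : Van ℓ N := hpi.1.of_equiv (MonoidHom.ofInjective (SN_injective hF))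
  let PM : Subgroup (Fin ℓ → muq (F := F) (q := q)) :=
    (MonoidHom.mk' (fun x : Fin ℓ → muq (F := F) (q := q) => ∏ k, x k) fun x y => by
      simp only [Pi.mul_apply, Finset.prod_mul_distrib]).ker
  let η : PM →* (Cfsg.SU ((b + 1) * ℓ) F q) := (TN hF).comp
    (((MonoidHom.compLeft (dg (F := F) (q := q) b) (Fin ℓ)).comp PM.subtype).codRestrict (PN hF (b + 1) ℓ)
      fun x => by
        show ∏ k, detU hF (b + 1) (dg b (x.1 k)) = 1
        simp only [detU_dg]
        exact x.2)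
  have hη : ∀ x : PM, mat (η x) = many (fun k => (dg b (x.1 k)).1.1) := fun x => rfl
  set A0 := η.range with hA0
  have hdec : ∀ r ∈ R, ∃ a ∈ A0, ∃ s ∈ N, r = s * a := by
    rintro _ ⟨x, rfl⟩
    let y : PM := ⟨fun k => detU hF (b + 1) (x.1 k), x.2⟩
    let w : Fin ℓ → Cfsg.GU (b + 1) F q := fun k => x.1 k * (dg b (detU hF (b + 1) (x.1 k)))⁻¹
    have hw : ∀ k, detU hF (b + 1) (w k) = 1 := fun k => by simp [w, detU_dg]
    refine ⟨η y, ⟨y, rfl⟩, SN hF (fun k => guToSU hF (w k) (hw k)), ⟨_, rfl⟩, su_eq_of_mat ?_⟩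
    rw [mat_mul, hη]
    show many _ = many _ * many _
    rw [← many_mul]
    congr 1
    funext k
    show (x.1 k).1.1 = ((w k).1 * (dg b (detU hF (b + 1) (x.1 k))).1).1
    simp [w]
  have hinterNA : ∀ a ∈ A0, a ∈ N → a = 1 := by
    rintro _ ⟨y, rfl⟩ ⟨s, hsy⟩
    have h := many_inj (show many (fun k => mat (s k)) = many (fun k => (dg b (y.1 k)).1.1) from congrArg mat hsy)
    have : y = 1 := Subtype.ext (funext fun k => Subtype.ext (Units.ext (by
      have h1 := congrArg Matrix.det (congrFun h k)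
      rw [show (mat (s k)).det = 1 from (s k).1.2, dg_val, det_diagonal,
        Finset.prod_ite_eq' Finset.univ (0 : Fin (b + 1)) fun _ => ((y.1 k).1 : F)] at h1
      simpa using h1.symm)))
    rw [this, map_one]
  have hNn : ∀ x ∈ M, ∀ h ∈ N, x * h * x⁻¹ ∈ N := by
    have hnR : ∀ x ∈ R, ∀ h ∈ N, x * h * x⁻¹ ∈ N := by
      rintro _ ⟨x, rfl⟩ _ ⟨s, rfl⟩
      let w : Fin ℓ → Cfsg.GU (b + 1) F q := fun k =>
        x.1 k * (⟨SpecialLinearGroup.toGL (s k).1, (s k).2⟩ : Cfsg.GU (b + 1) F q) * (x.1 k)⁻¹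
      have hw : ∀ k, detU hF (b + 1) (w k) = 1 := fun k => by
        rw [show w k = _ from rfl, map_mul, map_mul, map_inv, mul_comm, inv_mul_cancel_left]
        exact Subtype.ext (Units.ext (s k).1.2)
      refine ⟨fun k => guToSU hF (w k) (hw k), eq_mul_inv_of_mul_eq (su_eq_of_mat ?_)⟩
      rw [mat_mul, mat_mul]
      show many _ * many _ = many _ * many _
      rw [← many_mul, ← many_mul]
      congr 1
      funext k
      show (w k).1.1 * (x.1 k).1.1 = (x.1 k).1.1 * mat (s k)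
      simp [w]
      rfl
    have hc' : ∀ h ∈ N, c * h * c⁻¹ ∈ N := by
      rintro _ ⟨s, rfl⟩
      refine ⟨s ∘ finRotate ℓ, su_eq_of_mat (Eq.symm ((permSU_conj hF π hsg _).trans ?_))⟩
      exact many_submatrix _ _
    have hcz : Subgroup.zpowers c ≤ Subgroup.normalizer (N : Set (Cfsg.SU ((b + 1) * ℓ) F q)) := by
      rw [Subgroup.zpowers_le]
      exact Subgroup.mem_normalizer_fintype hc'
    intro x hx h hh
    have : M ≤ Subgroup.normalizer (N : Set (Cfsg.SU ((b + 1) * ℓ) F q)) :=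
      sup_le (fun r hr => Subgroup.mem_normalizer_fintype (hnR r hr)) hcz
    exact (Subgroup.mem_normalizer_iff.mp (this hx) h).mp hh
  have hAc : ∀ a ∈ A0, c * a * c⁻¹ ∈ A0 := by
    rintro _ ⟨y, rfl⟩
    refine ⟨⟨y.1 ∘ finRotate ℓ, ?_⟩, su_eq_of_mat (Eq.symm ((permSU_conj hF π hsg _).trans ?_))⟩
    · show ∏ k, y.1 (finRotate ℓ k) = 1
      rw [Equiv.prod_comp (finRotate ℓ) (fun k => y.1 k)]
      exact y.2
    · rw [hη, hη]; exact many_submatrix _ _
  have hAM : A0 ≤ R := by rintro _ ⟨y, rfl⟩; exact ⟨_, rfl⟩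
  have hdiag : ∀ y : PM, ∃ d : Fin ((b + 1) * ℓ) → F, mat (η y) = Matrix.diagonal d ∧
      ∀ (i : Fin (b + 1)) (k : Fin ℓ), d (pe (i, k)) = if i = 0 then ((y.1 k).1 : F) else 1 := by
    intro y
    refine ⟨fun x => if (pe.symm x).1 = 0 then ((y.1 (pe.symm x).2).1 : F) else 1, ?_, fun i k => by simp⟩
    rw [hη]
    ext x x'
    obtain ⟨⟨i, k⟩, rfl⟩ := pe.surjective x
    obtain ⟨⟨j, m⟩, rfl⟩ := pe.surjective x'
    rw [many_apply, dg_val, Matrix.diagonal_apply, Matrix.diagonal_apply, Equiv.symm_apply_apply]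
    by_cases hkm : k = m
    · subst hkm; by_cases hij : i = j
      · subst hij; simp
      · rw [if_pos rfl, if_neg hij, if_neg (fun h => hij (congrArg Prod.fst (pe.injective h)))]
    · rw [if_neg hkm, if_neg (fun h => hkm (congrArg Prod.snd (pe.injective h)))]
  -- the lifts of the torus commute
  set At := A0.comap σ with hAt
  have hab : ∀ x ∈ At, ∀ y ∈ At, Commute x y := by
    obtain ⟨Lf, hLf⟩ : ∃ Lf : (Cfsg.SU ((b + 1) * ℓ) F q) → Γ, ∀ g, σ (Lf g) = g := hs.hasRightInverse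
    let gens : Set Γ := (σ.ker : Set Γ) ∪
      {x | ∃ y : PM, ∃ k, k ≠ 0 ∧ ∃ u, y.1 = Pi.mulSingle k u * Pi.mulSingle 0 u⁻¹ ∧ σ x = η y}
    have hgen : At ≤ Subgroup.closure gens := by
      intro x hx
      obtain ⟨y, hy⟩ := hx
      let T : Subgroup (Fin ℓ → muq (F := F) (q := q)) :=
        { carrier := {v | ∃ (h : v ∈ PM), ∃ w ∈ Subgroup.closure gens, σ w = η ⟨v, h⟩}
          one_mem' := ⟨one_mem PM, 1, one_mem _, by rw [map_one]; exact (map_one η).symm⟩
          mul_mem' := by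
            rintro v v' ⟨h, w, hw, e⟩ ⟨h', w', hw', e'⟩
            exact ⟨mul_mem h h', w * w', mul_mem hw hw', by rw [map_mul σ, e, e', ← map_mul]; rfl⟩
          inv_mem' := by
            rintro v ⟨h, w, hw, e⟩
            exact ⟨inv_mem h, w⁻¹, inv_mem hw, by rw [map_inv σ, e, ← map_inv]; rfl⟩ }
      have hle : Subgroup.closure {v | ∃ k, k ≠ 0 ∧ ∃ u : muq (F := F) (q := q),
          v = Pi.mulSingle k u * Pi.mulSingle 0 u⁻¹} ≤ T := by
        rw [Subgroup.closure_le]
        rintro v ⟨k, hk, u, rfl⟩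
        have hm : (Pi.mulSingle k u * Pi.mulSingle 0 u⁻¹ : Fin ℓ → muq (F := F) (q := q)) ∈ PM := by
          show ∏ i, (Pi.mulSingle k u * Pi.mulSingle 0 u⁻¹ : Fin ℓ → muq (F := F) (q := q)) i = 1
          simp only [Pi.mul_apply, Finset.prod_mul_distrib, Fintype.prod_pi_mulSingle', mul_inv_cancel]
        exact ⟨hm, Lf (η ⟨_, hm⟩), Subgroup.subset_closure (Or.inr ⟨⟨_, hm⟩, k, hk, u, rfl, hLf _⟩), hLf _⟩
      obtain ⟨_, w, hw, e⟩ := hle (pairs_generate hF (show ∏ k, y.1 k = 1 from y.2))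
      have : x = (x * w⁻¹) * w := by rw [inv_mul_cancel_right]
      rw [this]
      refine mul_mem (Subgroup.subset_closure (Or.inl ?_)) hw
      show σ (x * w⁻¹) = 1
      rw [map_mul, map_inv, e, ← hy]
      exact mul_inv_cancel _
    have hpair : ∀ a ∈ gens, ∀ g : Γ, σ g ∈ A0 → Commute a g := by
      rintro a (ha | ⟨y, k, hk, u, hy, ha⟩) g ⟨y', hy'⟩
      · exact (ker_comm hc ha g).symm
      let f : Fin 2 ↪ Fin ((b + 1) * ℓ) := ⟨![pe (0, 0), pe (0, k)], by
        intro i j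
        fin_cases i <;> fin_cases j <;> simp [hk, hk.symm]⟩
      have hf0 : f 0 = pe (0, 0) := rfl
      have hf1 : f 1 = pe (0, k) := rfl
      have hH : PGen p (embS (F := F) (q := q) hF f).range := by
        rw [MonoidHom.range_eq_map]; exact (pgen_SU hF 2).map _
      refine commute_of_norm hs hc hK hpl hH (hv2.of_equiv (MonoidHom.ofInjective (embS_injective hF f))) ?_ ?_ ?_
      · rw [ha]
        obtain ⟨d, hd, hd'⟩ := hdiag y
        have hu : (u.1 : F) ^ (q + 1) = 1 := by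
          rw [← Units.val_pow_eq_pow_val, show u.1 ^ (q + 1) = 1 from u.2, Units.val_one]
        refine ⟨toSU hF (Matrix.diagonal ![(u.1 : F)⁻¹, (u.1 : F)]) (umat_diagonal hF fun i => by
          fin_cases i <;> simp [hu, inv_pow]) (by simp [Fin.prod_univ_two]), su_eq_of_mat ?_⟩
        rw [mat_embS, mat_toSU, hd]
        ext x x'
        by_cases hx : x ∈ Set.range f
        · by_cases hx' : x' ∈ Set.range f
          · obtain ⟨i, rfl⟩ := hx
            obtain ⟨j, rfl⟩ := hx'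
            rw [embM_apply, Matrix.diagonal_apply, Matrix.diagonal_apply]
            simp only [f.injective.eq_iff]
            split_ifs with hij
            · fin_cases i <;> simp [hf0, hf1, hd', hy, Pi.mulSingle_apply, hk, hk.symm]
            · rfl
          · rw [embM_apply_col f hx', Matrix.diagonal_apply, Matrix.one_apply]
            split_ifs with hxx
            · exact absurd (hxx ▸ hx) hx'
            · rfl
        · rw [embM_apply_row f hx, Matrix.diagonal_apply, Matrix.one_apply]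
          split_ifs with hxx
          · obtain ⟨⟨i, m⟩, rfl⟩ := pe.surjective x
            rw [hd']
            split_ifs with hi
            · subst hi
              have h0 : m ≠ 0 := fun e => hx ⟨0, by rw [hf0, e]⟩
              have h1 : m ≠ k := fun e => hx ⟨1, by rw [hf1, e]⟩
              simp [hy, Pi.mulSingle_apply, h0, h1]
            · rfl
          · rfl
      · intro h hh
        obtain ⟨d, hd, -⟩ := hdiag y'
        rw [← hy']
        exact embS_diag_conj hF f hd hh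
      · rw [ha, ← hy']
        show η y * η y' = η y' * η y
        exact (map_mul η y y').symm.trans ((congrArg η (mul_comm y y')).trans (map_mul η y' y))
    intro x hx y hy
    have : Subgroup.closure gens ≤ Subgroup.centralizer {y} := by
      rw [Subgroup.closure_le]
      intro g hg
      exact Subgroup.mem_centralizer_singleton_iff.mpr (hpair g hg y hy).eq
    exact Subgroup.mem_centralizer_singleton_iff.mp (this (hgen hx))
  -- the derived group of the preimage
  obtain ⟨c', hc'⟩ := hs c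
  set L := Lift σ p N with hL
  have hL' : ∀ g : Γ, σ g ∈ M → ∀ l ∈ L, g * l * g⁻¹ ∈ L := fun g hg l hl => Lift_conj (hNn _ hg) hl
  have hAt' : ∀ g ∈ At, c' * g * c'⁻¹ ∈ At := fun g hg => by
    show σ (c' * g * c'⁻¹) ∈ A0
    rw [map_mul, map_mul, map_inv, hc']
    exact hAc _ hg
  let Φ : Subgroup Γ :=
    { carrier := {x | ∃ a ∈ At, x = ⁅c', a⁆}
      one_mem' := ⟨1, one_mem _, (commutatorElement_one_right _).symm⟩
      mul_mem' := by
        rintro _ _ ⟨a, ha, rfl⟩ ⟨a', ha', rfl⟩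
        refine ⟨a * a', mul_mem ha ha', ?_⟩
        have h1 := hab _ (mul_mem (hAt' a' ha') (inv_mem ha')) a ha
        simp only [commutatorElement_def]
        calc c' * a * c'⁻¹ * a⁻¹ * (c' * a' * c'⁻¹ * a'⁻¹)
            = c' * a * c'⁻¹ * (a⁻¹ * (c' * a' * c'⁻¹ * a'⁻¹)) := by group
          _ = c' * a * c'⁻¹ * ((c' * a' * c'⁻¹ * a'⁻¹) * a⁻¹) := by rw [(h1.inv_right).eq]
          _ = _ := by group
      inv_mem' := by
        rintro _ ⟨a, ha, rfl⟩
        refine ⟨a⁻¹, inv_mem ha, ?_⟩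
        have h1 := hab _ (hAt' a ha) a⁻¹ (inv_mem ha)
        simp only [commutatorElement_def]
        calc (c' * a * c'⁻¹ * a⁻¹)⁻¹ = (a⁻¹ * (c' * a * c'⁻¹))⁻¹ := by rw [h1.eq]
          _ = _ := by group }
  have hΦA : ∀ x ∈ Φ, x ∈ At := by
    rintro _ ⟨a, ha, rfl⟩
    rw [commutatorElement_def]
    exact mul_mem (hAt' a ha) (inv_mem ha)
  have hAtM : ∀ a ∈ At, σ a ∈ M := fun a ha => Subgroup.mem_sup_left (hAM ha)
  let D : Subgroup Γ :=
    { carrier := {x | ∃ l ∈ L, ∃ f ∈ Φ, x = l * f}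
      one_mem' := ⟨1, one_mem _, 1, one_mem _, (one_mul 1).symm⟩
      mul_mem' := by
        rintro _ _ ⟨l, hl, f, hf, rfl⟩ ⟨l', hl', f', hf', rfl⟩
        exact ⟨l * (f * l' * f⁻¹), mul_mem hl (hL' f (hAtM _ (hΦA f hf)) l' hl'), f * f', mul_mem hf hf',
          by group⟩
      inv_mem' := by
        rintro _ ⟨l, hl, f, hf, rfl⟩
        exact ⟨f⁻¹ * l⁻¹ * f⁻¹⁻¹, hL' _ (hAtM _ (inv_mem (hΦA f hf))) _ (inv_mem hl), f⁻¹, inv_mem hf, by group⟩ }
  let gens : Set Γ := (L : Set Γ) ∪ ((At : Set Γ) ∪ {c'})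
  have hgensM : gens ⊆ M.comap σ := by
    rintro x (hx | hx | rfl)
    · obtain ⟨s, hs'⟩ := StemEll.Lift_map hx
      refine Subgroup.mem_sup_left ⟨⟨fun k => ⟨SpecialLinearGroup.toGL (s k).1, (s k).2⟩, ?_⟩, su_eq_of_mat ?_⟩
      · show ∏ k, detU hF (b + 1) (⟨SpecialLinearGroup.toGL (s k).1, (s k).2⟩ : Cfsg.GU (b + 1) F q) = 1
        exact Finset.prod_eq_one fun k _ => Subtype.ext (Units.ext (s k).1.2)
      · rw [← hs']; rfl
    · exact hAtM x hx
    · show σ x ∈ M
      rw [hc']; exact Subgroup.mem_sup_right (Subgroup.mem_zpowers c)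
  have hgen : M.comap σ ≤ Subgroup.closure gens := by
    intro x hx
    obtain ⟨r, hr, i, hi⟩ := hMmem _ hx
    obtain ⟨a, ha, s, hs', hrs⟩ := hdec r hr
    obtain ⟨l, hl, hls⟩ := Lift_surj hs hc hK hpl hNp hs'
    have hm : l⁻¹ * x * (c' ^ i)⁻¹ ∈ At := by
      show σ (l⁻¹ * x * (c' ^ i)⁻¹) ∈ A0
      rw [map_mul, map_mul, map_inv, map_inv, map_zpow, hls, hc', hi, hrs]
      simpa [mul_assoc] using ha
    have : x = l * (l⁻¹ * x * (c' ^ i)⁻¹) * c' ^ i := by group
    rw [this]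
    exact mul_mem (mul_mem (Subgroup.subset_closure (Or.inl hl)) (Subgroup.subset_closure (Or.inr (Or.inl hm))))
      (zpow_mem (Subgroup.subset_closure (show c' ∈ gens from Or.inr (Or.inr rfl))) i)
  have hD : ∀ g ∈ M.comap σ, ∀ d ∈ D, g * d * g⁻¹ ∈ D := by
    let T : Subgroup Γ := Subgroup.normalizer (D : Set Γ)
    suffices h : M.comap σ ≤ T from fun g hg d hd => (Subgroup.mem_normalizer_iff.mp (h hg) d).mp hd
    refine hgen.trans ((Subgroup.closure_le T).mpr ?_)
    intro g hg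
    refine Subgroup.mem_normalizer_fintype (S := (D : Set Γ)) ?_
    rintro _ ⟨l, hl, f, hf, rfl⟩
    have hgl : g * l * g⁻¹ ∈ L := hL' g (hgensM hg) l hl
    rcases hg with hg | hg | rfl
    · refine ⟨g * l * (f * g⁻¹ * f⁻¹), mul_mem (mul_mem hg hl)
        (hL' f (hAtM _ (hΦA f hf)) _ (inv_mem hg)), f, hf, by group⟩
    · refine ⟨g * l * g⁻¹, hgl, f, hf, ?_⟩
      rw [show g * (l * f) * g⁻¹ = g * l * g⁻¹ * (g * f * g⁻¹) by group, (hab g hg f (hΦA f hf)).eq,
        mul_inv_cancel_right]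
    · obtain ⟨a, ha, rfl⟩ := hf
      exact ⟨g * l * g⁻¹, hgl, ⁅g, g * a * g⁻¹⁆, ⟨_, hAt' a ha, rfl⟩, by simp only [commutatorElement_def]; group⟩
  have hle : ⁅M.comap σ, M.comap σ⁆ ≤ D := by
    rw [Subgroup.commutator_le]
    refine fun x hx y hy => comm_closure_mem hgen hgensM hD ?_ hx hy
    have hLD : ∀ l ∈ L, l ∈ D := fun l hl => ⟨l, hl, 1, one_mem _, (mul_one l).symm⟩
    intro x hx y hy
    rcases hx with hx | hx
    · rw [commutatorElement_def, mul_assoc, mul_assoc, ← mul_assoc y]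
      exact hLD _ (mul_mem hx (hL' y (hgensM hy) _ (inv_mem hx)))
    rcases hy with hy | hy
    · rw [commutatorElement_def]
      exact hLD _ (mul_mem (hL' x (hgensM (Or.inr hx)) _ hy) (inv_mem hy))
    rcases hx with hx | rfl <;> rcases hy with hy | rfl
    · rw [commutatorElement_eq_one_iff_commute.mpr (hab x hx y hy)]; exact one_mem D
    · rw [← commutatorElement_inv]
      exact inv_mem ⟨1, one_mem _, _, ⟨x, hx, rfl⟩, (one_mul _).symm⟩
    · exact ⟨1, one_mem _, _, ⟨y, hy, rfl⟩, (one_mul _).symm⟩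
    · rw [commutatorElement_self]; exact one_mem D
  obtain ⟨l, hl, f, ⟨a, ha, rfl⟩, rfl⟩ := hle hzM
  have hσl : σ l = 1 := by
    refine hinterNA _ ?_ (StemEll.Lift_map hl)
    have h1 : σ ⁅c', a⁆ ∈ A0 := hΦA _ ⟨a, ha, rfl⟩
    rw [map_mul] at hz
    rw [eq_inv_of_mul_eq_one_left hz]
    exact inv_mem h1
  have hl1 : l = 1 := Lift_inter hs hc hK hpl hNv hl hσl
  rw [hl1, one_mul] at hz ⊢
  rw [map_commutatorElement, hc', commutatorElement_eq_one_iff_commute] at hz
  rw [commutatorElement_eq_one_iff_commute]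
  obtain ⟨y, hy⟩ := ha
  -- all the coordinates agree
  obtain ⟨d, hd, hd'⟩ := hdiag y
  have hconst : ∀ k, y.1 k = y.1 0 := by
    have h1 : ∀ k, y.1 (finRotate ℓ k) = y.1 k := by
      intro k
      have h := congrArg mat (mul_inv_eq_of_eq_mul hz.eq)
      rw [hcdef, permSU_conj, ← hy, hd] at h
      have h2 := congrFun (congrFun h (pe (0, k))) (pe (0, k))
      simp only [Matrix.submatrix_apply, Matrix.diagonal_apply_eq, hπpe, hd', if_true] at h2
      exact Subtype.ext (Units.ext h2)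
    intro k
    have h2 : ∀ i : ℕ, y.1 (((finRotate ℓ) ^ i) 0) = y.1 0 := fun i => by
      induction i with
      | zero => rfl
      | succ i ih => rw [pow_succ', Equiv.Perm.mul_apply, h1, ih]
    obtain ⟨i, hi⟩ := (isCycle_finRotate_of_le hℓ.two_le).exists_pow_eq
      (x := 0) (y := k) (by rw [← Equiv.Perm.mem_support, support_finRotate_of_le hℓ.two_le]; simp)
      (by rw [← Equiv.Perm.mem_support, support_finRotate_of_le hℓ.two_le]; simp)
    rw [← hi, h2]
  have hzl : (y.1 0) ^ ℓ = 1 := by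
    have : ∏ k, y.1 k = 1 := y.2
    simpa [hconst] using this
  rcases Nat.eq_zero_or_pos b with rfl | hb
  · -- scalars
    refine (central_of_PGen hs hc hK hpl (pgen_SU hF ((0 + 1) * ℓ)) (a := a) ?_ c').symm
    intro g
    rw [← hy]
    refine su_eq_of_mat ?_
    rw [mat_mul, mat_mul, hd]
    have hdc : ∀ x, d x = ((y.1 0).1 : F) := fun x => by
      obtain ⟨⟨i, k⟩, rfl⟩ := pe.surjective x
      rw [hd', if_pos (Fin.eq_zero (i : Fin 1)), hconst k]
    ext i j
    rw [Matrix.diagonal_mul, Matrix.mul_diagonal, hdc, hdc, mul_comm]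
  · let f : Fin ℓ ↪ Fin ((b + 1) * ℓ) := ⟨fun k => pe (0, k), fun i j h => congrArg Prod.snd (pe.injective h)⟩
    have hH : PGen p (embS (F := F) (q := q) hF f).range := by
      rw [MonoidHom.range_eq_map]; exact (pgen_SU hF ℓ).map _
    refine (commute_of_norm hs hc hK hpl hH
      ((hvl (by omega)).of_equiv (MonoidHom.ofInjective (embS_injective hF f))) (a := a) (b := c') ?_ ?_ ?_).symm
    · rw [← hy]
      refine ⟨toSU hF (Matrix.diagonal fun _ => ((y.1 0).1 : F)) (umat_diagonal hF fun _ => by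
          rw [← Units.val_pow_eq_pow_val, show (y.1 0).1 ^ (q + 1) = 1 from (y.1 0).2, Units.val_one])
        (by
          rw [Matrix.det_diagonal, Finset.prod_const, Finset.card_univ, Fintype.card_fin,
            ← Units.val_pow_eq_pow_val, show (y.1 0).1 ^ ℓ = 1 from congrArg Subtype.val hzl, Units.val_one]),
        su_eq_of_mat ?_⟩
      rw [mat_embS, mat_toSU, hd]
      ext x x'
      obtain ⟨⟨i, k⟩, rfl⟩ := pe.surjective x
      by_cases hi : i = 0
      · subst hi
        by_cases hx' : x' ∈ Set.range f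
        · obtain ⟨m, rfl⟩ := hx'
          rw [show pe ((0 : Fin (b + 1)), k) = f k from rfl, embM_apply, Matrix.diagonal_apply, Matrix.diagonal_apply]
          simp only [f.injective.eq_iff]
          split_ifs with hkm
          · show _ = d (pe (0, k))
            rw [hd', if_pos rfl, hconst k]
          · rfl
        · rw [embM_apply_col f hx', Matrix.one_apply, Matrix.diagonal_apply]
          split_ifs with hxx
          · exact absurd ⟨k, hxx⟩ hx'
          · rfl
      · rw [embM_apply_row f (fun ⟨m, hm⟩ => hi (congrArg Prod.fst (pe.injective hm)).symm), Matrix.one_apply,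
          Matrix.diagonal_apply]
        split_ifs with hxx
        · rw [hd', if_neg hi]
        · rfl
    · intro h hh
      rw [hc']
      exact embS_perm_conj hF f (mat_permSU hF π hsg) (π₀ := finRotate ℓ) (fun i => hπpe 0 i) hh
    · rw [hc']; exact hz.symm

end CfsgLib.SUCover
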