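import Cfsg.Agent.Lib.SUCover.Radical

/-!
The commutator pairing of the lifts of the radical factors through the alternating part of the form.
-/

set_option autoImplicit false
set_option linter.unusedSectionVars false

namespace CfsgLib.SUCover

noncomputable section

open Matrix
open scoped commutatorElement
open CfsgLib.UnitaryTransvection
open CfsgLib.UnitarySimple (mat mat_mul mat_one)
open CfsgLib.SpCover (Cl mem_Cl_iff commute_congr commutator_mem_Cl ker_comm)

universe u v

variable {F : Type u} [Field F] [Fintype F] {q n m : ℕ} {hF : Fintype.card F = q ^ 2}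

local notation "σ" => frob hF

namespace Ext

open Frame

variable (E : Ext.{u, v} F q n) (Fr : Frame (F := F) (q := q) hF n m)

/-- A section of the centre of the radical carrying the commutator pairing. -/
structure IsPhi (Φ : F → E.Γ) : Prop where
  map : ∀ c, c + σ c = 0 → E.ξ (Φ c) = Fr.X 0 c
  add : ∀ c c', c + σ c = 0 → c' + σ c' = 0 → Φ (c + c') = Φ c * Φ c'
  pair : ∀ a b, E.be Fr a b = Φ (cc q a b)

variable {E Fr} in
theorem IsPhi.zero {Φ : F → E.Γ} (h : E.IsPhi Fr Φ) : Φ 0 = 1 := by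
  simpa using h.add 0 0 (by simp) (by simp)

variable {E Fr} in
/-- Elements scaling `e` scale the section. -/
theorem IsPhi.conj {Φ : F → E.Γ} (h : E.IsPhi Fr Φ) (hm1 : 1 ≤ m) (h32 : m = 1 → q ≠ 2) {g : E.Γ} {lam : F}
    {A : (Fin m → F) → Fin m → F} (hg : Fr.Acts (E.ξ g) lam A) {c : F} (hc : c + σ c = 0) :
    g * Φ c * g⁻¹ = Φ (lam * σ lam * c) := by
  obtain ⟨a, b, rfl⟩ := exists_cc (hF := hF) (⟨0, hm1⟩ : Fin m) hc
  rw [← h.pair, E.be_conj Fr hm1 h32 hg, h.pair, Fr.cc_act hg]

variable (hm1 : 1 ≤ m) (h32 : m = 1 → q ≠ 2)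
include hm1 h32

/-- The values in the kernel are central. -/
theorem central_of_ker {x : E.Γ} (hx : E.ξ x = 1) : x ∈ Subgroup.center E.Γ := E.hc hx

theorem diag_commute {g₁ g₂ : Cfsg.SU n F q} {l₁ l₂ μ₁ μ₂ : F} {ν₁ ν₂ : Fin m → F}
    (h₁ : Fr.Acts g₁ l₁ (fun a k => ν₁ k * a k)) (h₁' : mat g₁ *ᵥ Fr.f = μ₁ • Fr.f)
    (h₂ : Fr.Acts g₂ l₂ (fun a k => ν₂ k * a k)) (h₂' : mat g₂ *ᵥ Fr.f = μ₂ • Fr.f) : Commute g₁ g₂ := by
  refine Fr.ext ?_ ?_ fun a => ?_
  · rw [mat_mul, mat_mul, ← mulVec_mulVec, ← mulVec_mulVec, h₂.1, h₁.1, mulVec_smul, mulVec_smul, h₁.1, h₂.1,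
      smul_smul, smul_smul, mul_comm]
  · rw [mat_mul, mat_mul, ← mulVec_mulVec, ← mulVec_mulVec, h₂', h₁', mulVec_smul, mulVec_smul, h₁', h₂',
      smul_smul, smul_smul, mul_comm]
  · rw [mat_mul, mat_mul, ← mulVec_mulVec, ← mulVec_mulVec, h₂.2, h₁.2, h₁.2, h₂.2]
    exact congrArg Fr.vec (funext fun k => mul_left_comm _ _ _)

/-- The fixed field as a finite set. -/
theorem exists_fixed : ∃ T : Finset F, q ≤ T.card ∧ (∀ x, x ∈ T ↔ σ x = x) := by
  classical
  obtain ⟨K, _, _, hK⟩ := exists_K hF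
  obtain ⟨φ⟩ := CfsgLib.PSL2Subfield.exists_emb (F := F) (K := K) 2 (by norm_num) (by rw [hK, hF])
  refine ⟨Finset.univ.filter fun x => σ x = x, ?_, fun x => by simp⟩
  refine le_trans (le_of_eq ?_) (Finset.card_le_card (s := Finset.univ.image φ) fun x hx => ?_)
  · rw [Finset.card_image_of_injective _ φ.injective, Finset.card_univ, hK]
  · obtain ⟨k, -, rfl⟩ := Finset.mem_image.mp hx
    simp only [Finset.mem_filter, Finset.mem_univ, true_and]
    rw [frob_apply, ← map_pow, ← hK, FiniteField.pow_card]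

/-- The fields with at least four fixed scalars. -/
theorem exists_phi_big (hq : 4 ≤ q) : ∃ Φ, E.IsPhi Fr Φ := by
  classical
  obtain ⟨T, hT, hTmem⟩ := exists_fixed (hF := hF) hm1 h32
  obtain ⟨s, hsT, hs'⟩ := Finset.exists_mem_notMem_of_card_lt_card (s := ({0, 1, -1} : Finset F)) (t := T)
    (lt_of_le_of_lt Finset.card_le_three (by omega))
  simp only [Finset.mem_insert, Finset.mem_singleton, not_or] at hs'
  obtain ⟨hs0, hs1, hs2⟩ := hs'
  have hss : σ s = s := (hTmem s).mp hsT
  have hd0 : s * s - 1 ≠ 0 := fun e => by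
    have : (s - 1) * (s + 1) = 0 := by linear_combination e
    rcases mul_eq_zero.mp this with h | h
    · exact hs1 (sub_eq_zero.mp h)
    · exact hs2 (eq_neg_of_add_eq_zero_left h)
  obtain ⟨t₀, ht₀, ht₀'⟩ := Fr.exists_diag s s⁻¹ (fun _ => 1) (by rw [map_inv₀, hss, mul_inv_cancel₀ hs0])
    (fun _ => by simp) (by simp [mul_inv_cancel₀ hs0])
  have ht₀l : Fr.Acts (E.ξ (E.L t₀)) s (fun a k => (fun _ : Fin m => (1 : F)) k * a k) := by
    rw [E.hL]; exact ht₀
  obtain ⟨Φ, hΦ⟩ : ∃ Φ : F → E.Γ, ∀ c, Φ c = ⁅E.L t₀, E.L (Fr.X 0 (c / (s * s - 1)))⁆ := ⟨_, fun _ => rfl⟩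
  have hdiv : ∀ c, c + σ c = 0 → c / (s * s - 1) + σ (c / (s * s - 1)) = 0 := fun c hc => by
    rw [map_div₀, map_sub, map_mul, map_one, hss, ← add_div, hc, zero_div]
  have hmap : ∀ c, c + σ c = 0 → E.ξ (Φ c) = Fr.X 0 c := by
    intro c hc
    have h1 := hdiv c hc
    have h2 : s * σ s * (c / (s * s - 1)) + σ (s * σ s * (c / (s * s - 1))) = 0 := by
      rw [map_mul, map_mul, hss, hss, ← mul_add, h1, mul_zero]
    rw [hΦ, map_commutatorElement, E.hL, E.hL, commutatorElement_def, Fr.conj_Z ht₀ h1,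
      Fr.X_inv ((ok_zero hF).mpr h1), Fr.X_mul ((ok_zero hF).mpr h2)
        (by rw [neg_zero]; refine (ok_zero hF).mpr ?_; rw [frob_frob hF, add_comm]; exact h1)]
    congr 1
    · simp
    · rw [neg_zero, h_zero_left hF, sub_zero, hss, eq_neg_of_add_eq_zero_right h1, div_eq_mul_inv]
      linear_combination c * mul_inv_cancel₀ hd0
  have hadd : ∀ c c', c + σ c = 0 → c' + σ c' = 0 → Φ (c + c') = Φ c * Φ c' := by
    intro c c' hc hc'
    have h1 := hdiv c hc
    have h2 := hdiv c' hc'
    have e : E.ξ (E.L (Fr.X 0 ((c + c') / (s * s - 1)))) =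
        E.ξ (E.L (Fr.X 0 (c / (s * s - 1))) * E.L (Fr.X 0 (c' / (s * s - 1)))) := by
      rw [map_mul, E.hL, E.hL, E.hL, Fr.X_mul ((ok_zero hF).mpr h1) ((ok_zero hF).mpr h2), h_zero_left hF,
        add_zero, sub_zero, add_div]
    have hcm := E.zz_commute Fr hm1 h1 hc' (E.hL _) (hmap c' hc')
    rw [hΦ c, hΦ c', hΦ (c + c'), StSL.comm_congr E.hc rfl e]
    rw [hΦ c'] at hcm
    generalize E.L t₀ = t at hcm ⊢
    generalize E.L (Fr.X 0 (c / (s * s - 1))) = z at hcm ⊢
    generalize E.L (Fr.X 0 (c' / (s * s - 1))) = z' at hcm ⊢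
    calc ⁅t, z * z'⁆ = ⁅t, z⁆ * (z * ⁅t, z'⁆ * z⁻¹) := by simp only [commutatorElement_def]; group
      _ = ⁅t, z⁆ * ⁅t, z'⁆ := by rw [hcm.eq, mul_inv_cancel_right]
  -- the scalings
  have hconj : ∀ (g : E.Γ) (lam μ : F) (ν : Fin m → F), Fr.Acts (E.ξ g) lam (fun a k => ν k * a k) →
      mat (E.ξ g) *ᵥ Fr.f = μ • Fr.f → ∀ c, c + σ c = 0 → g * Φ c * g⁻¹ = Φ (lam * σ lam * c) := by
    intro g lam μ ν hg hg' c hc
    rw [hΦ, hΦ, show g * ⁅E.L t₀, E.L (Fr.X 0 (c / (s * s - 1)))⁆ * g⁻¹ =
      ⁅g * E.L t₀ * g⁻¹, g * E.L (Fr.X 0 (c / (s * s - 1))) * g⁻¹⁆ by simp only [commutatorElement_def]; group]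
    refine StSL.comm_congr E.hc ?_ ?_
    · rw [map_mul, map_mul, map_inv, E.hL, (diag_commute Fr hm1 h32 hg hg' ht₀ ht₀').eq, mul_inv_cancel_right]
    · rw [map_mul, map_mul, map_inv, E.hL, E.hL, Fr.conj_Z hg (hdiv c hc), mul_div_assoc]
  let d : (Fin m → F) → (Fin m → F) → Subgroup.center E.Γ := fun a b =>
    ⟨E.be Fr a b * (Φ (cc q a b))⁻¹, E.hc (by
      rw [MonoidHom.mem_ker, map_mul, map_inv, E.be_map, hmap _ (cc_skew a b), mul_inv_cancel])⟩
  have hl : ∀ a a' b, d (a + a') b = d a b * d a' b := fun a a' b => by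
    refine Subtype.ext ?_
    have h1 := ((Subgroup.mem_center_iff.mp (d a' b).2) (Φ (cc q a b))⁻¹)
    show E.be Fr (a + a') b * (Φ (cc q (a + a') b))⁻¹ =
      E.be Fr a b * (Φ (cc q a b))⁻¹ * (E.be Fr a' b * (Φ (cc q a' b))⁻¹)
    rw [E.be_add_left Fr hm1 h32, cc_add_left (hF := hF), hadd _ _ (cc_skew a b) (cc_skew a' b),
      _root_.mul_inv_rev, mul_assoc, mul_assoc]
    congr 1
    rw [← mul_assoc]
    exact h1.symm
  have hr : ∀ a b b', d a (b + b') = d a b * d a b' := fun a b b' => by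
    refine Subtype.ext ?_
    have h1 := ((Subgroup.mem_center_iff.mp (d a b').2) (Φ (cc q a b))⁻¹)
    show E.be Fr a (b + b') * (Φ (cc q a (b + b')))⁻¹ =
      E.be Fr a b * (Φ (cc q a b))⁻¹ * (E.be Fr a b' * (Φ (cc q a b'))⁻¹)
    rw [E.be_add_right Fr hm1 h32, cc_add_right (hF := hF), hadd _ _ (cc_skew a b) (cc_skew a b'),
      _root_.mul_inv_rev, mul_assoc, mul_assoc]
    congr 1
    rw [← mul_assoc]
    exact h1.symm
  have hinv : ∀ (g : Cfsg.SU n F q) (lam μ : F) (ν : Fin m → F), Fr.Acts g lam (fun a k => ν k * a k) →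
      mat g *ᵥ Fr.f = μ • Fr.f → ∀ a b,
        d (σ lam • fun k => ν k * a k) (σ lam • fun k => ν k * b k) = d a b := by
    intro g lam μ ν hg hg' a b
    obtain ⟨g', hg'eq⟩ : ∃ g', E.ξ g' = g := ⟨E.L g, E.hL g⟩
    subst hg'eq
    refine Subtype.ext ?_
    show E.be Fr (σ lam • fun k => ν k * a k) (σ lam • fun k => ν k * b k) *
      (Φ (cc q (σ lam • fun k => ν k * a k) (σ lam • fun k => ν k * b k)))⁻¹ = (d a b).1
    rw [Fr.cc_act hg, ← hconj g' lam μ ν hg hg' _ (cc_skew a b), ← E.be_conj Fr hm1 h32 hg,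
      show g' * E.be Fr a b * g'⁻¹ * (g' * Φ (cc q a b) * g'⁻¹)⁻¹ = g' * (d a b).1 * g'⁻¹ from by
        show _ = g' * (E.be Fr a b * (Φ (cc q a b))⁻¹) * g'⁻¹
        group,
      Subgroup.mem_center_iff.mp (d a b).2 g', mul_inv_cancel_right]
  have hscal : ∀ u : F, σ u = u → u ≠ 0 → ∀ a b, d (u • a) (u • b) = d a b := by
    intro u hu hu0 a b
    obtain ⟨g, hg, hg'⟩ := Fr.exists_diag u u⁻¹ (fun _ => 1) (by rw [map_inv₀, hu, mul_inv_cancel₀ hu0])
      (fun _ => by simp) (by simp [mul_inv_cancel₀ hu0])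
    have := hinv g u u⁻¹ _ hg hg' a b
    simpa [hu] using this
  letI : CommGroup (Subgroup.center E.Γ) :=
    { (inferInstance : Group (Subgroup.center E.Γ)) with
      mul_comm := fun a b => Subtype.ext (Subgroup.mem_center_iff.mp b.2 a.1) }
  have htriv : ∀ a b, d a b = 1 := by
    rcases Nat.eq_or_lt_of_le hq with h4 | h5
    · -- four fixed scalars
      have h16 : Fintype.card F = 16 := by rw [hF, ← h4]; norm_num
      haveI : CharP F 2 := charP_of_card_eq_prime_pow (f := 4) (by rw [h16]; norm_num)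
      have hsel : ∀ (k l : Fin m) (α : F), α * σ α = 1 →
          (∀ x y, d (Pi.single k (α * x)) (Pi.single k (α * y)) = d (Pi.single k x) (Pi.single k y)) ∧
          (l ≠ k → ∀ x y, d (Pi.single k (α * x)) (Pi.single l y) = d (Pi.single k x) (Pi.single l y)) := by
        intro k l α hα
        have hα0 : α ≠ 0 := left_ne_zero_of_mul_eq_one hα
        have hα5 : α ^ 5 = 1 := by rw [frob_apply, ← h4, ← pow_succ'] at hα; exact hα
        have hσα : σ α = α ^ 4 := by rw [frob_apply, ← h4]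
        obtain ⟨g, lam, μ, ν, hg, hg', hk, hl⟩ : ∃ (g : Cfsg.SU n F q) (lam μ : F) (ν : Fin m → F),
            Fr.Acts g lam (fun a k => ν k * a k) ∧ mat g *ᵥ Fr.f = μ • Fr.f ∧ σ lam * ν k = α ∧
            (l ≠ k → σ lam * ν l = 1) := by
          rcases Nat.lt_or_ge m 3 with hm3 | hm3
          · rcases Nat.lt_or_ge m 2 with hm2 | hm2
            · have hl : l = k := Fin.ext (by have := k.2; have := l.2; omega)
              obtain ⟨g, hg, hg'⟩ := Fr.exists_diag (α ^ 3) (α ^ 3) (fun _ => α ^ 4)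
                (by rw [map_pow, ← mul_pow, hα, one_pow]) (fun _ => by rw [map_pow, ← mul_pow, hα, one_pow])
                (by
                  rw [Finset.prod_const, Finset.card_univ, Fintype.card_fin, show m = 1 by omega, pow_one,
                    ← pow_add, ← pow_add, show 3 + 3 + 4 = 5 * 2 by norm_num, pow_mul, hα5, one_pow])
              refine ⟨g, _, _, _, hg, hg', ?_, fun h => absurd hl h⟩
              rw [map_pow, hσα, ← pow_mul, ← pow_add, show 4 * 3 + 4 = 5 * 3 + 1 by norm_num, pow_succ, pow_mul,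
                hα5, one_pow, one_mul]
            · obtain rfl : m = 2 := by omega
              obtain ⟨g, hg, hg'⟩ := Fr.exists_diag α α (fun i => if i = k then α ^ 2 else α)
                hα (fun i => by split_ifs <;> simp [map_pow, ← mul_pow, hα])
                (by
                  rw [Fin.prod_univ_two]
                  fin_cases k <;> simp <;> linear_combination hα5)
              refine ⟨g, _, _, _, hg, hg', ?_, fun h => ?_⟩
              · rw [if_pos rfl, sq, ← mul_assoc, mul_comm (σ α), hα, one_mul]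
              · rw [if_neg h, mul_comm, hα]
          · obtain ⟨r, hr⟩ : ∃ r : Fin m, r ≠ k ∧ r ≠ l := by
              obtain ⟨r, -, hr⟩ := Finset.exists_mem_notMem_of_card_lt_card (s := ({k, l} : Finset (Fin m)))
                (t := Finset.univ) (lt_of_le_of_lt Finset.card_le_two (by simp; omega))
              simp only [Finset.mem_insert, Finset.mem_singleton, not_or] at hr
              exact ⟨r, hr⟩
            obtain ⟨g, hg, hg'⟩ := Fr.exists_diag 1 1 (Pi.mulSingle k α * Pi.mulSingle r α⁻¹) (by simp)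
              (fun i => by
                rcases eq_or_ne i k with rfl | h1
                · simp [hr.1.symm, hα]
                · rcases eq_or_ne i r with rfl | h2
                  · simp [h1]
                    rw [← _root_.mul_inv_rev, mul_comm, hα, inv_one]
                  · simp [h1, h2])
              (by simp [Finset.prod_mul_distrib, mul_inv_cancel₀ hα0])
            refine ⟨g, 1, 1, _, hg, hg', by simp [hr.1.symm], fun h => by simp [h, hr.2.symm]⟩
        have hact : ∀ (i : Fin m) (x : F), (σ lam • fun j => ν j * (Pi.single i x : Fin m → F) j) =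
            Pi.single i (σ lam * ν i * x) := by
          intro i x
          funext j
          rcases eq_or_ne j i with rfl | hj
          · simp [mul_assoc]
          · simp [hj]
        constructor
        · intro x y
          have := hinv g lam μ ν hg hg' (Pi.single k x) (Pi.single k y)
          rwa [hact, hact, hk] at this
        · intro hne x y
          have := hinv g lam μ ν hg hg' (Pi.single k x) (Pi.single l y)
          rwa [hact, hact, hk, hl hne, one_mul] at this
      obtain ⟨z, hz, hzord⟩ := exists_zeta_sigma (hF := hF)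
      have hz1 : z - 1 ≠ 0 := by
        rw [sub_ne_zero]; rintro rfl; rw [orderOf_one] at hzord; omega
      refine bilin_singles d hl hr fun k l x y => ?_
      rcases eq_or_ne l k with rfl | hne
      · let δ : F → F → Subgroup.center E.Γ := fun x y => d (Pi.single l x) (Pi.single l y)
        have hall : ∀ u : F, u ≠ 0 → ∀ x y, δ (u • x) (u • y) = δ x y := by
          intro u hu x y
          have h15 : u ^ 15 = 1 := by
            have := FiniteField.pow_card_sub_one_eq_one u hu
            rwa [h16] at this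
          set α := u ^ 6
          set w := (u ^ 5)⁻¹
          have hα : α * σ α = 1 := by
            rw [frob_apply, ← h4, ← pow_succ', ← pow_mul, show 6 * (4 + 1) = 15 * 2 by norm_num, pow_mul, h15,
              one_pow]
          have hw : σ w = w := by
            rw [map_inv₀, frob_apply, ← h4, ← pow_mul, show 5 * 4 = 15 + 5 by norm_num, pow_add, h15, one_mul]
          have e : u = w * α := by
            show u = (u ^ 5)⁻¹ * u ^ 6
            rw [show u ^ 6 = u ^ 5 * u from pow_succ u 5, ← mul_assoc, inv_mul_cancel₀ (pow_ne_zero _ hu), one_mul]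
          show d (Pi.single l (u * x)) (Pi.single l (u * y)) = d (Pi.single l x) (Pi.single l y)
          rw [e, mul_assoc, mul_assoc, ← Frame.smul_single w, ← Frame.smul_single w,
            hscal w hw (inv_ne_zero (pow_ne_zero _ hu)), (hsel l l α hα).1]
        obtain ⟨r₁, r₂, hr₁₂⟩ := exists_scalars (Finset.univ : Finset F) (by simp [h16]) (by simp) (by simp)
        exact bilin_trivial (F := F) δ (fun a a' b => by simp only [δ, Pi.single_add, hl])
          (fun a b b' => by simp only [δ, Pi.single_add, hr]) r₁ r₂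
          (fun r hr' => ⟨hall r (hr₁₂ r hr').1.2, hall (1 + r) (hr₁₂ r hr').2.2⟩) x y
      · have h1 := (hsel k l z hz).2 hne (x / (z - 1)) y
        rw [show z * (x / (z - 1)) = x + x / (z - 1) by field_simp; ring, Pi.single_add, hl] at h1
        exact mul_eq_right.mp h1
    · obtain ⟨r₁, r₂, hr₁₂⟩ := exists_scalars T (by omega) ((hTmem 1).mpr (map_one _)) fun x hx y hy =>
        (hTmem _).mpr (by rw [map_add, (hTmem x).mp hx, (hTmem y).mp hy])
      exact bilin_trivial (F := F) d hl hr r₁ r₂ fun r hr' =>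
        ⟨hscal r ((hTmem r).mp (hr₁₂ r hr').1.1) (hr₁₂ r hr').1.2,
          hscal _ ((hTmem _).mp (hr₁₂ r hr').2.1) (hr₁₂ r hr').2.2⟩
  exact ⟨Φ, hmap, hadd, fun a b => mul_inv_eq_one.mp (congrArg Subtype.val (htriv a b))⟩

/-- The fields with two or three fixed scalars. -/
theorem exists_phi_small (hq : q = 2 ∨ q = 3) (hm : m = 1 ∨ 3 ≤ m) : ∃ Φ, E.IsPhi Fr Φ := by
  classical
  obtain ⟨p, hp⟩ := CharP.exists F
  obtain ⟨hpp, j, hj0, hj⟩ := q_pow hF (p := p)
  have hqp : p = q := by
    have hqq : q.Prime := by rcases hq with rfl | rfl <;> norm_num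
    exact (Nat.prime_dvd_prime_iff_eq hpp hqq).mp (hj ▸ dvd_pow_self p hj0.ne')
  rw [hqp] at hpp hp
  clear hqp hj hj0 j p
  haveI := Fact.mk hpp
  obtain ⟨ω, hω⟩ : ∃ ω : F, σ ω ≠ ω := by
    by_contra h
    push Not at h
    exact frob_ne_id hF (RingHom.ext fun x => h x)
  have hnat : ∀ i : ℕ, σ (i : F) = i := fun i => map_natCast σ i
  have hrep : ∀ x : F, ∃ i j : ℕ, x = i + j * ω := by
    intro x
    let θ : Fin q × Fin q → F := fun ij => (ij.1.1 : F) + (ij.2.1 : F) * ω
    have hθ : Function.Bijective θ := by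
      rw [Fintype.bijective_iff_injective_and_card]
      refine ⟨?_, by rw [Fintype.card_prod, Fintype.card_fin, hF, sq]⟩
      rintro ⟨i, j⟩ ⟨i', j'⟩ h
      have h1 : ((i.1 : F) - (i'.1 : F)) + ((j.1 : F) - (j'.1 : F)) * ω = 0 := by
        have : (i.1 : F) + (j.1 : F) * ω = (i'.1 : F) + (j'.1 : F) * ω := h
        linear_combination this
      have h2 := congrArg σ h1
      rw [map_add, map_mul, map_sub, map_sub, hnat, hnat, hnat, hnat, map_zero] at h2
      have h3 : ((j.1 : F) - (j'.1 : F)) * (ω - σ ω) = 0 := by linear_combination h1 - h2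
      have h4 : (j.1 : F) = (j'.1 : F) :=
        sub_eq_zero.mp ((mul_eq_zero.mp h3).resolve_right (sub_ne_zero.mpr hω.symm))
      have h5 : (i.1 : F) = (i'.1 : F) := by rw [h4, sub_self, zero_mul, add_zero] at h1; exact sub_eq_zero.mp h1
      have hinj : ∀ a b : Fin q, ((a.1 : F) = (b.1 : F)) → a = b := fun a b e => Fin.ext (by
        have h6 := (CharP.natCast_eq_natCast F q).mp e
        rwa [Nat.ModEq, Nat.mod_eq_of_lt a.2, Nat.mod_eq_of_lt b.2] at h6)
      rw [hinj _ _ h4, hinj _ _ h5]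
    obtain ⟨⟨i, j⟩, hij⟩ := hθ.2 x
    exact ⟨i.1, j.1, hij.symm⟩
  set c₀ := (1 : F) * σ ω - ω * σ 1 with hc₀
  have hc₀0 : c₀ ≠ 0 := by rw [hc₀, map_one, one_mul, mul_one]; exact sub_ne_zero.mpr hω
  have hidx : ∀ c, c + σ c = 0 → ∃ i : ℕ, c = i * c₀ := by
    intro c hc
    obtain ⟨i, j, hij⟩ := hrep (c / c₀)
    have hc₀s : σ c₀ = -c₀ := by rw [hc₀, map_one, one_mul, mul_one, map_sub, frob_frob hF]; ring
    have hfix : σ (c / c₀) = c / c₀ := by
      rw [map_div₀, hc₀s, eq_neg_of_add_eq_zero_right hc, neg_div_neg_eq]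
    rw [hij, map_add, map_mul, hnat, hnat] at hfix
    have hj' : (j : F) = 0 := by
      have : (j : F) * (σ ω - ω) = 0 := by linear_combination hfix
      exact (mul_eq_zero.mp this).resolve_right (sub_ne_zero.mpr hω)
    exact ⟨i, by rw [hj', zero_mul, add_zero] at hij; rw [← hij, div_mul_cancel₀ _ hc₀0]⟩
  let γ : Fin m → E.Γ := fun k => E.be Fr (Pi.single k 1) (Pi.single k ω)
  have hbe0 : ∀ b, E.be Fr 0 b = 1 := fun b => by simpa using E.be_add_left Fr hm1 h32 0 0 b
  have hbe0' : ∀ a, E.be Fr a 0 = 1 := fun a => by simpa using E.be_add_right Fr hm1 h32 a 0 0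
  have hpow : ∀ (a b : Fin m → F) (i : ℕ), E.be Fr ((i : F) • a) b = E.be Fr a b ^ i ∧
      E.be Fr a ((i : F) • b) = E.be Fr a b ^ i := by
    intro a b i
    induction i with
    | zero => simp [hbe0, hbe0']
    | succ i ih =>
      rw [Nat.cast_succ, add_smul, add_smul, one_smul, one_smul, E.be_add_left Fr hm1 h32,
        E.be_add_right Fr hm1 h32, ih.1, ih.2, pow_succ]
      exact ⟨rfl, rfl⟩
  have hγp : ∀ k, γ k ^ q = 1 := fun k => by
    rw [← (hpow _ _ q).1, CharP.cast_eq_zero, zero_smul, hbe0]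
  have hγcast : ∀ (k : Fin m) (i i' : ℕ), (i : F) = (i' : F) → γ k ^ i = γ k ^ i' := fun k i i' e => by
    rw [pow_eq_pow_mod i (hγp k), pow_eq_pow_mod i' (hγp k),
      show i % q = i' % q from (CharP.natCast_eq_natCast F q).mp e]
  have hsingle : ∀ k x y, ∀ i : ℕ, x * σ y - y * σ x = i * c₀ →
      E.be Fr (Pi.single k x) (Pi.single k y) = γ k ^ i := by
    intro k x y i hi
    obtain ⟨a, b, rfl⟩ := hrep x
    obtain ⟨a', b', rfl⟩ := hrep y
    have hs : ∀ (r s : ℕ), (Pi.single k ((r : F) + (s : F) * ω) : Fin m → F) =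
        (r : F) • Pi.single k 1 + (s : F) • Pi.single k ω := fun r s => by
      rw [Frame.smul_single, Frame.smul_single, ← Pi.single_add, mul_one]
    rw [hs, hs, E.be_add_left Fr hm1 h32, E.be_add_right Fr hm1 h32, E.be_add_right Fr hm1 h32,
      (hpow _ _ a).1, (hpow _ _ a).1, (hpow _ _ b).1, (hpow _ _ b).1, (hpow _ _ a').2, (hpow _ _ b').2,
      (hpow _ _ a').2, (hpow _ _ b').2, E.be_self Fr hm1 h32, E.be_self Fr hm1 h32,
      E.be_swap Fr hm1 h32 (Pi.single k 1) (Pi.single k ω)]
    simp only [one_pow, one_mul, mul_one, ← pow_mul, inv_pow]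
    show γ k ^ (b' * a) * (γ k ^ (a' * b))⁻¹ = γ k ^ i
    rw [mul_inv_eq_iff_eq_mul, ← pow_add]
    refine hγcast k _ _ ?_
    push_cast
    refine mul_right_cancel₀ hc₀0 ?_
    rw [add_mul, ← hi, hc₀]
    simp only [map_add, map_mul, hnat, map_one, one_mul, mul_one]
    ring
  have hcross : ∀ k l x y, l ≠ k → E.be Fr (Pi.single k x) (Pi.single l y) = 1 := by
    intro k l x y hne
    have hm3 : 3 ≤ m := hm.resolve_left fun h => by subst h; exact hne (Subsingleton.elim l k)
    obtain ⟨r, -, hr⟩ := Finset.exists_mem_notMem_of_card_lt_card (s := ({k, l} : Finset (Fin m)))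
      (t := Finset.univ) (lt_of_le_of_lt Finset.card_le_two (by simp; omega))
    simp only [Finset.mem_insert, Finset.mem_singleton, not_or] at hr
    obtain ⟨α, hα1, hα⟩ := exists_omega hF
    obtain ⟨g, hg, -⟩ := Fr.exists_diag 1 1 (Pi.mulSingle k α * Pi.mulSingle r α⁻¹) (by simp)
      (fun i => by
        rcases eq_or_ne i k with rfl | h1
        · simp [Ne.symm hr.1, hα]
        · rcases eq_or_ne i r with rfl | h2
          · simp [h1]
            rw [← _root_.mul_inv_rev, mul_comm, hα, inv_one]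
          · simp [h1, h2])
      (by simp [Finset.prod_mul_distrib, mul_inv_cancel₀ (left_ne_zero_of_mul_eq_one hα)])
    set x' := x / (α - 1)
    have hker : E.ξ (E.be Fr (Pi.single k x') (Pi.single l y)) = 1 := by
      rw [E.be_map, cc_single (hF := hF), if_neg hne.symm, Fr.X_zero]
    obtain ⟨g', rfl⟩ : ∃ g', E.ξ g' = g := ⟨E.L g, E.hL g⟩
    have h1 := E.be_conj Fr hm1 h32 hg (Pi.single k x') (Pi.single l y)
    rw [← (ker_comm E.hc hker g').eq.symm, mul_inv_cancel_right] at h1
    have e1 : (σ (1 : F) • fun i => (Pi.mulSingle k α * Pi.mulSingle r α⁻¹ : Fin m → F) i *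
        (Pi.single k x' : Fin m → F) i) = Pi.single k (α * x') := by
      funext i
      rcases eq_or_ne i k with rfl | hi
      · simp [Ne.symm hr.1]
      · simp [hi]
    have e2 : (σ (1 : F) • fun i => (Pi.mulSingle k α * Pi.mulSingle r α⁻¹ : Fin m → F) i *
        (Pi.single l y : Fin m → F) i) = Pi.single l y := by
      funext i
      rcases eq_or_ne i l with rfl | hi
      · simp [hne, Ne.symm hr.2]
      · simp [hi]
    rw [e1, e2, show α * x' = x + x' by
      have : α - 1 ≠ 0 := sub_ne_zero.mpr hα1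
      show α * (x / (α - 1)) = x + x / (α - 1)
      field_simp; ring, Pi.single_add, E.be_add_left Fr hm1 h32] at h1
    exact mul_eq_right.mp h1.symm
  -- the coordinates agree
  have hγeq : ∀ k l, γ k = γ l := by
    intro k l
    rcases eq_or_ne k l with rfl | hkl
    · rfl
    have hm3 : 3 ≤ m := hm.resolve_left fun h => by subst h; exact hkl (Subsingleton.elim k l)
    obtain ⟨r, -, hr⟩ := Finset.exists_mem_notMem_of_card_lt_card (s := ({k, l} : Finset (Fin m)))
      (t := Finset.univ) (lt_of_le_of_lt Finset.card_le_two (by simp; omega))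
    simp only [Finset.mem_insert, Finset.mem_singleton, not_or] at hr
    obtain ⟨lam, hlam⟩ := exists_norm_eq hF (c := (-1 : F)) (by rw [map_neg, map_one])
    obtain ⟨c, hc0, hc⟩ := exists_skew hF
    set z : Fin m → F := Pi.single k 1 + Pi.single l lam with hzdef
    have hzz : Cfsg.hermForm m F q z z = 0 := by
      simp only [hzdef, h_add_left, h_add_right hF, herm_single (hF := hF), if_neg hkl, if_neg hkl.symm,
        if_pos, one_pow, mul_one, add_zero, zero_add, ← frob_apply hF, hlam, map_one]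
      ring
    have hvz : Cfsg.hermForm n F q (Fr.vec z) (Fr.vec z) = 0 := by rw [Fr.vec_h, hzz]
    have hwz : Cfsg.hermForm n F q (Fr.w r) (Fr.vec z) = 0 := by
      have h1 : Fr.vec (Pi.single r 1) = Fr.w r := by rw [Fr.vec_single, one_smul]
      rw [← h1, Fr.vec_h, hzdef, h_add_right hF, herm_single (hF := hF), herm_single (hF := hF), if_neg hr.1,
        if_neg hr.2, add_zero]
    obtain ⟨a, s, t, x₀, hav, hs, ht, ha, hcomm⟩ := tv_eq_comm hF hvz hwz (by rw [Fr.hww, if_pos rfl]) hc
    set T := UnitarySimple.tv hF (Fr.vec z) hvz c hc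
    have hcl : ∀ c', c' + σ c' = 0 → ∀ y : E.Γ, E.ξ y = Fr.X 0 c' → Commute y (E.L T) := by
      intro c' hc' y hy
      have hfix : ∀ (b : Fin n → F) (s : F) (hb : Cfsg.hermForm n F q b (Fr.vec z) = 0)
          (hs : Cfsg.hermForm n F q b b + s + σ s = 0), Cfsg.hermForm n F q b Fr.e = 0 →
          Commute (Fr.X 0 c') (UnitarySimple.ru hF hvz hb hs) := by
        intro b s hb hs hbe
        set g := UnitarySimple.ru hF hvz hb hs
        have hge : mat g *ᵥ Fr.e = Fr.e := by
          rw [ru_mulVec]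
          have h1 : Cfsg.hermForm n F q Fr.e b = 0 := by rw [← h_swap hF b Fr.e, hbe, map_zero]
          rw [Fr.e_vec, h1]; simp
        have h1 : g * Fr.X 0 c' * g⁻¹ = Fr.X 0 c' := by
          have hok : Ok hF (0 : Fin m → F) c' := (ok_zero hF).mpr hc'
          refine UnitarySimple.su_ext fun x => ?_
          rw [mat_mul, mat_mul, ← mulVec_mulVec, ← mulVec_mulVec, Fr.X_mulVec hok, Fr.X_mulVec hok, Fr.vec_zero]
          simp only [smul_zero, add_zero, h_zero_right hF, zero_smul, sub_zero, mulVec_add, mulVec_smul,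
            UnitarySimple.mat_inv_mulVec, hge]
          congr 2
          conv_rhs => rw [← UnitarySimple.mat_inv_mulVec g x, ← hge, UnitarySimple.su_h]
        exact (mul_inv_eq_iff_eq_mul.mp h1).symm
      have hwe : Cfsg.hermForm n F q a Fr.e = 0 := by rw [ha, h_smul_left, Fr.hwe, mul_zero]
      have h1 := commutator_mem_Cl E.hc (x := y) (a := E.L (UnitarySimple.ru hF hvz hwz hs))
        (b := E.L (UnitarySimple.ru hF hvz hav ht)) (by rw [hy, E.hL]; exact hfix _ _ hwz hs (Fr.hwe r))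
        (by rw [hy, E.hL]; exact hfix _ _ hav ht hwe)
      rw [mem_Cl_iff E.hc] at h1
      exact commute_congr E.hc rfl (by rw [map_commutatorElement, E.hL, E.hL, E.hL, hcomm]) h1
    have hTA : Fr.Acts (E.ξ (E.L T)) 1 (fun a => a + (c * Cfsg.hermForm m F q a z) • z) := by
      rw [E.hL]
      refine ⟨?_, fun a => ?_⟩
      · rw [UnitarySimple.tv_mulVec, Fr.e_vec, mul_zero, zero_smul, add_zero, one_smul]
      · rw [UnitarySimple.tv_mulVec, Fr.vec_h]
        show _ = Fr.vec (a + (c * Cfsg.hermForm m F q a z) • z)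
        rw [Fr.vec_add a, Fr.vec_smul]
    have hconj := E.be_conj Fr hm1 h32 hTA (Pi.single k 1) (Pi.single k ω)
    rw [← ((hcl _ (cc_skew _ _) _ (E.be_map Fr _ _))).eq, mul_inv_cancel_right] at hconj
    have himg : ∀ x : F, (σ (1 : F) • ((Pi.single k x : Fin m → F) +
        (c * Cfsg.hermForm m F q (Pi.single k x) z) • z)) =
        Pi.single k ((1 + c) * x) + Pi.single l (c * lam * x) := by
      intro x
      rw [map_one, one_smul, hzdef, h_add_right hF, herm_single (hF := hF), herm_single (hF := hF),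
        if_pos rfl, if_neg hkl, one_pow, mul_one, add_zero, smul_add, Frame.smul_single, Frame.smul_single, mul_one,
        ← add_assoc, ← Pi.single_add, add_mul, one_mul, mul_assoc c lam, mul_comm lam x, ← mul_assoc]
    rw [himg, himg, E.be_add_left Fr hm1 h32, E.be_add_right Fr hm1 h32, E.be_add_right Fr hm1 h32,
      hcross k l _ _ hkl.symm, hcross l k _ _ hkl, mul_one, one_mul] at hconj
    obtain ⟨u, hu⟩ : ∃ u : ℕ, c * σ c = u := by
      obtain ⟨i, j, hij⟩ := hrep (c * σ c)
      have hfix : σ (c * σ c) = c * σ c := by rw [map_mul, frob_frob hF, mul_comm]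
      rw [hij, map_add, map_mul, hnat, hnat] at hfix
      have hj' : (j : F) = 0 := by
        have : (j : F) * (σ ω - ω) = 0 := by linear_combination hfix
        exact (mul_eq_zero.mp this).resolve_right (sub_ne_zero.mpr hω)
      exact ⟨i, by rw [hij, hj', zero_mul, add_zero]⟩
    rw [hsingle k ((1 + c) * 1) ((1 + c) * ω) (1 + u) (by
        simp only [map_mul, map_add, map_one]; push_cast; rw [← hu, hc₀, map_one]
        linear_combination (σ ω - ω) * hc),
      hsingle l (c * lam * 1) (c * lam * ω) (u * (q - 1)) (by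
        simp only [map_mul, map_one]
        rw [Nat.cast_mul, ← hu, Nat.cast_sub hpp.one_le, CharP.cast_eq_zero, Nat.cast_one, hc₀, map_one]
        linear_combination (c * σ c * (σ ω - ω)) * hlam)] at hconj
    have h1 : γ k ^ u = γ l ^ u := by
      rw [pow_add, pow_one, mul_assoc] at hconj
      have h2 := mul_eq_left.mp hconj.symm
      rw [← mul_one (γ k ^ u), ← (show γ l ^ (u * (q - 1)) * γ l ^ u = 1 by
        rw [← pow_add, ← Nat.mul_succ, Nat.succ_eq_add_one, Nat.sub_add_cancel hpp.one_le, mul_comm, pow_mul,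
          hγp, one_pow]), ← mul_assoc, h2, one_mul]
    have hu0 : (u : F) ≠ 0 := by
      rw [← hu]; exact mul_ne_zero hc0 (fun e => hc0 ((map_eq_zero σ).mp e))
    obtain ⟨u', hu'⟩ : ∃ u' : ℕ, ((u * u' : ℕ) : F) = ((1 : ℕ) : F) := by
      obtain ⟨i, j, hij⟩ := hrep ((u : F)⁻¹)
      have hfix : σ (u : F)⁻¹ = (u : F)⁻¹ := by rw [map_inv₀, hnat]
      rw [hij, map_add, map_mul, hnat, hnat] at hfix
      have hj' : (j : F) = 0 := by
        have : (j : F) * (σ ω - ω) = 0 := by linear_combination hfix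
        exact (mul_eq_zero.mp this).resolve_right (sub_ne_zero.mpr hω)
      refine ⟨i, ?_⟩
      rw [hj', zero_mul, add_zero] at hij
      rw [Nat.cast_mul, ← hij, mul_inv_cancel₀ hu0, Nat.cast_one]
    have h2 := congrArg (fun g => g ^ u') h1
    simp only [← pow_mul] at h2
    rwa [hγcast k _ _ hu', hγcast l _ _ hu', pow_one, pow_one] at h2
  set k₀ : Fin m := ⟨0, hm1⟩
  obtain ⟨idx, hidx'⟩ : ∃ idx : F → ℕ, ∀ c, c + σ c = 0 → c = idx c * c₀ :=
    ⟨fun c => if h : c + σ c = 0 then (hidx c h).choose else 0, fun c hc => by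
      simp only [dif_pos hc]; exact (hidx c hc).choose_spec⟩
  obtain ⟨Φ, hΦ⟩ : ∃ Φ : F → E.Γ, ∀ c, Φ c = γ k₀ ^ idx c := ⟨_, fun _ => rfl⟩
  have hadd : ∀ c c', c + σ c = 0 → c' + σ c' = 0 → Φ (c + c') = Φ c * Φ c' := by
    intro c c' hc hc'
    rw [hΦ, hΦ, hΦ, ← pow_add]
    refine hγcast _ _ _ (mul_right_cancel₀ hc₀0 ?_)
    rw [← hidx' _ (by rw [map_add]; linear_combination hc + hc'), Nat.cast_add, add_mul, ← hidx' c hc,
      ← hidx' c' hc']
  have hΦ0 : Φ 0 = 1 := by simpa using hadd 0 0 (by simp) (by simp)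
  refine ⟨Φ, fun c hc => ?_, hadd, fun a b => ?_⟩
  · rw [hΦ, ← (hpow _ _ (idx c)).1, E.be_map, Frame.smul_single, cc_single (hF := hF), if_pos rfl, map_mul, map_one,
      hnat]
    congr 1
    conv_rhs => rw [hidx' c hc, hc₀, map_one]
    ring
  · have h0 : ∀ b, cc q (0 : Fin m → F) b = 0 := fun b => by
      simpa using cc_add_left (hF := hF) (0 : Fin m → F) 0 b
    have h0' : ∀ a, cc q a (0 : Fin m → F) = 0 := fun a => by
      simpa using cc_add_right (hF := hF) a (0 : Fin m → F) 0
    rw [← Finset.univ_sum_single a]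
    refine Finset.sum_induction _ (fun v => E.be Fr v b = Φ (cc q v b))
      (fun x y hx hy => by
        rw [E.be_add_left Fr hm1 h32, cc_add_left (hF := hF), hadd _ _ (cc_skew x b) (cc_skew y b), hx, hy])
      (by rw [hbe0, h0, hΦ0]) fun k _ => ?_
    rw [← Finset.univ_sum_single b]
    refine Finset.sum_induction _ (fun v => E.be Fr _ v = Φ (cc q _ v))
      (fun x y hx hy => by
        rw [E.be_add_right Fr hm1 h32, cc_add_right (hF := hF), hadd _ _ (cc_skew _ x) (cc_skew _ y), hx, hy])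
      (by rw [hbe0', h0', hΦ0]) fun l _ => ?_
    rcases eq_or_ne l k with rfl | hne
    · rw [hΦ, ← hγeq l k₀, cc_single (hF := hF), if_pos rfl]
      refine hsingle l _ _ _ (hidx' _ ?_)
      simp only [map_sub, map_mul, frob_frob hF]; ring
    · rw [hcross k l _ _ hne, cc_single (hF := hF), if_neg hne.symm, hΦ0]

/-- The pairing factors in all the cases needed. -/
theorem exists_phi (hcase : 4 ≤ q ∨ m ≠ 2) : ∃ Φ, E.IsPhi Fr Φ := by
  rcases Nat.lt_or_ge q 4 with hq | hq
  · have hq2 : 1 < q := (UnitaryBasic.frob_exists hF).1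
    exact E.exists_phi_small Fr hm1 h32 (by omega) (by have := hcase.resolve_left (by omega); omega)
  · exact E.exists_phi_big Fr hm1 h32 hq

end Ext

end

end CfsgLib.SUCover
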