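import Cfsg.Agent.Lib.SUCover.Herm
import Cfsg.Agent.Lib.SpCover.Central

/-!
Lifts of the unipotent radical of the stabiliser of an isotropic vector in a central extension.
-/

set_option autoImplicit false
set_option linter.unusedSectionVars false

namespace CfsgLib.SUCover

noncomputable section

open Matrix
open scoped commutatorElement
open CfsgLib.UnitaryTransvection
open CfsgLib.UnitarySimple (mat mat_mul mat_one)
open CfsgLib.SpCover (Cl mem_Cl_iff commute_congr commutator_mem_Cl ker_comm)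

universe u v

/-- A biadditive map invariant under enough scalars is trivial. -/
theorem bilin_trivial {V : Type u} {F : Type v} [Field F] [AddCommGroup V] [Module F V] {A : Type*} [CommGroup A]
    (d : V → V → A) (hl : ∀ a a' b, d (a + a') b = d a b * d a' b) (hr : ∀ a b b', d a (b + b') = d a b * d a b')
    (r₁ r₂ : F)
    (hinv : ∀ r, (r = r₁ ∨ r = r₂ ∨ r = r₁ + r₂) →
      (∀ a b, d (r • a) (r • b) = d a b) ∧ ∀ a b, d ((1 + r) • a) ((1 + r) • b) = d a b)
    (a b : V) : d a b = 1 := by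
  have hf : ∀ r, (r = r₁ ∨ r = r₂ ∨ r = r₁ + r₂) → d a (r • b) * d (r • a) b = (d a b)⁻¹ := by
    intro r hr'
    have h := (hinv r hr').2 a b
    rw [add_smul, one_smul, add_smul, one_smul, hl, hr, hr, (hinv r hr').1,
      mul_assoc, mul_eq_left, ← mul_assoc] at h
    exact eq_inv_of_mul_eq_one_left h
  have h12 := hf _ (Or.inr (Or.inr rfl))
  rw [add_smul, add_smul, hr, hl, mul_mul_mul_comm, hf r₁ (Or.inl rfl), hf r₂ (Or.inr (Or.inl rfl))] at h12
  simpa using h12

/-- A biadditive map vanishing on the coordinate vectors is trivial. -/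
theorem bilin_singles {m : ℕ} {F : Type v} [Field F] {A : Type*} [CommGroup A]
    (d : (Fin m → F) → (Fin m → F) → A) (hl : ∀ a a' b, d (a + a') b = d a b * d a' b)
    (hr : ∀ a b b', d a (b + b') = d a b * d a b')
    (h : ∀ k l x y, d (Pi.single k x) (Pi.single l y) = 1) (a b : Fin m → F) : d a b = 1 := by
  have h0 : ∀ b, d 0 b = 1 := fun b => by simpa using hl 0 0 b
  have h0' : ∀ a, d a 0 = 1 := fun a => by simpa using hr a 0 0
  rw [← Finset.univ_sum_single a]
  refine Finset.sum_induction _ (fun v => d v b = 1) (fun x y hx hy => by rw [hl, hx, hy, one_mul]) (h0 b)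
    fun k _ => ?_
  rw [← Finset.univ_sum_single b]
  exact Finset.sum_induction _ (fun v => d _ v = 1) (fun x y hx hy => by rw [hr, hx, hy, one_mul]) (h0' _)
    fun l _ => h _ _ _ _

/-- Two scalars with all the sums needed. -/
theorem exists_scalars {F : Type u} [Field F] (T : Finset F) (h5 : 5 ≤ T.card) (h1 : (1 : F) ∈ T)
    (hadd : ∀ x ∈ T, ∀ y ∈ T, x + y ∈ T) :
    ∃ r₁ r₂ : F, ∀ r, (r = r₁ ∨ r = r₂ ∨ r = r₁ + r₂) → (r ∈ T ∧ r ≠ 0) ∧ (1 + r ∈ T ∧ 1 + r ≠ 0) := by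
  classical
  obtain ⟨r₁, hr₁, hr₁'⟩ := Finset.exists_mem_notMem_of_card_lt_card (s := ({0, -1} : Finset F)) (t := T)
    (lt_of_le_of_lt Finset.card_le_two (by omega))
  obtain ⟨r₂, hr₂, hr₂'⟩ := Finset.exists_mem_notMem_of_card_lt_card
    (s := ({0, -1, -r₁, -1 - r₁} : Finset F)) (t := T) (lt_of_le_of_lt Finset.card_le_four (by omega))
  simp only [Finset.mem_insert, Finset.mem_singleton, not_or] at hr₁' hr₂'
  refine ⟨r₁, r₂, ?_⟩
  rintro r (rfl | rfl | rfl)
  · exact ⟨⟨hr₁, hr₁'.1⟩, hadd _ h1 _ hr₁, fun e => hr₁'.2 (by linear_combination e)⟩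
  · exact ⟨⟨hr₂, hr₂'.1⟩, hadd _ h1 _ hr₂, fun e => hr₂'.2.1 (by linear_combination e)⟩
  · exact ⟨⟨hadd _ hr₁ _ hr₂, fun e => hr₂'.2.2.1 (by linear_combination e)⟩, hadd _ h1 _ (hadd _ hr₁ _ hr₂),
      fun e => hr₂'.2.2.2 (by linear_combination e)⟩

variable {F : Type u} [Field F] [Fintype F] {q n m : ℕ} {hF : Fintype.card F = q ^ 2}

local notation "σ" => frob hF
local notation "hm" => Cfsg.hermForm m F q

namespace Frame

variable (Fr : Frame (F := F) (q := q) hF n m)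

/-- The value of the commutator form. -/
def cc (q : ℕ) (a b : Fin m → F) : F := Cfsg.hermForm m F q a b - Cfsg.hermForm m F q b a

include hF in
theorem cc_skew (a b : Fin m → F) : cc q a b + σ (cc q a b) = 0 := by
  rw [cc, map_sub, h_swap hF, h_swap hF]; ring

theorem X_comm {a b : Fin m → F} {s t : F} (ha : Ok hF a s) (hb : Ok hF b t) :
    ⁅Fr.X a s, Fr.X b t⁆ = Fr.X 0 (cc q a b) := by
  have hz : Ok hF (0 : Fin m → F) (cc q a b) := (ok_zero hF).mpr (cc_skew a b)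
  rw [commutatorElement_def, mul_assoc (Fr.X a s * Fr.X b t), ← _root_.mul_inv_rev, mul_inv_eq_iff_eq_mul,
    Fr.X_mul ha hb, Fr.X_mul hb ha, Fr.X_mul hz (ok_add hF hb ha)]
  congr 1
  · rw [zero_add, add_comm]
  · rw [h_zero_right hF, cc]; ring

theorem X_zero_comm {a : Fin m → F} {s c : F} (hc : c + σ c = 0) (ha : Ok hF a s) :
    Commute (Fr.X 0 c) (Fr.X a s) := by
  rw [← commutatorElement_eq_one_iff_commute, Fr.X_comm ((ok_zero hF).mpr hc) ha, cc, h_zero_left hF,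
    h_zero_right hF, sub_zero, Fr.X_zero]

theorem X_split {a : Fin m → F} {s s' : F} (ha : Ok hF a s) (ha' : Ok hF a s') :
    ∃ c, c + σ c = 0 ∧ Fr.X a s = Fr.X 0 c * Fr.X a s' := by
  have hc : s - s' + σ (s - s') = 0 := by
    unfold Ok at ha ha'
    rw [map_sub]; linear_combination ha - ha'
  refine ⟨s - s', hc, ?_⟩
  rw [Fr.X_mul ((ok_zero hF).mpr hc) ha', h_zero_right hF, zero_add]
  congr 1
  ring

/-- The radical. -/
def HX : Subgroup (Cfsg.SU n F q) where
  carrier := {g | ∃ a s, Ok hF a s ∧ g = Fr.X a s}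
  one_mem' := ⟨0, 0, (ok_zero hF).mpr (by simp), Fr.X_zero.symm⟩
  mul_mem' := by
    rintro _ _ ⟨a, s, ha, rfl⟩ ⟨b, t, hb, rfl⟩
    exact ⟨_, _, ok_add hF ha hb, Fr.X_mul ha hb⟩
  inv_mem' := by
    rintro _ ⟨a, s, ha, rfl⟩
    refine ⟨-a, σ s, ?_, Fr.X_inv ha⟩
    unfold Ok at *
    rw [← neg_one_smul F a, h_smul_left, h_smul_right hF, map_neg, map_one, frob_frob hF]
    linear_combination ha

theorem X_mem {a : Fin m → F} {s : F} (ha : Ok hF a s) : Fr.X a s ∈ Fr.HX := ⟨a, s, ha, rfl⟩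

theorem smul_single (c : F) (k : Fin m) (x : F) :
    c • (Pi.single k x : Fin m → F) = Pi.single k (c * x) := by
  funext i
  rcases eq_or_ne i k with rfl | hi
  · simp
  · simp [hi]

include hF in
theorem herm_single (k l : Fin m) (x y : F) :
    hm (Pi.single k x) (Pi.single l y) = if k = l then x * y ^ q else 0 := by
  unfold Cfsg.hermForm
  rw [Finset.sum_eq_single k (fun i _ hi => by rw [Pi.single_eq_of_ne hi, zero_mul])
    (fun h => absurd (Finset.mem_univ _) h), Pi.single_eq_same]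
  split_ifs with hkl
  · rw [← hkl, Pi.single_eq_same]
  · rw [Pi.single_eq_of_ne hkl, zero_pow (q_ne_zero hF), mul_zero]

include hF in
theorem cc_single (k l : Fin m) (x y : F) :
    cc q (Pi.single k x) (Pi.single l y) = if k = l then x * σ y - y * σ x else 0 := by
  rw [cc, herm_single (hF := hF), herm_single (hF := hF)]
  split_ifs with h1 h2
  · rw [frob_apply, frob_apply]
  · exact absurd h1.symm h2
  · rename_i h2; exact absurd h2.symm h1
  · simp

include hF in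
theorem exists_cc (k : Fin m) {c : F} (hc : c + σ c = 0) : ∃ a b : Fin m → F, cc q a b = c := by
  obtain ⟨d, hd⟩ := exists_trace_one hF
  refine ⟨Pi.single k 1, Pi.single k (-(d * c)), ?_⟩
  rw [cc_single (hF := hF), if_pos rfl, map_one, map_neg, map_mul]
  linear_combination c * hd - σ d * hc

include hF in
theorem cc_add_left (a a' b : Fin m → F) : cc q (a + a') b = cc q a b + cc q a' b := by
  rw [cc, cc, cc, h_add_left, h_add_right hF]; ring

include hF in
theorem cc_add_right (a b b' : Fin m → F) : cc q a (b + b') = cc q a b + cc q a b' := by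
  rw [cc, cc, cc, h_add_left, h_add_right hF]; ring

theorem cc_act {g : Cfsg.SU n F q} {lam : F} {A : (Fin m → F) → Fin m → F} (hg : Fr.Acts g lam A)
    (a b : Fin m → F) : cc q (σ lam • A a) (σ lam • A b) = lam * σ lam * cc q a b := by
  simp only [cc, h_smul_left, h_smul_right hF, frob_frob hF, hg.herm]
  ring

theorem acts_zero {g : Cfsg.SU n F q} {lam : F} {A : (Fin m → F) → Fin m → F} (hg : Fr.Acts g lam A) :
    A 0 = 0 := by simpa using hg.map_add 0 0

theorem conj_Z {g : Cfsg.SU n F q} {lam : F} {A : (Fin m → F) → Fin m → F} (hg : Fr.Acts g lam A) {c : F}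
    (hc : c + σ c = 0) : g * Fr.X 0 c * g⁻¹ = Fr.X 0 (lam * σ lam * c) := by
  rw [Fr.conj_X hg ((ok_zero hF).mpr hc), Fr.acts_zero hg, smul_zero]

include hF in
theorem exists_zeta_sigma : ∃ z : F, z * σ z = 1 ∧ orderOf z = q + 1 := by
  obtain ⟨ζ, hζ⟩ := UnitaryBasic.exists_zeta hF
  refine ⟨(ζ : F), ?_, by rw [orderOf_units, hζ]⟩
  rw [frob_apply, ← pow_succ', ← Units.val_pow_eq_pow_val, ← hζ, pow_orderOf_eq_one, Units.val_one]

/-- An element fixing the centre of the radical and moving the given coordinate. -/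
theorem exists_mover (h32 : m = 1 → q ≠ 2) (k : Fin m) :
    ∃ (g : Cfsg.SU n F q) (lam α : F) (A : (Fin m → F) → Fin m → F), Fr.Acts g lam A ∧ lam * σ lam = 1 ∧
      α ≠ 1 ∧ ∀ x, σ lam • A (Pi.single k x) = Pi.single k (α * x) := by
  classical
  rcases Nat.lt_or_ge m 2 with hm1 | hm2
  · have h1 : m = 1 := by have := k.pos; omega
    subst h1
    obtain ⟨z, hz, hord⟩ := exists_zeta_sigma (hF := hF)
    have hq : 3 ≤ q := by have := (UnitaryBasic.frob_exists hF).1; have := h32 rfl; omega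
    have hz0 : z ≠ 0 := left_ne_zero_of_mul_eq_one hz
    have hz' : σ z = z⁻¹ := eq_inv_of_mul_eq_one_right hz
    obtain ⟨g, hg, -⟩ := Fr.exists_diag z z (fun _ => (z * z)⁻¹) hz
      (fun _ => by rw [map_inv₀, map_mul, hz', ← _root_.mul_inv_rev]; field_simp)
      (by rw [Fin.prod_univ_one]; field_simp)
    refine ⟨g, z, σ z * (z * z)⁻¹, _, hg, hz, fun e => ?_, fun x => ?_⟩
    · rw [hz', ← _root_.mul_inv_rev, inv_eq_one] at e
      have h3 : z ^ 3 = 1 := by linear_combination e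
      have := Nat.le_of_dvd (by norm_num) (hord ▸ orderOf_dvd_of_pow_eq_one h3)
      omega
    · funext i
      obtain rfl : i = k := Subsingleton.elim i k
      simp [mul_assoc]
  · obtain ⟨ω, hω1, hω⟩ := exists_omega hF
    have : Nontrivial (Fin m) := Fin.nontrivial_iff_two_le.mpr hm2
    obtain ⟨l, hl⟩ := exists_ne k
    obtain ⟨g, hg, -⟩ := Fr.exists_diag 1 1 (Pi.mulSingle k ω * Pi.mulSingle l ω⁻¹) (by simp)
      (fun i => by
        rcases eq_or_ne i k with rfl | h1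
        · simp [hl.symm, hω]
        · rcases eq_or_ne i l with rfl | h2
          · simp [h1]
            rw [← _root_.mul_inv_rev, mul_comm, hω, inv_one]
          · simp [h1, h2])
      (by simp [Finset.prod_mul_distrib, mul_inv_cancel₀ (left_ne_zero_of_mul_eq_one hω)])
    refine ⟨g, 1, ω, _, hg, by simp, hω1, fun x => ?_⟩
    funext i
    rcases eq_or_ne i k with rfl | hi
    · simp [hl.symm]
    · simp [hi]

end Frame

/-! ### Lifts -/

/-- An extension with a chosen lift. -/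
structure Ext (F : Type u) [Field F] [Fintype F] (q n : ℕ) where
  Γ : Type v
  [grp : Group Γ]
  [fin : Finite Γ]
  ξ : Γ →* Cfsg.SU n F q
  L : Cfsg.SU n F q → Γ
  hL : ∀ g, ξ (L g) = g
  hc : ξ.ker ≤ Subgroup.center Γ

attribute [instance] Ext.grp Ext.fin

namespace Ext

variable (E : Ext.{u, v} F q n) (Fr : Frame (F := F) (q := q) hF n m)

open Frame

theorem zz_commute (hm1 : 1 ≤ m) {c c' : F} (hc : c + σ c = 0) (hc' : c' + σ c' = 0) {x y : E.Γ}
    (hx : E.ξ x = Fr.X 0 c) (hy : E.ξ y = Fr.X 0 c') : Commute x y := by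
  obtain ⟨a, b, hab⟩ := exists_cc (hF := hF) (⟨0, hm1⟩ : Fin m) hc'
  obtain ⟨s, hs⟩ := exists_ok hF a
  obtain ⟨t, ht⟩ := exists_ok hF b
  have h1 := commutator_mem_Cl E.hc (x := x) (a := E.L (Fr.X a s)) (b := E.L (Fr.X b t))
    (by rw [hx, E.hL]; exact Fr.X_zero_comm hc hs) (by rw [hx, E.hL]; exact Fr.X_zero_comm hc ht)
  rw [mem_Cl_iff E.hc] at h1
  exact commute_congr E.hc rfl (by rw [map_commutatorElement, E.hL, E.hL, Fr.X_comm hs ht, hab, hy]) h1

/-- Lifts of the centre of the radical commute with lifts of the radical. -/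
theorem zh_commute (hm1 : 1 ≤ m) (h32 : m = 1 → q ≠ 2) {c : F} (hc : c + σ c = 0) {x y : E.Γ}
    (hx : E.ξ x = Fr.X 0 c) (hy : E.ξ y ∈ Fr.HX) : Commute x y := by
  refine (mem_Cl_iff E.hc).mp ?_
  obtain ⟨a, s, hs, hy⟩ := hy
  rw [hy]
  revert s
  have hZ : ∀ d : F, d + σ d = 0 → Fr.X 0 d ∈ Cl E.ξ x := fun d hd => by
    rw [← E.hL (Fr.X 0 d), mem_Cl_iff E.hc]
    exact E.zz_commute Fr hm1 hc hd hx (E.hL _)
  let P : (Fin m → F) → Prop := fun a => ∀ s, Ok hF a s → Fr.X a s ∈ Cl E.ξ x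
  suffices hP : P a from fun s hs _ => hP s hs
  rw [← Finset.univ_sum_single a]
  refine Finset.sum_induction _ P (fun a b ha hb s hs => ?_)
    (fun s hs => hZ s ((ok_zero hF).mp hs)) fun k _ s hs => ?_
  · obtain ⟨sa, hsa⟩ := exists_ok hF a
    obtain ⟨sb, hsb⟩ := exists_ok hF b
    obtain ⟨d, hd, e⟩ := Fr.X_split hs (ok_add hF hsa hsb)
    rw [e, ← Fr.X_mul hsa hsb]
    exact mul_mem (hZ d hd) (mul_mem (ha sa hsa) (hb sb hsb))
  · obtain ⟨g, lam, α, A, hg, hlam, hα, hA⟩ := Fr.exists_mover h32 k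
    set b : Fin m → F := Pi.single k (a k / (α - 1)) with hb
    obtain ⟨t, ht⟩ := exists_ok hF b
    have hcg : Commute (Fr.X 0 c) g := by
      have h1 := Fr.conj_Z hg hc
      rw [hlam, one_mul, mul_inv_eq_iff_eq_mul] at h1
      exact h1.symm
    have h1 := commutator_mem_Cl E.hc (x := x) (a := E.L g) (b := E.L (Fr.X b t))
      (by rw [hx, E.hL]; exact hcg) (by rw [hx, E.hL]; exact Fr.X_zero_comm hc ht)
    have hok := hg.ok ht
    have e1 : ⁅g, Fr.X b t⁆ = Fr.X (σ lam • A b) (lam * σ lam * t) * (Fr.X b t)⁻¹ := by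
      rw [commutatorElement_def, Fr.conj_X hg ht]
    rw [map_commutatorElement, E.hL, E.hL, e1] at h1
    have hmem : Fr.X (σ lam • A b) (lam * σ lam * t) * (Fr.X b t)⁻¹ ∈ Fr.HX :=
      mul_mem (Fr.X_mem hok) (inv_mem (Fr.X_mem ht))
    obtain ⟨a', s', hs', he⟩ := hmem
    have hb' : Ok hF (-b) (σ t) := by
      unfold Ok at *
      rw [← neg_one_smul F b, h_smul_left, h_smul_right hF, map_neg, map_one, frob_frob hF]
      linear_combination ht
    have ha' : a' = Pi.single k (a k) := by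
      rw [Fr.X_inv ht, Fr.X_mul hok hb'] at he
      rw [← (Fr.X_inj (ok_add hF hok hb') hs' he).1, hb, hA, ← sub_eq_add_neg, ← Pi.single_sub]
      congr 1
      have : α - 1 ≠ 0 := sub_ne_zero.mpr hα
      field_simp
    subst ha'
    obtain ⟨d, hd, e⟩ := Fr.X_split hs hs'
    rw [e, ← he]
    exact mul_mem (hZ d hd) h1

/-- A chosen parameter. -/
def sd (hF : Fintype.card F = q ^ 2) (a : Fin m → F) : F := (exists_ok hF a).choose

theorem sd_ok (a : Fin m → F) : Ok hF a (sd hF a) := (exists_ok hF a).choose_spec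

/-- The lift of a root element. -/
def lx (a : Fin m → F) : E.Γ := E.L (Fr.X a (sd hF a))

/-- The commutator pairing of the lifts. -/
def be (a b : Fin m → F) : E.Γ := ⁅E.lx Fr a, E.lx Fr b⁆

theorem lx_map (a : Fin m → F) : E.ξ (E.lx Fr a) = Fr.X a (sd hF a) := E.hL _

theorem lx_mem (a : Fin m → F) : E.ξ (E.lx Fr a) ∈ Fr.HX := by rw [lx_map]; exact Fr.X_mem (sd_ok a)

theorem be_map (a b : Fin m → F) : E.ξ (E.be Fr a b) = Fr.X 0 (cc q a b) := by
  rw [be, map_commutatorElement, lx_map, lx_map, Fr.X_comm (sd_ok a) (sd_ok b)]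

variable (hm1 : 1 ≤ m) (h32 : m = 1 → q ≠ 2)
include hm1 h32

theorem be_congr {a b : Fin m → F} {s t : F} (hs : Ok hF a s) (ht : Ok hF b t) {x y : E.Γ}
    (hx : E.ξ x = Fr.X a s) (hy : E.ξ y = Fr.X b t) : ⁅x, y⁆ = E.be Fr a b := by
  obtain ⟨c, hc, e⟩ := Fr.X_split hs (sd_ok a)
  obtain ⟨d, hd, e'⟩ := Fr.X_split ht (sd_ok b)
  set z := E.L (Fr.X 0 c)
  set z' := E.L (Fr.X 0 d)
  have hz : E.ξ z = Fr.X 0 c := E.hL _
  have hz' : E.ξ z' = Fr.X 0 d := E.hL _
  rw [StSL.comm_congr E.hc (a' := z * E.lx Fr a) (b' := z' * E.lx Fr b)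
    (by rw [map_mul, lx_map, hz, hx, e]) (by rw [map_mul, lx_map, hz', hy, e'])]
  have c1 := (E.zh_commute Fr hm1 h32 hc hz (E.lx_mem Fr b)).eq
  have c2 := (E.zh_commute Fr hm1 h32 hd hz' (E.lx_mem Fr a)).eq
  have c3 := (E.zz_commute Fr hm1 hc hd hz hz').eq
  have c4 := (E.zh_commute Fr hm1 h32 hc hz (y := E.be Fr a b) (by
    rw [E.be_map]; exact Fr.X_mem ((ok_zero hF).mpr (cc_skew a b)))).eq
  have c5 := (E.zh_commute Fr hm1 h32 hd hz' (y := E.be Fr a b) (by
    rw [E.be_map]; exact Fr.X_mem ((ok_zero hF).mpr (cc_skew a b)))).eq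
  unfold be at c4 c5 ⊢
  generalize E.lx Fr a = A at c2 c4 c5 ⊢
  generalize E.lx Fr b = B at c1 c4 c5 ⊢
  calc ⁅z * A, z' * B⁆ = z * (A * z') * B * A⁻¹ * z⁻¹ * B⁻¹ * z'⁻¹ := by
        simp only [commutatorElement_def]; group
    _ = z * z' * A * B * A⁻¹ * (B * z)⁻¹ * z'⁻¹ := by rw [← c2]; group
    _ = z' * z * A * B * A⁻¹ * (z * B)⁻¹ * z'⁻¹ := by rw [← c1, c3]
    _ = z' * (z * ⁅A, B⁆) * z⁻¹ * z'⁻¹ := by simp only [commutatorElement_def]; group
    _ = z' * ⁅A, B⁆ * z'⁻¹ := by rw [c4]; group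
    _ = ⁅A, B⁆ := by rw [c5, mul_inv_cancel_right]

theorem be_swap (a b : Fin m → F) : E.be Fr b a = (E.be Fr a b)⁻¹ := (commutatorElement_inv _ _).symm

theorem be_comm_z (a b : Fin m → F) {y : E.Γ} (hy : E.ξ y ∈ Fr.HX) : Commute (E.be Fr a b) y :=
  E.zh_commute Fr hm1 h32 (cc_skew a b) (E.be_map Fr a b) hy

theorem be_add_left (a a' b : Fin m → F) : E.be Fr (a + a') b = E.be Fr a b * E.be Fr a' b := by
  rw [← E.be_congr Fr hm1 h32 (ok_add hF (sd_ok a) (sd_ok a')) (sd_ok b) (x := E.lx Fr a * E.lx Fr a')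
    (by rw [map_mul, lx_map, lx_map, Fr.X_mul (sd_ok a) (sd_ok a')]) (E.lx_map Fr b)]
  have c := E.be_comm_z Fr hm1 h32 a' b (E.lx_mem Fr a)
  have c' := E.be_comm_z Fr hm1 h32 a' b (y := E.be Fr a b)
    (by rw [E.be_map]; exact Fr.X_mem ((ok_zero hF).mpr (cc_skew a b)))
  rw [← c'.eq]
  unfold be at c ⊢
  calc ⁅E.lx Fr a * E.lx Fr a', E.lx Fr b⁆ = E.lx Fr a * ⁅E.lx Fr a', E.lx Fr b⁆ * (E.lx Fr a)⁻¹ *
        ⁅E.lx Fr a, E.lx Fr b⁆ := by simp only [commutatorElement_def]; group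
    _ = _ := by rw [← c.eq, mul_inv_cancel_right]

theorem be_add_right (a b b' : Fin m → F) : E.be Fr a (b + b') = E.be Fr a b * E.be Fr a b' := by
  rw [E.be_swap Fr hm1 h32 (b + b') a, E.be_add_left Fr hm1 h32, _root_.mul_inv_rev,
    ← E.be_swap Fr hm1 h32 b' a, ← E.be_swap Fr hm1 h32 b a]
  exact (E.be_comm_z Fr hm1 h32 a b' (y := E.be Fr a b)
    (by rw [E.be_map]; exact Fr.X_mem ((ok_zero hF).mpr (cc_skew a b)))).eq

theorem be_self (a : Fin m → F) : E.be Fr a a = 1 := commutatorElement_self _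

theorem be_conj {g : E.Γ} {lam : F} {A : (Fin m → F) → Fin m → F} (hg : Fr.Acts (E.ξ g) lam A)
    (a b : Fin m → F) : g * E.be Fr a b * g⁻¹ = E.be Fr (σ lam • A a) (σ lam • A b) := by
  rw [← E.be_congr Fr hm1 h32 (hg.ok (sd_ok a)) (hg.ok (sd_ok b))
    (x := g * E.lx Fr a * g⁻¹) (y := g * E.lx Fr b * g⁻¹)
    (by rw [map_mul, map_mul, map_inv, lx_map, Fr.conj_X hg (sd_ok a)])
    (by rw [map_mul, map_mul, map_inv, lx_map, Fr.conj_X hg (sd_ok b)])]
  simp only [be, commutatorElement_def]; group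

end Ext

end

end CfsgLib.SUCover
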