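import Cfsg.Agent.Lib.SUCover.Phi
import Mathlib.LinearAlgebra.Matrix.Rank

/-!
An invariant section of the unipotent radical in a central extension.
-/

set_option autoImplicit false
set_option linter.unusedSectionVars false

namespace CfsgLib.SUCover

noncomputable section

open Matrix
open scoped commutatorElement
open CfsgLib.UnitaryTransvection
open CfsgLib.UnitarySimple (mat mat_mul mat_one)
open CfsgLib.SpCover (commute_congr ker_comm)

universe u v

variable {F : Type u} [Field F] [Fintype F] {q n m : ℕ} {hF : Fintype.card F = q ^ 2}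

local notation "σ" => frob hF

include hF in
/-- An anisotropic vector orthogonal to three given ones. -/
theorem exists_aniso (hm : 7 ≤ m) (v : Fin 3 → Fin m → F) :
    ∃ a : Fin m → F, (∀ i, Cfsg.hermForm m F q a (v i) = 0) ∧ Cfsg.hermForm m F q a a ≠ 0 := by
  classical
  let Ψ : (Fin m → F) →ₗ[F] Fin 3 → F :=
    { toFun := fun x i => Cfsg.hermForm m F q x (v i)
      map_add' := fun x y => funext fun i => h_add_left x y (v i)
      map_smul' := fun c x => funext fun i => h_smul_left c x (v i) }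
  set W := LinearMap.ker Ψ with hW
  have hmem : ∀ x, x ∈ W → ∀ i, Cfsg.hermForm m F q x (v i) = 0 := fun x hx i =>
    congrFun (LinearMap.mem_ker.mp hx) i
  by_contra hall
  push Not at hall
  have hiso : ∀ x ∈ W, Cfsg.hermForm m F q x x = 0 := fun x hx => hall x (hmem x hx)
  have horth : ∀ x ∈ W, ∀ y ∈ W, Cfsg.hermForm m F q x y = 0 := by
    intro x hx y hy
    obtain ⟨ω, hω⟩ : ∃ ω : F, σ ω ≠ ω := by
      by_contra h
      push Not at h
      exact frob_ne_id hF (RingHom.ext fun x => h x)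
    have key : ∀ t : F, σ t * Cfsg.hermForm m F q x y + t * σ (Cfsg.hermForm m F q x y) = 0 := by
      intro t
      have h := hiso _ (add_mem hx (W.smul_mem t hy))
      rw [h_add_left, h_add_right hF, h_add_right hF, h_smul_left, h_smul_left, h_smul_right hF,
        h_smul_right hF, hiso x hx, hiso y hy, ← h_swap hF x y] at h
      linear_combination h
    have h1 := key 1
    have h2 := key ω
    rw [map_one] at h1
    have : (σ ω - ω) * Cfsg.hermForm m F q x y = 0 := by linear_combination h2 - ω * h1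
    exact (mul_eq_zero.mp this).resolve_left (sub_ne_zero.mpr hω)
  set r := Module.finrank F W with hr
  have hrm : m ≤ r + 3 := by
    have h1 := Ψ.finrank_range_add_finrank_ker
    have h2 : Module.finrank F (LinearMap.range Ψ) ≤ 3 :=
      (Submodule.finrank_le _).trans_eq (Module.finrank_fin_fun F)
    rw [Module.finrank_fin_fun] at h1
    rw [hr, hW]
    omega
  let B := Module.finBasis F W
  let M : Matrix (Fin r) (Fin m) F := Matrix.of fun i => (B i : Fin m → F)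
  have hli : LinearIndependent F fun i => (B i : Fin m → F) :=
    B.linearIndependent.map' W.subtype (Submodule.ker_subtype W)
  have hM : M.rank = r := by
    rw [LinearIndependent.rank_matrix (M := M) hli, Fintype.card_fin]
  have hM' : ((M.map (frob hF))ᵀ).rank = r := by
    rw [Matrix.rank_transpose, LinearIndependent.rank_matrix, Fintype.card_fin]
    rw [Fintype.linearIndependent_iff]
    intro g hg i
    have h1 : ∑ i, σ (g i) • (B i : Fin m → F) = 0 := by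
      funext k
      have h2 := congrArg σ (congrFun hg k)
      simp only [Finset.sum_apply, Pi.smul_apply, smul_eq_mul, map_sum, map_mul, Pi.zero_apply, map_zero] at h2 ⊢
      rw [← h2]
      exact Finset.sum_congr rfl fun j _ => by rw [show (M.map (frob hF)).row j k = σ ((B j : Fin m → F) k) from rfl,
        frob_frob hF]
    exact (map_eq_zero σ).mp (Fintype.linearIndependent_iff.mp hli _ h1 i)
  have h0 : M * (M.map (frob hF))ᵀ = 0 := by
    ext i j
    rw [Matrix.mul_apply]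
    simp only [Matrix.transpose_apply, Matrix.map_apply, frob_apply]
    exact horth _ (B i).2 _ (B j).2
  have := Matrix.rank_add_rank_le_card_of_mul_eq_zero h0
  rw [hM, hM', Fintype.card_fin] at this
  omega

namespace Ext

open Frame

variable (E : Ext.{u, v} F q n) (Fr : Frame (F := F) (q := q) hF n m)

/-- An invariant section of the radical. -/
structure IsSection (N : Subgroup E.Γ) : Prop where
  inj : ∀ x ∈ N, E.ξ x = 1 → x = 1
  le : ∀ x ∈ N, E.ξ x ∈ Fr.HX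
  surj : ∀ a s, Ok hF a s → ∃ x ∈ N, E.ξ x = Fr.X a s
  conj : ∀ g : E.Γ, mat (E.ξ g) *ᵥ Fr.e = Fr.e → mat (E.ξ g) *ᵥ Fr.f = Fr.f → ∀ x ∈ N, g * x * g⁻¹ ∈ N

variable {E Fr} {Φ : F → E.Γ}

/-- The image of the section of the centre. -/
def zs (hΦ : E.IsPhi Fr Φ) : Subgroup E.Γ where
  carrier := {x | ∃ c, c + σ c = 0 ∧ x = Φ c}
  one_mem' := ⟨0, by simp, hΦ.zero.symm⟩
  mul_mem' := by
    rintro _ _ ⟨c, hc, rfl⟩ ⟨d, hd, rfl⟩
    exact ⟨c + d, by rw [map_add]; linear_combination hc + hd, (hΦ.add c d hc hd).symm⟩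
  inv_mem' := by
    rintro _ ⟨c, hc, rfl⟩
    refine ⟨-c, by rw [map_neg]; linear_combination -hc, inv_eq_of_mul_eq_one_right ?_⟩
    rw [← hΦ.add c (-c) hc (by rw [map_neg]; linear_combination -hc), add_neg_cancel, hΦ.zero]

/-- Congruence modulo the section of the centre. -/
def Eqv (hΦ : E.IsPhi Fr Φ) (x y : E.Γ) : Prop := x⁻¹ * y ∈ zs hΦ

variable (hΦ : E.IsPhi Fr Φ)

theorem eqv_refl (x : E.Γ) : Eqv hΦ x x := by rw [Eqv, inv_mul_cancel]; exact one_mem _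

theorem eqv_symm {x y : E.Γ} (h : Eqv hΦ x y) : Eqv hΦ y x := by
  have := (zs hΦ).inv_mem h
  rwa [_root_.mul_inv_rev, inv_inv] at this

theorem eqv_trans {x y z : E.Γ} (h : Eqv hΦ x y) (h' : Eqv hΦ y z) : Eqv hΦ x z := by
  have := (zs hΦ).mul_mem h h'
  rwa [mul_assoc, mul_inv_cancel_left] at this

variable (hm1 : 1 ≤ m) (h32 : m = 1 → q ≠ 2)
include hm1 h32

theorem zs_comm {z y : E.Γ} (hz : z ∈ zs hΦ) (hy : E.ξ y ∈ Fr.HX) : Commute z y := by
  obtain ⟨c, hc, rfl⟩ := hz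
  exact E.zh_commute Fr hm1 h32 hc (hΦ.map c hc) hy

theorem eqv_mul {x y x' y' : E.Γ} (hx' : E.ξ x' ∈ Fr.HX) (h : Eqv hΦ x y) (h' : Eqv hΦ x' y') :
    Eqv hΦ (x * x') (y * y') := by
  have e : (x * x')⁻¹ * (y * y') = (x'⁻¹ * (x⁻¹ * y) * x') * (x'⁻¹ * y') := by group
  rw [Eqv, e, mul_assoc x'⁻¹ (x⁻¹ * y) x', (zs_comm hΦ hm1 h32 h hx').eq, inv_mul_cancel_left]
  exact mul_mem h h'

theorem eqv_comm {x y : E.Γ} (hx : E.ξ x ∈ Fr.HX) (hy : E.ξ y ∈ Fr.HX) : Eqv hΦ (x * y) (y * x) := by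
  obtain ⟨a, s, hs, hxa⟩ := hx
  obtain ⟨b, t, ht, hyb⟩ := hy
  have hs' : Ok hF (-a) (σ s) := by
    unfold Ok at *
    rw [← neg_one_smul F a, h_smul_left, h_smul_right hF, map_neg, map_one, frob_frob hF]
    linear_combination hs
  have ht' : Ok hF (-b) (σ t) := by
    unfold Ok at *
    rw [← neg_one_smul F b, h_smul_left, h_smul_right hF, map_neg, map_one, frob_frob hF]
    linear_combination ht
  have e : (x * y)⁻¹ * (y * x) = ⁅y⁻¹, x⁻¹⁆ := by simp only [commutatorElement_def]; group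
  rw [Eqv, e, E.be_congr Fr hm1 h32 ht' hs' (by rw [map_inv, hyb, Fr.X_inv ht]) (by rw [map_inv, hxa, Fr.X_inv hs]),
    hΦ.pair]
  exact ⟨_, cc_skew _ _, rfl⟩

/-- The commutator of lifts of an element and of a root element. -/
def T (E : Ext.{u, v} F q n) (Fr : Frame (F := F) (q := q) hF n m) (t : Cfsg.SU n F q) (b : Fin m → F) : E.Γ :=
  ⁅E.L t, E.lx Fr b⁆

theorem conj_HX {g : E.Γ} {lam : F} {A : (Fin m → F) → Fin m → F} (hg : Fr.Acts (E.ξ g) lam A) {y : E.Γ}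
    (hy : E.ξ y ∈ Fr.HX) : E.ξ (g * y * g⁻¹) ∈ Fr.HX := by
  obtain ⟨a, s, hs, hya⟩ := hy
  rw [map_mul, map_mul, map_inv, hya, Fr.conj_X hg hs]
  exact Fr.X_mem (hg.ok hs)

theorem T_mem {t : Cfsg.SU n F q} {lam : F} {A : (Fin m → F) → Fin m → F} (ht : Fr.Acts t lam A)
    (b : Fin m → F) : E.ξ (T E Fr t b) ∈ Fr.HX := by
  rw [T, map_commutatorElement, E.hL, E.lx_map, commutatorElement_def, Fr.conj_X ht (sd_ok b)]
  exact mul_mem (Fr.X_mem (ht.ok (sd_ok b))) (inv_mem (Fr.X_mem (sd_ok b)))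

theorem T_class {t : Cfsg.SU n F q} {lam : F} {A : (Fin m → F) → Fin m → F} (ht : Fr.Acts t lam A)
    (b : Fin m → F) : ∃ s, Ok hF (σ lam • A b - b) s ∧ E.ξ (T E Fr t b) = Fr.X (σ lam • A b - b) s := by
  have hs := ht.ok (sd_ok (hF := hF) b)
  have hb' : Ok hF (-b) (σ (sd hF b)) := by
    have := sd_ok (hF := hF) b
    unfold Ok at *
    rw [← neg_one_smul F b, h_smul_left, h_smul_right hF, map_neg, map_one, frob_frob hF]
    linear_combination this
  rw [sub_eq_add_neg]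
  refine ⟨_, ok_add hF hs hb', ?_⟩
  rw [T, map_commutatorElement, E.hL, E.lx_map, commutatorElement_def, Fr.conj_X ht (sd_ok b),
    Fr.X_inv (sd_ok b), Fr.X_mul hs hb']

theorem T_indep {t : Cfsg.SU n F q} {lam : F} {A : (Fin m → F) → Fin m → F} (ht : Fr.Acts t lam A)
    {x y : E.Γ} {b : Fin m → F} {s : F} (hs : Ok hF b s) (hx : E.ξ x = t) (hy : E.ξ y = Fr.X b s) :
    Eqv hΦ (T E Fr t b) ⁅x, y⁆ := by
  obtain ⟨c, hc, e⟩ := Fr.X_split hs (sd_ok b)
  have h1 : ⁅x, y⁆ = ⁅E.L t, Φ c * E.lx Fr b⁆ :=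
    StSL.comm_congr E.hc (by rw [E.hL, hx]) (by rw [map_mul, hΦ.map c hc, E.lx_map, hy, e])
  have hg : Fr.Acts (E.ξ (E.L t)) lam A := by rw [E.hL]; exact ht
  have hz : ⁅E.L t, Φ c⁆ ∈ zs hΦ := by
    rw [commutatorElement_def, hΦ.conj hm1 h32 hg hc]
    refine mul_mem ⟨_, ?_, rfl⟩ (inv_mem ⟨c, hc, rfl⟩)
    rw [map_mul, map_mul, frob_frob hF]; linear_combination (lam * σ lam) * hc
  have hcm : Commute (Φ c) (T E Fr t b) :=
    E.zh_commute Fr hm1 h32 hc (hΦ.map c hc) (T_mem hm1 h32 ht b)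
  have hcz := zs_comm hΦ hm1 h32 hz (T_mem hm1 h32 ht b)
  rw [Eqv, h1, T, show ⁅E.L t, Φ c * E.lx Fr b⁆ = ⁅E.L t, Φ c⁆ * (Φ c * ⁅E.L t, E.lx Fr b⁆ * (Φ c)⁻¹) by
    simp only [commutatorElement_def]; group]
  unfold T at hcm hcz
  rw [hcm.eq, mul_inv_cancel_right, hcz.eq, inv_mul_cancel_left]
  exact hz

theorem T_add {t : Cfsg.SU n F q} {lam : F} {A : (Fin m → F) → Fin m → F} (ht : Fr.Acts t lam A)
    (b b' : Fin m → F) : Eqv hΦ (T E Fr t (b + b')) (T E Fr t b * T E Fr t b') := by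
  refine eqv_trans hΦ (T_indep hΦ hm1 h32 ht (ok_add hF (sd_ok b) (sd_ok b')) (E.hL t)
    (y := E.lx Fr b * E.lx Fr b') (by rw [map_mul, E.lx_map, E.lx_map, Fr.X_mul (sd_ok b) (sd_ok b')])) ?_
  rw [show ⁅E.L t, E.lx Fr b * E.lx Fr b'⁆ = T E Fr t b * (E.lx Fr b * T E Fr t b' * (E.lx Fr b)⁻¹) by
    simp only [T, commutatorElement_def]; group]
  have hm' := T_mem (E := E) hm1 h32 ht b'
  refine eqv_mul hΦ hm1 h32 ?_ (eqv_refl hΦ _) ?_
  · rw [map_mul, map_mul, map_inv]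
    exact mul_mem (mul_mem (E.lx_mem Fr b) hm') (inv_mem (E.lx_mem Fr b))
  · have h1 := eqv_mul hΦ hm1 h32 (x' := (E.lx Fr b)⁻¹) (by rw [map_inv]; exact inv_mem (E.lx_mem Fr b))
      (eqv_comm hΦ hm1 h32 (E.lx_mem Fr b) hm') (eqv_refl hΦ _)
    rwa [mul_inv_cancel_right] at h1

theorem T_conj {t : Cfsg.SU n F q} {lam : F} {A : (Fin m → F) → Fin m → F} {t' : Cfsg.SU n F q} {lam' : F}
    {A' : (Fin m → F) → Fin m → F} (ht' : Fr.Acts t' lam' A') {g : E.Γ} {B : (Fin m → F) → Fin m → F}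
    (hg : Fr.Acts (E.ξ g) 1 B) (_ht : Fr.Acts t lam A) (he : E.ξ g * t * (E.ξ g)⁻¹ = t') (b : Fin m → F) :
    Eqv hΦ (T E Fr t' (B b)) (g * T E Fr t b * g⁻¹) := by
  have hs := hg.ok (sd_ok (hF := hF) b)
  rw [map_one, one_smul, one_mul, one_mul] at hs
  rw [show g * T E Fr t b * g⁻¹ = ⁅g * E.L t * g⁻¹, g * E.lx Fr b * g⁻¹⁆ by
    simp only [T, commutatorElement_def]; group]
  refine T_indep hΦ hm1 h32 ht' hs (by rw [map_mul, map_mul, map_inv, E.hL, he]) ?_
  rw [map_mul, map_mul, map_inv, E.lx_map, Fr.conj_X hg (sd_ok b), map_one, one_smul, one_mul, one_mul]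

/-- From an invariant additive lift of the classes to a section. -/
theorem section_of (τ : (Fin m → F) → E.Γ)
    (hmap : ∀ b, ∃ s, Ok hF b s ∧ E.ξ (τ b) = Fr.X b s)
    (hadd : ∀ b b', Eqv hΦ (τ (b + b')) (τ b * τ b'))
    (hconj : ∀ (g : E.Γ) (B : (Fin m → F) → Fin m → F), Fr.Acts (E.ξ g) 1 B →
      mat (E.ξ g) *ᵥ Fr.f = Fr.f → ∀ b, Eqv hΦ (τ (B b)) (g * τ b * g⁻¹)) :
    ∃ N : Subgroup E.Γ, E.IsSection Fr N := by
  have hτ : ∀ b, E.ξ (τ b) ∈ Fr.HX := fun b => by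
    obtain ⟨s, hs, e⟩ := hmap b; rw [e]; exact Fr.X_mem hs
  have hτ0 : Eqv hΦ (τ 0) 1 := by
    have h := hadd 0 0
    rw [add_zero, Eqv, inv_mul_cancel_left] at h
    rw [Eqv, mul_one]
    exact inv_mem h
  let N : Subgroup E.Γ :=
    { carrier := {x | ∃ b, Eqv hΦ (τ b) x}
      one_mem' := ⟨0, hτ0⟩
      mul_mem' := fun {x y} ⟨b, hb⟩ ⟨b', hb'⟩ =>
        ⟨b + b', eqv_trans hΦ (hadd b b') (eqv_mul hΦ hm1 h32 (hτ b') hb hb')⟩
      inv_mem' := fun {x} ⟨b, hb⟩ => by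
        refine ⟨-b, ?_⟩
        have h1 : Eqv hΦ (τ (-b) * τ b) 1 := by
          refine eqv_trans hΦ (eqv_symm hΦ ?_) hτ0
          have := hadd (-b) b
          rwa [neg_add_cancel] at this
        have h2 : Eqv hΦ (τ (-b)) (τ b)⁻¹ := by
          have := eqv_mul hΦ hm1 h32 (x' := (τ b)⁻¹) (by rw [map_inv]; exact inv_mem (hτ b)) h1 (eqv_refl hΦ _)
          rwa [mul_inv_cancel_right, one_mul] at this
        refine eqv_trans hΦ h2 ?_
        obtain ⟨c, hc, e⟩ := (hb : (τ b)⁻¹ * x ∈ zs hΦ)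
        have h3 : x = τ b * Φ c := by rw [← e, mul_inv_cancel_left]
        rw [Eqv, h3, _root_.mul_inv_rev, inv_inv, ← mul_assoc,
          ((zs_comm hΦ hm1 h32 ⟨c, hc, rfl⟩ (hτ b)).inv_left.eq).symm, mul_inv_cancel_right]
        exact inv_mem ⟨c, hc, rfl⟩ }
  refine ⟨N, ⟨?_, ?_, ?_, ?_⟩⟩
  · rintro x ⟨b, hb⟩ hx
    obtain ⟨s, hs, e⟩ := hmap b
    obtain ⟨c, hc, he⟩ := hb
    have h1 := congrArg E.ξ he
    rw [map_mul, map_inv, hx, mul_one, e, hΦ.map c hc, Fr.X_inv hs] at h1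
    have hs' : Ok hF (-b) (σ s) := by
      unfold Ok at *
      rw [← neg_one_smul F b, h_smul_left, h_smul_right hF, map_neg, map_one, frob_frob hF]
      linear_combination hs
    have hb0 : b = 0 := neg_eq_zero.mp (Fr.X_inj hs' ((ok_zero hF).mpr hc) h1).1
    subst hb0
    have hx0 : (1 : E.Γ)⁻¹ * x ∈ zs hΦ := eqv_trans hΦ (eqv_symm hΦ hτ0) ⟨c, hc, he⟩
    rw [inv_one, one_mul] at hx0
    obtain ⟨d, hd, rfl⟩ := hx0
    rw [hΦ.map d hd] at hx
    rw [(Fr.X_eq_one ((ok_zero hF).mpr hd) hx).2, hΦ.zero]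
  · rintro x ⟨b, hb⟩
    obtain ⟨c, hc, he⟩ := hb
    rw [show x = τ b * Φ c by rw [← he, mul_inv_cancel_left], map_mul, hΦ.map c hc]
    exact mul_mem (hτ b) (Fr.X_mem ((ok_zero hF).mpr hc))
  · intro a s hs
    obtain ⟨s', hs', e⟩ := hmap a
    obtain ⟨c, hc, he⟩ := Fr.X_split hs hs'
    refine ⟨τ a * Φ c, ⟨a, by rw [Eqv, inv_mul_cancel_left]; exact ⟨c, hc, rfl⟩⟩, ?_⟩
    rw [map_mul, e, hΦ.map c hc, he, (Fr.X_zero_comm hc hs').eq]
  · intro g hge hgf x ⟨b, hb⟩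
    have hg := Fr.acts_of_fix hge hgf
    refine ⟨_, eqv_trans hΦ (hconj g _ hg hgf b) ?_⟩
    obtain ⟨c, hc, he⟩ := hb
    rw [Eqv, show (g * τ b * g⁻¹)⁻¹ * (g * x * g⁻¹) = g * ((τ b)⁻¹ * x) * g⁻¹ by group, he,
      hΦ.conj hm1 h32 hg hc, map_one, one_mul, one_mul]
    exact ⟨c, hc, rfl⟩

include hΦ in
/-- Scalar scalings give a section. -/
theorem section_scalar {t : Cfsg.SU n F q} {lam μ ν : F}
    (ht : Fr.Acts t lam (fun a k => ν * a k)) (ht' : mat t *ᵥ Fr.f = μ • Fr.f) (hα : σ lam * ν ≠ 1) :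
    ∃ N : Subgroup E.Γ, E.IsSection Fr N := by
  have hα' : σ lam * ν - 1 ≠ 0 := sub_ne_zero.mpr hα
  refine section_of hΦ hm1 h32 (fun b => T E Fr t ((σ lam * ν - 1)⁻¹ • b)) (fun b => ?_) (fun b b' => ?_)
    fun g B hg hgf b => ?_
  · obtain ⟨s, hs, e⟩ := T_class hm1 h32 ht ((σ lam * ν - 1)⁻¹ • b)
    have hb : (σ lam • fun k => ν * ((σ lam * ν - 1)⁻¹ • b) k) - (σ lam * ν - 1)⁻¹ • b = b := by
      funext k
      simp only [Pi.smul_apply, Pi.sub_apply, smul_eq_mul]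
      linear_combination b k * inv_mul_cancel₀ hα'
    simp only [hb] at hs e
    exact ⟨s, hs, e⟩
  · rw [smul_add]; exact T_add hΦ hm1 h32 ht _ _
  · have hBsmul : ∀ (c : F) a, B (c • a) = c • B a := fun c a =>
      Fr.vec_injective (by rw [← hg.2, Fr.vec_smul, mulVec_smul, hg.2, Fr.vec_smul])
    rw [← hBsmul]
    refine T_conj hΦ hm1 h32 ht hg ht ?_ _
    rw [mul_inv_eq_iff_eq_mul]
    refine Fr.ext ?_ ?_ fun a => ?_
    · rw [mat_mul, mat_mul, ← mulVec_mulVec, ← mulVec_mulVec, ht.1, hg.1, mulVec_smul, hg.1, mulVec_smul, ht.1,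
        one_smul, one_smul]
    · rw [mat_mul, mat_mul, ← mulVec_mulVec, ← mulVec_mulVec, ht', mulVec_smul, hgf, ht']
    · rw [mat_mul, mat_mul, ← mulVec_mulVec, ← mulVec_mulVec, ht.2, hg.2, hg.2, ht.2]
      refine congrArg Fr.vec ?_
      show B (ν • a) = ν • B a
      exact hBsmul ν a

omit hm1 h32 in
include hF in
theorem fixed_two (hq : q = 2) {x : F} (hx : σ x = x) (hx0 : x ≠ 0) : x = 1 := by
  rw [frob_apply, hq, sq] at hx
  exact mul_right_cancel₀ hx0 (hx.trans (one_mul x).symm)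

include hΦ in
/-- The case of two scalars and a rank divisible by three. -/
theorem section_two (hq : q = 2) (hm7 : 7 ≤ m) : ∃ N : Subgroup E.Γ, E.IsSection Fr N := by
  classical
  obtain ⟨ω, hω1, hω⟩ := exists_omega hF
  have hω3 : ω * ω * ω = 1 := by
    rw [frob_apply, hq] at hω
    linear_combination hω
  set α := σ ω with hαdef
  have hα1 : α ≠ 1 := fun e => hω1 (by rw [← frob_frob hF ω, ← hαdef, e, map_one])
  have hα' : α - 1 ≠ 0 := sub_ne_zero.mpr hα1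
  let P : (Fin m → F) → Prop := fun a => Cfsg.hermForm m F q a a = 1
  -- the elements
  have htA : ∀ a, P a → ∃ t : Cfsg.SU n F q, Fr.Acts t ω (fun b => b + ((ω - 1) * Cfsg.hermForm m F q b a) • a) ∧
      mat t *ᵥ Fr.f = ω • Fr.f := by
    intro a ha
    let v : Fin 2 ⊕ Fin 1 → Fin n → F := Sum.elim ![Fr.e, Fr.f] fun _ => Fr.vec a
    have hG : ∀ i j, Cfsg.hermForm n F q (v i) (v j) = if j = Frame.pr 1 i then 1 else 0 := by
      intro i j
      rcases i with i | i <;> rcases j with j | j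
      · fin_cases i <;> fin_cases j <;> simp [v, pr_inl, Fr.he, Fr.hf, Fr.hef, Fr.hfe]
      · fin_cases i <;> simp [v, pr_inl, Fr.e_vec, Fr.f_vec]
      · fin_cases j <;> simp [v, pr_inr, Fr.vec_e, Fr.vec_f]
      · have hij : j = i := Subsingleton.elim j i
        simp [v, pr_inr, Fr.vec_h, hij, show Cfsg.hermForm m F q a a = 1 from ha]
    let t := ps hF v (Frame.pr 1) (pr_pr 1) hG (fun _ => ω) (fun _ => hω)
      (by rw [Finset.prod_const, Finset.card_univ, Fintype.card_sum, Fintype.card_fin, Fintype.card_fin,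
        show 2 + 1 = 3 from rfl, pow_succ, sq, hω3])
    refine ⟨t, ⟨ps_apply hF v _ _ hG _ _ _ (Sum.inl 0), fun b => ?_⟩, ps_apply hF v _ _ hG _ _ _ (Sum.inl 1)⟩
    rw [ps_mulVec, Fintype.sum_sum_type, Fin.sum_univ_two, Fin.sum_univ_one]
    simp [v, pr_inl, pr_inr, Fr.vec_e, Fr.vec_f, Fr.vec_h, Fr.vec_add, Fr.vec_smul]
  choose! tA htA1 htA2 using htA
  have hcl : ∀ a, P a → ∀ b, Cfsg.hermForm m F q b a = 0 →
      (σ ω • (b + ((ω - 1) * Cfsg.hermForm m F q b a) • a)) - b = (α - 1) • b := fun a _ b hb => by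
    rw [hb, mul_zero, zero_smul, add_zero, sub_smul, one_smul]
  let τa : (Fin m → F) → (Fin m → F) → E.Γ := fun a b => T E Fr (tA a) ((α - 1)⁻¹ • b)
  have hτmap : ∀ a, P a → ∀ b, Cfsg.hermForm m F q b a = 0 →
      ∃ s, Ok hF b s ∧ E.ξ (τa a b) = Fr.X b s := by
    intro a ha b hb
    obtain ⟨s, hs, e⟩ := T_class hm1 h32 (htA1 a ha) ((α - 1)⁻¹ • b)
    have hb' : (σ ω • ((α - 1)⁻¹ • b + ((ω - 1) * Cfsg.hermForm m F q ((α - 1)⁻¹ • b) a) • a)) -
        (α - 1)⁻¹ • b = b := by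
      rw [hcl a ha _ (by rw [h_smul_left, hb, mul_zero]), smul_inv_smul₀ hα']
    simp only [hb'] at hs e
    exact ⟨s, hs, e⟩
  have hcons : ∀ a a', P a → P a' → Cfsg.hermForm m F q a a' = 0 → ∀ b, Cfsg.hermForm m F q b a = 0 →
      Cfsg.hermForm m F q b a' = 0 → Eqv hΦ (τa a b) (τa a' b) := by
    intro a a' ha ha' haa b hb hb'
    have ha'a : Cfsg.hermForm m F q a' a = 0 := by rw [← h_swap hF a a', haa, map_zero]
    set u := ((α - 1)⁻¹ * (α - 1)⁻¹) • b with hu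
    have hu1 : Cfsg.hermForm m F q u a = 0 := by rw [hu, h_smul_left, hb, mul_zero]
    have hu2 : Cfsg.hermForm m F q u a' = 0 := by rw [hu, h_smul_left, hb', mul_zero]
    have hu3 : (α - 1) • u = (α - 1)⁻¹ • b := by
      rw [hu, smul_smul, ← mul_assoc, mul_inv_cancel₀ hα', one_mul]
    set x := E.lx Fr u
    set A := E.L (tA a)
    set B := E.L (tA a')
    have hAB : E.ξ (A * B) = E.ξ (B * A) := by
      rw [map_mul, map_mul, E.hL, E.hL]
      refine Fr.ext ?_ ?_ fun c => ?_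
      · rw [mat_mul, mat_mul, ← mulVec_mulVec, ← mulVec_mulVec, (htA1 a' ha').1, mulVec_smul, (htA1 a ha).1,
          mulVec_smul, (htA1 a' ha').1]
      · rw [mat_mul, mat_mul, ← mulVec_mulVec, ← mulVec_mulVec, htA2 a' ha', mulVec_smul, htA2 a ha, mulVec_smul,
          htA2 a' ha']
      · rw [mat_mul, mat_mul, ← mulVec_mulVec, ← mulVec_mulVec, (htA1 a' ha').2, (htA1 a ha).2, (htA1 a ha).2,
          (htA1 a' ha').2]
        congr 1
        simp only [h_add_left, h_smul_left, haa, ha'a, mul_zero, add_zero]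
        abel
    have key : ∀ a a', P a → P a' → Cfsg.hermForm m F q u a' = 0 → (α - 1) • u = (α - 1)⁻¹ • b →
        Eqv hΦ (τa a b) ⁅E.L (tA a), ⁅E.L (tA a'), x⁆⁆ := by
      intro a a' ha ha' hu2 hu3
      obtain ⟨s, hs, e⟩ := T_class hm1 h32 (htA1 a' ha') u
      simp only [hcl a' ha' u hu2, hu3] at hs e
      exact T_indep hΦ hm1 h32 (htA1 a ha) hs (E.hL _) e
    refine eqv_trans hΦ (key a a' ha ha' hu2 hu3) (eqv_trans hΦ ?_ (eqv_symm hΦ (key a' a ha' ha hu1 hu3)))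
    show Eqv hΦ ⁅A, ⁅B, x⁆⁆ ⁅B, ⁅A, x⁆⁆
    have hx : E.ξ x ∈ Fr.HX := E.lx_mem Fr u
    have hA : Fr.Acts (E.ξ A) ω (fun b => b + ((ω - 1) * Cfsg.hermForm m F q b a) • a) := by rw [E.hL]; exact htA1 a ha
    have hB : Fr.Acts (E.ξ B) ω (fun b => b + ((ω - 1) * Cfsg.hermForm m F q b a') • a') := by rw [E.hL]; exact htA1 a' ha'
    have hxi : E.ξ x⁻¹ ∈ Fr.HX := by rw [map_inv]; exact inv_mem hx
    have eP : A * (B * x * B⁻¹) * A⁻¹ = B * (A * x * A⁻¹) * B⁻¹ := by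
      obtain ⟨k, hk, hke⟩ : ∃ k, E.ξ k = 1 ∧ A * B = B * A * k :=
        ⟨(B * A)⁻¹ * (A * B), by rw [map_mul, map_inv, hAB, inv_mul_cancel], by group⟩
      calc A * (B * x * B⁻¹) * A⁻¹ = (A * B) * x * (A * B)⁻¹ := by group
        _ = (B * A) * (k * x) * k⁻¹ * (B * A)⁻¹ := by rw [hke]; group
        _ = (B * A) * (x * k) * k⁻¹ * (B * A)⁻¹ := by rw [(ker_comm E.hc hk x).eq]
        _ = _ := by group
    set P₁ := A * (B * x * B⁻¹) * A⁻¹
    set Q := A * x⁻¹ * A⁻¹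
    set R := B * x⁻¹ * B⁻¹
    have e1 : ⁅A, ⁅B, x⁆⁆ = P₁ * ((Q * x) * R) := by
      simp only [P₁, Q, R, commutatorElement_def]; group
    have e2 : ⁅B, ⁅A, x⁆⁆ = P₁ * (R * (x * Q)) := by
      rw [eP]
      simp only [Q, R, commutatorElement_def]; group
    have hQ : E.ξ Q ∈ Fr.HX := conj_HX hm1 h32 hA hxi
    have hR : E.ξ R ∈ Fr.HX := conj_HX hm1 h32 hB hxi
    have hQx : E.ξ (Q * x) ∈ Fr.HX := by rw [map_mul]; exact mul_mem hQ hx
    rw [e1, e2]
    refine eqv_mul hΦ hm1 h32 (by rw [map_mul]; exact mul_mem hQx hR) (eqv_refl hΦ P₁) ?_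
    exact eqv_trans hΦ (eqv_comm hΦ hm1 h32 hQx hR)
      (eqv_mul hΦ hm1 h32 hQx (eqv_refl hΦ R) (eqv_comm hΦ hm1 h32 hQ hx))
  have hsym : ∀ {x y : Fin m → F}, Cfsg.hermForm m F q x y = 0 → Cfsg.hermForm m F q y x = 0 :=
    fun {x y} h => by rw [← h_swap hF x y, h, map_zero]
  have hthree : ∀ u v w : Fin m → F, ∃ a, P a ∧ Cfsg.hermForm m F q u a = 0 ∧
      Cfsg.hermForm m F q v a = 0 ∧ Cfsg.hermForm m F q w a = 0 := by
    intro u v w
    obtain ⟨a, ha, ha0⟩ := exists_aniso (hF := hF) hm7 ![u, v, w]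
    exact ⟨a, fixed_two hq (h_swap hF a a) ha0, hsym (ha 0), hsym (ha 1), hsym (ha 2)⟩
  have hindep : ∀ a a', P a → P a' → ∀ b, Cfsg.hermForm m F q b a = 0 →
      Cfsg.hermForm m F q b a' = 0 → Eqv hΦ (τa a b) (τa a' b) := by
    intro a a' ha ha' b hb hb'
    obtain ⟨c, hc, h1, h2, h3⟩ := hthree a a' b
    exact eqv_trans hΦ (hcons a c ha hc h1 b hb h3) (eqv_symm hΦ (hcons a' c ha' hc h2 b hb' h3))
  choose pick hpick using fun b : Fin m → F => hthree b b b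
  refine section_of hΦ hm1 h32 (fun b => τa (pick b) b) (fun b => hτmap _ (hpick b).1 b (hpick b).2.1)
    (fun b b' => ?_) fun g B hg hgf b => ?_
  · obtain ⟨a, ha, h1, h2, -⟩ := hthree b b' b
    have h12 : Cfsg.hermForm m F q (b + b') a = 0 := by rw [h_add_left, h1, h2, add_zero]
    refine eqv_trans hΦ (hindep _ a (hpick _).1 ha _ (hpick _).2.1 h12) ?_
    refine eqv_trans hΦ (y := τa a b * τa a b') ?_ ?_
    · show Eqv hΦ (T E Fr (tA a) ((α - 1)⁻¹ • (b + b'))) _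
      rw [smul_add]; exact T_add hΦ hm1 h32 (htA1 a ha) _ _
    · exact eqv_mul hΦ hm1 h32 (T_mem hm1 h32 (htA1 a ha) _) (hindep a _ ha (hpick b).1 b h1 (hpick b).2.1)
        (hindep a _ ha (hpick b').1 b' h2 (hpick b').2.1)
  · obtain ⟨a, ha, ha'⟩ : ∃ a, P a ∧ Cfsg.hermForm m F q b a = 0 := ⟨pick b, (hpick b).1, (hpick b).2.1⟩
    have hBa : P (B a) := (hg.herm a a).trans ha
    have hBb : Cfsg.hermForm m F q (B b) (B a) = 0 := (hg.herm b a).trans ha'
    have hBsmul : ∀ (c : F) a, B (c • a) = c • B a := fun c a =>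
      Fr.vec_injective (by rw [← hg.2, Fr.vec_smul, mulVec_smul, hg.2, Fr.vec_smul])
    have he : E.ξ g * tA a * (E.ξ g)⁻¹ = tA (B a) := by
      rw [mul_inv_eq_iff_eq_mul]
      refine Fr.ext ?_ ?_ fun c => ?_
      · rw [mat_mul, mat_mul, ← mulVec_mulVec, ← mulVec_mulVec, (htA1 a ha).1, mulVec_smul, hg.1, mulVec_smul,
          (htA1 _ hBa).1, one_smul, one_smul]
      · rw [mat_mul, mat_mul, ← mulVec_mulVec, ← mulVec_mulVec, htA2 a ha, mulVec_smul, hgf, htA2 _ hBa]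
      · rw [mat_mul, mat_mul, ← mulVec_mulVec, ← mulVec_mulVec, (htA1 a ha).2, hg.2, hg.2, (htA1 _ hBa).2]
        congr 1
        rw [hg.map_add, hBsmul]
        show _ = B c + ((ω - 1) * Cfsg.hermForm m F q (B c) (B a)) • B a
        rw [hg.herm]
    refine eqv_trans hΦ (hindep _ (B a) (hpick _).1 hBa _ (hpick _).2.1 hBb) ?_
    refine eqv_trans hΦ (y := g * τa a b * g⁻¹) ?_ ?_
    · show Eqv hΦ (T E Fr (tA (B a)) ((α - 1)⁻¹ • B b)) _
      rw [← hBsmul]
      exact T_conj hΦ hm1 h32 (htA1 _ hBa) hg (htA1 a ha) he _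
    · obtain ⟨c, hc, e⟩ := hindep a _ ha (hpick b).1 b ha' (hpick b).2.1
      rw [Eqv, show (g * τa a b * g⁻¹)⁻¹ * (g * τa (pick b) b * g⁻¹) =
        g * ((τa a b)⁻¹ * τa (pick b) b) * g⁻¹ by group, e, hΦ.conj hm1 h32 hg hc, map_one, one_mul, one_mul]
      exact ⟨c, hc, rfl⟩

omit hm1 h32 in
/-- The section exists outside the exceptional parameters. -/
theorem exists_section (E : Ext.{u, v} F q n) (Fr : Frame (F := F) (q := q) hF n m) (hm1 : 1 ≤ m)
    (h32 : m = 1 → q ≠ 2) (hcase : 4 ≤ q ∨ m ≠ 2) (h6 : ¬ (q = 2 ∧ m = 4)) :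
    ∃ N : Subgroup E.Γ, E.IsSection Fr N := by
  obtain ⟨Φ, hΦ⟩ := E.exists_phi Fr hm1 h32 hcase
  have hq2 : 1 < q := (UnitaryBasic.frob_exists hF).1
  rcases Nat.lt_or_ge q 4 with hq | hq
  · rcases (show q = 2 ∨ q = 3 by omega) with hq' | hq'
    · -- two scalars
      obtain ⟨ω, hω1, hω⟩ := exists_omega hF
      have hω3 : ω * ω * ω = 1 := by
        rw [frob_apply, hq'] at hω
        linear_combination hω
      have hσω : σ ω = ω * ω := by rw [frob_apply, hq']; ring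
      have hω20 : (ω * ω) * σ (ω * ω) = 1 := by rw [map_mul, hσω]; linear_combination (ω * ω * ω + 1) * hω3
      have hω30 : ω ^ 3 = 1 := by linear_combination hω3
      have hn := Fr.hn
      by_cases h1 : n % 3 = 1
      · obtain ⟨k, hk⟩ : ∃ k, m = 3 * k + 2 := ⟨(n - 4) / 3, by omega⟩
        obtain ⟨t, ht, ht'⟩ := Fr.exists_diag ω ω (fun _ => ω * ω) hω (fun _ => hω20) (by
          rw [Finset.prod_const, Finset.card_univ, Fintype.card_fin, hk, ← sq, ← pow_mul, ← pow_add,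
            show 2 + 2 * (3 * k + 2) = 3 * (2 * k + 2) by ring, pow_mul, hω30, one_pow])
        refine section_scalar hΦ hm1 h32 ht ht' ?_
        rw [hσω, show ω * ω * (ω * ω) = ω by linear_combination ω * hω3]
        exact hω1
      · by_cases h2 : n % 3 = 2
        · obtain ⟨k, hk⟩ : ∃ k, m = 3 * k := ⟨(n - 2) / 3, by omega⟩
          obtain ⟨t, ht, ht'⟩ := Fr.exists_diag 1 1 (fun _ => ω) (by simp) (fun _ => hω) (by
            rw [Finset.prod_const, Finset.card_univ, Fintype.card_fin, hk, pow_mul, hω30, one_pow]; simp)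
          refine section_scalar hΦ hm1 h32 ht ht' ?_
          rw [map_one, one_mul]; exact hω1
        · have : m ≠ 1 := fun e => h32 e hq'
          exact section_two hΦ hm1 h32 hq' (by omega)
    · -- three scalars
      haveI : CharP F 3 := charP_of_card_eq_prime_pow (f := 2) (by rw [hF, hq'])
      obtain ⟨t, ht, ht'⟩ := Fr.exists_diag (-1) (-1) (fun _ => 1) (by simp) (fun _ => by simp) (by simp)
      refine section_scalar hΦ hm1 h32 ht ht' ?_
      rw [map_neg, map_one, mul_one]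
      intro e
      have h2 : ((2 : ℕ) : F) = 0 := by push_cast; linear_combination -e
      rw [CharP.cast_eq_zero_iff F 3] at h2
      omega
  · classical
    obtain ⟨T, hT, hTmem⟩ := exists_fixed (hF := hF) hm1 h32
    obtain ⟨s, hsT, hs'⟩ := Finset.exists_mem_notMem_of_card_lt_card (s := ({0, 1} : Finset F)) (t := T)
      (lt_of_le_of_lt Finset.card_le_two (by omega))
    simp only [Finset.mem_insert, Finset.mem_singleton, not_or] at hs'
    have hss : σ s = s := (hTmem s).mp hsT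
    obtain ⟨t, ht, ht'⟩ := Fr.exists_diag s s⁻¹ (fun _ => 1) (by rw [map_inv₀, hss, mul_inv_cancel₀ hs'.1])
      (fun _ => by simp) (by simp [mul_inv_cancel₀ hs'.1])
    refine section_scalar hΦ hm1 h32 ht ht' ?_
    rw [mul_one, hss]; exact hs'.2

end Ext

end

end CfsgLib.SUCover
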