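import Cfsg.Agent.Lib.SUCover.Basic
import Cfsg.Agent.Lib.SUCover.Arith

/-!
Two blocks: reduction of the vanishing from `SU_n(q)` to smaller unitary groups.
-/

set_option autoImplicit false
set_option linter.unusedSectionVars false

namespace CfsgLib.SUCover

open Matrix
open scoped commutatorElement
open CfsgLib.StemEll (Van PGen Lift Lift_conj Lift_surj Lift_inter)
open CfsgLib.SpCover (commute_congr ker_comm)
open CfsgLib.UnitarySimple (mat mat_mul)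

universe u v

/-- A commutator of products in a normalised subgroup. -/
theorem comm_mul_mem {Γ : Type v} [Group Γ] {L : Subgroup Γ} {t₁ t₂ s₁ s₂ : Γ}
    (h : ∀ g, (g = t₁ ∨ g = t₂) → ∀ x ∈ L, g * x * g⁻¹ ∈ L) (h₁ : s₁ ∈ L) (h₂ : s₂ ∈ L)
    (hc : Commute t₁ t₂) : ⁅t₁ * s₁, t₂ * s₂⁆ ∈ L := by
  have e : ⁅t₁ * s₁, t₂ * s₂⁆ = (t₁ * s₁ * t₁⁻¹) * (t₁ * (t₂ * (s₂ * s₁⁻¹) * t₂⁻¹) * t₁⁻¹) *
      (t₁ * t₂ * t₁⁻¹ * s₂⁻¹ * t₂⁻¹) := by rw [commutatorElement_def]; group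
  rw [e]
  refine mul_mem (mul_mem (h _ (Or.inl rfl) _ h₁) (h _ (Or.inl rfl) _ (h _ (Or.inr rfl) _
    (mul_mem h₂ (inv_mem h₁))))) ?_
  rw [hc.eq, mul_inv_cancel_right]
  exact h _ (Or.inr rfl) _ (inv_mem h₂)

/-- Commutators of a group generated by a set. -/
theorem comm_closure_mem {Γ : Type v} [Group Γ] {H D : Subgroup Γ} {S : Set Γ}
    (hgen : H ≤ Subgroup.closure S) (hSH : S ⊆ H) (hD : ∀ g ∈ H, ∀ d ∈ D, g * d * g⁻¹ ∈ D)
    (hS : ∀ a ∈ S, ∀ b ∈ S, ⁅a, b⁆ ∈ D) {a b : Γ} (ha : a ∈ H) (hb : b ∈ H) : ⁅a, b⁆ ∈ D := by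
  have step : ∀ s, s ∈ H → (∀ t ∈ S, ⁅s, t⁆ ∈ D) → ∀ y, y ∈ H → ⁅s, y⁆ ∈ D := by
    intro s _ hst y hy
    let T : Subgroup Γ :=
      { carrier := {y | y ∈ H ∧ ⁅s, y⁆ ∈ D}
        one_mem' := ⟨one_mem H, by rw [commutatorElement_one_right]; exact one_mem D⟩
        mul_mem' := fun {x y} hx hy => ⟨mul_mem hx.1 hy.1, by
          rw [show ⁅s, x * y⁆ = ⁅s, x⁆ * (x * ⁅s, y⁆ * x⁻¹) by simp only [commutatorElement_def]; group]
          exact mul_mem hx.2 (hD x hx.1 _ hy.2)⟩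
        inv_mem' := fun {x} hx => ⟨inv_mem hx.1, by
          rw [show ⁅s, x⁻¹⁆ = x⁻¹ * ⁅s, x⁆⁻¹ * x⁻¹⁻¹ by simp only [commutatorElement_def]; group]
          exact hD _ (inv_mem hx.1) _ (inv_mem hx.2)⟩ }
    exact ((Subgroup.closure_le T).mpr (fun t ht => (⟨hSH ht, hst t ht⟩ : t ∈ T)) (hgen hy)).2
  refine step a ha (fun t ht => ?_) b hb
  rw [← commutatorElement_inv]
  exact inv_mem (step t (hSH ht) (fun t' ht' => hS t ht t' ht') a ha)

theorem coprime_of_val_zero {ℓ n : ℕ} (hℓ : ℓ.Prime) (hn : n ≠ 0) (h : val ℓ n = 0) : n.Coprime ℓ := by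
  rw [Nat.coprime_comm, hℓ.coprime_iff_not_dvd]
  intro hd
  exact absurd h (Nat.pos_iff_ne_zero.mp (hℓ.factorization_pos_of_dvd hn hd))

variable {F : Type u} [Field F] [Fintype F] {q : ℕ} (hF : Fintype.card F = q ^ 2)

include hF

theorem card_GU_ne_zero (n : ℕ) : Nat.card (Cfsg.GU n F q) ≠ 0 := Nat.card_pos.ne'

theorem card_P2 (a b : ℕ) :
    Nat.card (P2 hF (a + 1) b) * (q + 1) = Nat.card (Cfsg.GU (a + 1) F q) * Nat.card (Cfsg.GU b F q) := by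
  let φ := (detU hF (a + 1)).comp (MonoidHom.fst (Cfsg.GU (a + 1) F q) (Cfsg.GU b F q)) *
    (detU hF b).comp (MonoidHom.snd _ _)
  have hs : Function.Surjective φ := fun u => ⟨(dg a u, 1), by simp [φ, detU_dg]⟩
  have h := Subgroup.card_eq_card_quotient_mul_card_subgroup φ.ker
  rw [Nat.card_congr (QuotientGroup.quotientKerEquivOfSurjective φ hs).toEquiv, card_muq hF, Nat.card_prod] at h
  rw [h, mul_comm]
  rfl

/-- The vanishing for two blocks. -/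
theorem van_two {ℓ p : ℕ} [CharP F p] (hℓ : ℓ.Prime) (hpl : p.Coprime ℓ) {a b n : ℕ}
    (e : Fin (a + 1) ⊕ Fin (b + 1) ≃ Fin n)
    (hv : vGU q ℓ n = vGU q ℓ (a + 1) + vGU q ℓ (b + 1))
    (hva : Van ℓ (Cfsg.SU (a + 1) F q)) (hvb : Van ℓ (Cfsg.SU (b + 1) F q)) : Van ℓ (Cfsg.SU n F q) := by
  classical
  have hn : 1 ≤ n := by have := Fintype.card_congr e; simp at this; omega
  have hq' : ¬ ℓ ∣ q := by
    obtain ⟨hpp, j, -, rfl⟩ := q_pow hF (p := p)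
    exact fun h => ((Nat.coprime_primes hpp hℓ).mp hpl) ((Nat.prime_dvd_prime_iff_eq hℓ hpp).mp (hℓ.dvd_of_dvd_pow h)).symm
  set M := (T2 hF e).range with hM
  have hidx : M.index.Coprime ℓ := by
    have hne : M.index ≠ 0 := Subgroup.index_ne_zero_of_finite
    refine coprime_of_val_zero hℓ hne ?_
    have h1 := Subgroup.index_mul_card M
    rw [hM, ← Nat.card_congr (MonoidHom.ofInjective (T2_injective hF e)).toEquiv] at h1
    have h2 : M.index * (Nat.card (Cfsg.GU (a + 1) F q) * Nat.card (Cfsg.GU (b + 1) F q)) =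
        Nat.card (Cfsg.GU n F q) := by
      rw [← card_P2 hF a (b + 1), ← mul_assoc, hM, h1, card_GU_SU hF hn, mul_comm]
    have h3 := congrArg (val ℓ) h2
    rw [val_mul hℓ hne (mul_ne_zero (card_GU_ne_zero hF _) (card_GU_ne_zero hF _)),
      val_mul hℓ (card_GU_ne_zero hF _) (card_GU_ne_zero hF _), val_card_GU hℓ hF hq', val_card_GU hℓ hF hq',
      val_card_GU hℓ hF hq', hv] at h3
    omega
  refine StemEll.van_of_subgroup hidx fun Γ _ _ σ hs hc hK z hz hzM => ?_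
  set N := (S2 hF e).range with hN
  have hNp : PGen p N := by
    rw [hN, MonoidHom.range_eq_map]
    exact (PGen.top_prod (pgen_SU hF (p := p) (a + 1)) (pgen_SU hF (p := p) (b + 1))).map _
  have hNv : Van ℓ N := (StemEll.van_prod hpl (pgen_SU hF (a + 1)) (pgen_SU hF (b + 1)) hva hvb).of_equiv
    (MonoidHom.ofInjective (S2_injective hF e))
  have hS : ∀ s : Cfsg.SU (a + 1) F q × Cfsg.SU (b + 1) F q, ∃ y : P2 hF (a + 1) (b + 1),
      T2 hF e y = S2 hF e s ∧ detU hF (a + 1) y.1.1 = 1 := by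
    intro s
    let ga : Cfsg.GU (a + 1) F q := ⟨SpecialLinearGroup.toGL s.1.1, s.1.2⟩
    let gb : Cfsg.GU (b + 1) F q := ⟨SpecialLinearGroup.toGL s.2.1, s.2.2⟩
    have h1 : detU hF (a + 1) ga = 1 := Subtype.ext (Units.ext s.1.1.2)
    have h2 : detU hF (b + 1) gb = 1 := Subtype.ext (Units.ext s.2.1.2)
    refine ⟨⟨(ga, gb), ?_⟩, su_eq_of_mat rfl, h1⟩
    show detU hF (a + 1) ga * detU hF (b + 1) gb = 1
    rw [h1, h2, one_mul]
  have hrange : ∀ y : P2 hF (a + 1) (b + 1), detU hF (a + 1) y.1.1 = 1 → T2 hF e y ∈ N := by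
    intro y hy
    have hy2 : detU hF (b + 1) y.1.2 = 1 := by
      have := MonoidHom.mem_ker.mp y.2
      simpa [hy] using this
    exact ⟨(guToSU hF _ hy, guToSU hF _ hy2), su_eq_of_mat rfl⟩
  have hnorm : ∀ x ∈ M, ∀ h ∈ N, x * h * x⁻¹ ∈ N := by
    rintro _ ⟨y, rfl⟩ _ ⟨s, rfl⟩
    obtain ⟨y', hy', hd⟩ := hS s
    rw [← hy', ← map_mul, ← map_inv, ← map_mul]
    refine hrange _ ?_
    simp [hd]
  let τ : muq (F := F) (q := q) →* P2 hF (a + 1) (b + 1) :=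
    (((dg a).comp (MonoidHom.id _)).prod ((dg b).comp (MonoidHom.id (muq (F := F) (q := q)))⁻¹)).codRestrict _
      fun u => by simp [P2, MonoidHom.mem_ker, detU_dg]
  have hdec : ∀ x ∈ M, ∃ u : muq (F := F) (q := q), ∃ h ∈ N, x = T2 hF e (τ u) * h := by
    rintro _ ⟨y, rfl⟩
    refine ⟨detU hF (a + 1) y.1.1, T2 hF e ((τ (detU hF (a + 1) y.1.1))⁻¹ * y), hrange _ ?_, ?_⟩
    · simp [τ, detU_dg]
    · rw [← map_mul, mul_inv_cancel_left]
  obtain ⟨g, hg⟩ := IsCyclic.exists_generator (α := muq (F := F) (q := q))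
  obtain ⟨g', hg'⟩ := hs (T2 hF e (τ g))
  have hgM : ∀ i : ℤ, T2 hF e (τ g) ^ i ∈ M := fun i => zpow_mem (MonoidHom.mem_range.mpr ⟨τ g, rfl⟩) i
  set L := Lift σ p N with hL
  have hnormL : ∀ x : Γ, σ x ∈ M → ∀ l ∈ L, x * l * x⁻¹ ∈ L := fun x hx l hl =>
    Lift_conj (hnorm _ hx) hl
  have hle : ⁅M.comap σ, M.comap σ⁆ ≤ L := by
    rw [Subgroup.commutator_le]
    intro x hx y hy
    have hd : ∀ w : Γ, σ w ∈ M → ∃ i : ℤ, ∃ l ∈ L, σ w = σ (g' ^ i * l) := by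
      intro w hw
      obtain ⟨u, h, hh, he⟩ := hdec _ hw
      obtain ⟨i, rfl⟩ := hg u
      obtain ⟨l, hl, hlh⟩ := Lift_surj hs hc hK hpl hNp hh
      exact ⟨i, l, hl, by rw [he, map_mul σ, map_zpow σ, hg', hlh, map_zpow, map_zpow]⟩
    obtain ⟨i, l, hl, he⟩ := hd x hx
    obtain ⟨j, m, hm, hf⟩ := hd y hy
    rw [StSL.comm_congr hc he hf]
    refine comm_mul_mem ?_ hl hm (Commute.zpow_zpow_self g' i j)
    rintro w (rfl | rfl) <;> exact hnormL _ (by rw [map_zpow, hg']; exact hgM _)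
  exact Lift_inter hs hc hK hpl hNv (hle hzM) hz

end CfsgLib.SUCover
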